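import Groth.Agent.H11QMap.Compare

/-!
# Composing a graded morphism with a homomorphism of the source
-/

set_option autoImplicit false
set_option linter.style.haveILetI false

noncomputable section

universe u

open CategoryTheory CategoryTheory.Limits AlgebraicGeometry TopologicalSpace Opposite RelProj
open HomogeneousLocalization
open scoped HomogeneousIdeal

namespace Groth.Agent.H11QMap

variable {S S' P P' : Scheme.{u}} {g : S' ⟶ S} {𝒮 𝒯 : QCGrAlg S} {𝒮' : QCGrAlg S'} (u : QGrHom g 𝒮 𝒮')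
  (v : 𝒯.toQCAlg ⟶ 𝒮.toQCAlg) (hv : IsGradedHom v) (u' : QGrHom g 𝒯 𝒮')
  (hu' : ∀ U : S.Opens, u'.app U = v.hom.app (op U) ≫ u.app U)
  {p : P ⟶ S} (chart : ∀ (U : S.Opens) (hU : IsAffineOpen U), (((p ⁻¹ᵁ U : P.Opens) : Scheme.{u}) ≅ Proj (𝒮.deg U hU)))
  {PT : Scheme.{u}} {pT : PT ⟶ S}
  (chartT : ∀ (U : S.Opens) (hU : IsAffineOpen U), (((pT ⁻¹ᵁ U : PT.Opens) : Scheme.{u}) ≅ Proj (𝒯.deg U hU)))
  {p' : P' ⟶ S'}
  (chart' : ∀ (U' : S'.Opens) (hU' : IsAffineOpen U'), (((p' ⁻¹ᵁ U' : P'.Opens) : Scheme.{u}) ≅ Proj (𝒮'.deg U' hU')))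

include hv hu' in
theorem gradedAt_comp (U : S.Opens) (hU : IsAffineOpen U) (U' : S'.Opens) (hU' : IsAffineOpen U')
    (hle : U' ≤ g ⁻¹ᵁ U) (x : 𝒯.presheaf.obj (op U)) :
    u'.gradedAt U hU U' hU' hle x = u.gradedAt U hU U' hU' hle (gradedHomAt v hv U hU x) := by
  simp only [QGrHom.gradedAt_apply, RelSpec.QHom.appLE, hu']
  rfl

include hv hu' in
theorem domQ_comp_le : domQ u' p' chart' ≤ domQ u p' chart' := fun z hz => by
  obtain ⟨U, hU, U', hU', hle, d, hd, f, hf, hz⟩ := (mem_domQ_iff u' chart' z).1 hz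
  rw [gradedAt_comp u v hv u' hu' U hU U' hU' hle] at hz
  exact cb_le_domQ u chart' U hU U' hU' hle hd _ (hv U hU d f hf) hz

variable (hP : IsRelProj 𝒮 p chart) (hT : IsRelProj 𝒯 pT chartT) (hP' : IsRelProj 𝒮' p' chart')
variable {r : (domQ u p' chart' : Scheme.{u}) ⟶ P} (hr : IsProjQMapOn u p chart p' chart' (domQ u p' chart') r)
variable {r' : (domQ u' p' chart' : Scheme.{u}) ⟶ PT}
  (hr' : IsProjQMapOn u' pT chartT p' chart' (domQ u' p' chart') r')

include hu' hP hT hP' hr hr'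

theorem isDominant_of_injective_high {n : ℕ}
    (hinj : ∀ k, n ≤ k → ∀ (U : S.Opens) (hU : IsAffineOpen U), ∀ x ∈ 𝒯.deg U hU k,
      gradedHomAt v hv U hU x = 0 → x = 0)
    (hdom : IsDominant r) : IsDominant r' := by
  refine (isDominant_iff_cb u' chartT chart' hT hP' hr').2 fun U hU d hd f hf h => ?_
  have hvf : gradedHomAt v hv U hU f ∈ 𝒮.deg U hU d := gmem (gradedHomAt v hv U hU) hf
  have h1 := (isDominant_iff_cb u chart chart' hP hP' hr).1 hdom U hU d hd _ hvf fun V hV hle => by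
    rw [← gradedAt_comp u v hv u' hu']
    exact h V hV hle
  obtain ⟨k, hk⟩ := isNilpotent_of_cb_eq_bot chart U hU hd hvf h1
  refine cb_eq_bot_of_isNilpotent chartT U hU ⟨k + n, ?_⟩
  refine hinj ((k + n) • d) ?_ U hU _ (SetLike.pow_mem_graded _ hf) ?_
  · rw [smul_eq_mul]
    exact le_trans (Nat.le_add_left n k) (Nat.le_mul_of_pos_right _ hd)
  · rw [map_pow, pow_add, hk, zero_mul]

theorem isDominant_of_surjective_high {n : ℕ}
    (hsurj : ∀ k, n ≤ k → ∀ (U : S.Opens) (hU : IsAffineOpen U), ∀ y ∈ 𝒮.deg U hU k,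
      ∃ x ∈ 𝒯.deg U hU k, gradedHomAt v hv U hU x = y)
    (hdom : IsDominant r') : IsDominant r := by
  refine (isDominant_iff_cb u chart chart' hP hP' hr).2 fun U hU d hd f hf h => ?_
  obtain ⟨x, hx, hxf⟩ := hsurj ((n + 1) • d) (by
    rw [smul_eq_mul]
    exact le_trans (Nat.le_succ n) (Nat.le_mul_of_pos_right _ hd)) U hU _ (SetLike.pow_mem_graded _ hf)
  have h1 := (isDominant_iff_cb u' chartT chart' hT hP' hr').1 hdom U hU _ (by positivity) x hx fun V hV hle => by
    rw [gradedAt_comp u v hv u' hu', hxf, map_pow, cb_pow V hV _ n.succ_pos]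
    exact h V hV hle
  obtain ⟨k, hk⟩ := isNilpotent_of_cb_eq_bot chartT U hU (by positivity) hx h1
  refine cb_eq_bot_of_isNilpotent chart U hU ⟨(n + 1) * k, ?_⟩
  rw [pow_mul, ← hxf, ← map_pow, hk, map_zero]

/-- `r'` is `r` followed by `Proj(v)`. -/
theorem exists_factor {Φ : (domQ (QGrHom.ofHom v hv) p chart : Scheme.{u}) ⟶ PT}
    (hΦ : IsProjQMapOn (QGrHom.ofHom v hv) pT chartT p chart (domQ (QGrHom.ofHom v hv) p chart) Φ) :
    ∃ l : (domQ u' p' chart' : Scheme.{u}) ⟶ (domQ (QGrHom.ofHom v hv) p chart : Scheme.{u}),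
      l ≫ (domQ (QGrHom.ofHom v hv) p chart).ι = P'.homOfLE (domQ_comp_le u v hv u' hu' chart') ≫ r ∧
        l ≫ Φ = r' := by
  let G := domQ (QGrHom.ofHom v hv) p chart
  have hrange : Set.range (P'.homOfLE (domQ_comp_le u v hv u' hu' chart') ≫ r) ⊆ Set.range G.ι := by
    rintro _ ⟨z, rfl⟩
    rw [Scheme.Opens.range_ι]
    obtain ⟨U, hU, U', hU', hle, d, hd, f, hf, hz⟩ := (mem_domQ_iff u' chart' _).1 z.2
    rw [gradedAt_comp u v hv u' hu'] at hz
    refine cb_le_domQ (QGrHom.ofHom v hv) chart U hU U hU le_rfl hd f hf ?_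
    rw [ofHom_gradedAt_eq]
    exact (qmap_mem_cb_iff u chart chart' hP hP' hr (P'.homOfLE (domQ_comp_le u v hv u' hu' chart') z) U hU U' hU'
      hle (by
        have e : (domQ u p' chart').ι (P'.homOfLE (domQ_comp_le u v hv u' hu' chart') z) =
            (domQ u' p' chart').ι z := by
          rw [← Scheme.Hom.comp_apply, Scheme.homOfLE_ι]
        rw [e]
        exact cb_le U' hU' _ hz) hd _ (hv U hU d f hf)).2 (by
        have e : (domQ u p' chart').ι (P'.homOfLE (domQ_comp_le u v hv u' hu' chart') z) =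
            (domQ u' p' chart').ι z := by
          rw [← Scheme.Hom.comp_apply, Scheme.homOfLE_ι]
        rw [e]
        exact hz)
  refine ⟨IsOpenImmersion.lift G.ι _ hrange, IsOpenImmersion.lift_fac _ _ _, ?_⟩
  refine qmap_unique u' chartT chart' ?_ hr'
  intro U hU U' hU' hle d hd f hf hW
  have key : ∀ (c : Spec (CommRingCat.of (Away (𝒮'.deg U' hU')
        (((u.gradedAt U hU U' hU' hle).comp ((QGrHom.ofHom v hv).gradedAt U hU U hU le_rfl)) f))) ⟶
        (domQ u' p' chart' : Scheme.{u})),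
      c ≫ (domQ u' p' chart').ι = Proj.awayι (𝒮'.deg U' hU')
        (((u.gradedAt U hU U' hU' hle).comp ((QGrHom.ofHom v hv).gradedAt U hU U hU le_rfl)) f)
        (gmem _ hf) hd ≫ emb p' chart' U' hU' →
      c ≫ IsOpenImmersion.lift G.ι _ hrange ≫ Φ =
        Spec.map (CommRingCat.ofHom (Away.map
          ((u.gradedAt U hU U' hU' hle).comp ((QGrHom.ofHom v hv).gradedAt U hU U hU le_rfl)) f)) ≫
          Proj.awayι (𝒯.deg U hU) f hf hd ≫ emb pT chartT U hU := by
    intro c hc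
    let A := u.gradedAt U hU U' hU' hle
    let B := (QGrHom.ofHom v hv).gradedAt U hU U hU le_rfl
    let j : Idx u := ⟨⟨U, hU⟩, ⟨U', hU'⟩, hle, d, hd, B f, gmem B hf⟩
    let i : Idx (QGrHom.ofHom v hv) := ⟨⟨U, hU⟩, ⟨U, hU⟩, le_rfl, d, hd, f, hf⟩
    have h1 : c ≫ P'.homOfLE (domQ_comp_le u v hv u' hu' chart') = lchart u chart' j := by
      rw [← cancel_mono (domQ u p' chart').ι, Category.assoc, Scheme.homOfLE_ι, hc]
      exact (lchart_ι u chart' j).symm
    have h2 : c ≫ IsOpenImmersion.lift G.ι _ hrange =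
        Spec.map (CommRingCat.ofHom (Away.map A (B f))) ≫ lchart (QGrHom.ofHom v hv) chart i := by
      rw [← cancel_mono G.ι, Category.assoc, IsOpenImmersion.lift_fac, reassoc_of% h1]
      exact ((isProjQMapOn_iff u chart chart' r).1 hr j).trans (((Category.assoc _ _ _).trans
        (congrArg (_ ≫ ·) (lchart_ι (QGrHom.ofHom v hv) chart i))).symm)
    refine (Category.assoc _ _ _).symm.trans ((congrArg (· ≫ Φ) h2).trans ((Category.assoc _ _ _).trans
      ((congrArg (_ ≫ ·) ((isProjQMapOn_iff (QGrHom.ofHom v hv) chartT chart Φ).1 hΦ i)).trans ?_)))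
    change Spec.map (CommRingCat.ofHom (Away.map A (B f))) ≫ Spec.map (CommRingCat.ofHom (Away.map B f)) ≫
      Proj.awayι (𝒯.deg U hU) f hf hd ≫ emb pT chartT U hU = _
    refine (Category.assoc _ _ _).symm.trans (congrArg (· ≫ (Proj.awayι (𝒯.deg U hU) f hf hd ≫ emb pT chartT U hU)) ?_)
    rw [← Spec.map_comp, ← CommRingCat.ofHom_comp]
    exact congrArg (fun k => Spec.map (CommRingCat.ofHom k)) (Away.map_comp B A f).symm
  have hcomp : (u.gradedAt U hU U' hU' hle).comp ((QGrHom.ofHom v hv).gradedAt U hU U hU le_rfl) =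
      u'.gradedAt U hU U' hU' hle := GradedRingHom.ext fun x => by
    rw [gradedAt_comp u v hv u' hu', ← ofHom_gradedAt_eq v hv]
    rfl
  revert key
  rw [hcomp]
  intro key
  exact key _ (IsOpenImmersion.lift_fac _ _ _)

end Groth.Agent.H11QMap

namespace Groth.Agent.H11QMap

theorem isIso_homOfLE_of_eq {X : Scheme.{u}} {U V : X.Opens} (e : U = V) (h : U ≤ V) :
    IsIso (X.homOfLE h) := by
  subst e
  rw [Scheme.homOfLE_rfl]
  infer_instance

theorem isOpenImmersion_of_comp_mono {W G T : Scheme.{u}} (l : W ⟶ G) (f : G ⟶ T) [Mono f]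
    [IsOpenImmersion (l ≫ f)] : IsOpenImmersion l := by
  have h : IsPullback (𝟙 W) l (l ≫ f) f := by
    refine IsPullback.of_isLimit (PullbackCone.IsLimit.mk (by simp) (fun s => s.fst) (fun s => by simp) (fun s => ?_)
      (fun s m h1 _ => by simpa using h1))
    rw [← cancel_mono f, Category.assoc, s.condition]
  exact MorphismProperty.of_isPullback (P := @IsOpenImmersion) h inferInstance

end Groth.Agent.H11QMap
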