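import Groth.Agent.H11QMap.EmbQ
import Groth.Agent.H11QMap.Comp
import Groth.Agent.H11Sym.Bundle
import Groth.Agent.H17.QCAlgGen
import Groth.Agent.H10Coh.FinType2

/-!
# Immersions by `r_{L,ψ}` depend on finitely many elements
-/

set_option autoImplicit false
set_option linter.style.haveILetI false

noncomputable section

universe u

open CategoryTheory CategoryTheory.Limits AlgebraicGeometry TopologicalSpace Opposite RelProj
open HomogeneousLocalization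
open scoped HomogeneousIdeal
open Groth.Agent.H11Sym Groth.Agent.H11Tilde Groth.Agent.H11Proj

namespace Groth.Agent.H11QMap

/-- Finitely many sections over affine opens lie in a submodule of finite type. -/
theorem exists_ft_submodule {Y : Scheme.{u}} [CompactSpace Y] [QuasiSeparatedSpace Y] (F : Y.Modules)
    (hF : Coh.IsQCoh F) (l : List (Σ U : Y.affineOpens, Γ(F, U.1))) :
    ∃ (E : Y.Modules) (_ : Coh.IsQCoh E) (_ : CohB1.IsFT E) (ι : E ⟶ F)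
      (_ : ∀ U : Y.Opens, Function.Injective (ι.app U)), ∀ e ∈ l, e.2 ∈ Set.range (ι.app e.1.1) := by
  haveI : F.IsQuasicoherent := hF
  choose g φ hφ using fun e : Σ U : Y.affineOpens, Γ(F, U.1) => H17.FPExt.exists_fpGen F hF e.1 e.2
  obtain ⟨q, hq⟩ := H17.FPExt.exists_lsum_hom F (l.map fun e => ⟨g e, φ e⟩)
  have hNfp : CohB1.IsFP (H17.FPExt.lsum ((l.map fun e => (⟨g e, φ e⟩ : Σ g : H17.FPExt.GI Y, H17.FPExt.fpGen g ⟶ F)).map Sigma.fst)) :=
    H17.FPExt.isFP_lsum _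
  haveI : (H17.FPExt.lsum ((l.map fun e => (⟨g e, φ e⟩ : Σ g : H17.FPExt.GI Y, H17.FPExt.fpGen g ⟶ F)).map Sigma.fst)).IsQuasicoherent :=
    H29Fitt.isQCoh_of_isFP _ hNfp
  haveI := H10Coh.isQuasicoherent_kernel q
  have hEq : (Abelian.coimage q).IsQuasicoherent := H10Coh.isQuasicoherent_cokernel (kernel.ι q)
  refine ⟨Abelian.coimage q, hEq, H16Derived.KFlat.Stalk.isFT_of_epi (Abelian.coimage.π q)
    (H29Fitt.isFT_of_isFP _ hNfp), Abelian.factorThruCoimage q,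
    fun U => H10Coh.injective_app_of_mono' _ U, fun e he => ?_⟩
  obtain ⟨z, hz⟩ := hφ e
  obtain ⟨w, hw⟩ := hq ⟨g e, φ e⟩ (List.mem_map.2 ⟨e, he, rfl⟩) e.1.1 z
  refine ⟨(Abelian.coimage.π q).app e.1.1 w, ?_⟩
  show ((Abelian.coimage.π q) ≫ Abelian.factorThruCoimage q).app e.1.1 w = _
  rw [Abelian.coimage.fac, hw]
  exact hz

variable {X Y : Scheme.{u}} {q : X ⟶ Y} {𝒮 𝒯 : QCGrAlg Y} {𝒮L : QCGrAlg X}

/-- The composite with a graded homomorphism of algebras. -/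
def compQ (v : 𝒯.toQCAlg ⟶ 𝒮.toQCAlg) (hv : IsGradedHom v) (u : QGrHom q 𝒮 𝒮L) : QGrHom q 𝒯 𝒮L where
  app U := v.hom.app (op U) ≫ u.app U
  naturality := fun {U V} i => by rw [Category.assoc, u.naturality, ← Category.assoc, ← v.hom.naturality, Category.assoc]
  str_app U := by
    rw [← Category.assoc, ← NatTrans.comp_app, v.comm, u.str_app]
  map_mem U hU U' hU' hle _ x hx := by
    rw [CommRingCat.comp_apply]
    exact u.map_mem U hU U' hU' hle (hv U hU _ x hx)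

theorem compQ_app (v : 𝒯.toQCAlg ⟶ 𝒮.toQCAlg) (hv : IsGradedHom v) (u : QGrHom q 𝒮 𝒮L) (U : Y.Opens) :
    (compQ v hv u).app U = v.hom.app (op U) ≫ u.app U := rfl

/-- A preimage of a homogeneous element can be taken homogeneous of the same degree. -/
theorem exists_deg_app_eq (u : QGrHom q 𝒮 𝒮L) (u' : QGrHom q 𝒯 𝒮L) {U : Y.Opens} (hU : IsAffineOpen U) {k : ℕ}
    {a : 𝒮.presheaf.obj (op U)} (ha : a ∈ 𝒮.deg U hU k) {y : 𝒯.presheaf.obj (op U)}
    (hy : (u'.app U).hom y = (u.app U).hom a) :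
    ∃ y ∈ 𝒯.deg U hU k, (u'.app U).hom y = (u.app U).hom a := by
  classical
  refine ⟨_, (DirectSum.decompose (𝒯.deg U hU) y k).2, eq_of_affine 𝒮L.toQCAlg fun V hV i => ?_⟩
  refine (H11Proj.map_proj (u'.gradedAt U hU V hV i) y k).trans ?_
  have h : u'.gradedAt U hU V hV i y = u.gradedAt U hU V hV i a := congrArg (ares 𝒮L.toQCAlg i) hy
  rw [h]
  exact DirectSum.decompose_of_mem_same _ (gmem (u.gradedAt U hU V hV i) ha)

/-- An element of a symmetric algebra involves finitely many sections. -/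
theorem exists_finset_app_eq {E : Y.Modules} {jE : E ⟶ 𝒮.toModule} (hE : Coh.IsQCoh E)
    (hS : RelSpec.IsSymAlg E 𝒮.toQCAlg jE) (u : QGrHom q 𝒮 𝒮L) {U : Y.Opens} (hU : IsAffineOpen U)
    (a : 𝒮.presheaf.obj (op U)) :
    ∃ T : Finset Γ(E, U), ∀ {𝒯 : QCGrAlg Y} (u' : QGrHom q 𝒯 𝒮L),
      (∀ m ∈ T, ∃ y, (u'.app U).hom y = (u.app U).hom (japp (B := 𝒮.toQCAlg) jE U m)) →
        ∃ y, (u'.app U).hom y = (u.app U).hom a := by
  classical
  let gens : Set (𝒮.presheaf.obj (op U)) :=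
    Set.range (astr 𝒮.toQCAlg U) ∪ Set.range (japp (B := 𝒮.toQCAlg) jE U)
  have hgen : Subring.closure gens = ⊤ := by
    have hs := hS.isAffSym hE
    obtain ⟨g, hg₀, hg₁⟩ := hs.exists_lift hU (C := Subring.closure gens)
      ((astr 𝒮.toQCAlg U).codRestrict _ fun r => Subring.subset_closure (Or.inl ⟨r, rfl⟩))
      (AddMonoidHom.mk' (fun m => ⟨japp (B := 𝒮.toQCAlg) jE U m, Subring.subset_closure (Or.inr ⟨m, rfl⟩)⟩)
        fun x y => Subtype.ext (japp_add (B := 𝒮.toQCAlg) jE U x y))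
      (fun r m => Subtype.ext (japp_smul (B := 𝒮.toQCAlg) jE U r m))
    have hid : (Subring.closure gens).subtype.comp g = RingHom.id _ :=
      hs.ringHom_ext hU (fun r => congrArg Subtype.val (hg₀ r)) fun m => congrArg Subtype.val (hg₁ m)
    exact eq_top_iff.2 fun x _ => by
      have h : (g x : 𝒮.presheaf.obj (op U)) = x := congr($hid x)
      exact h ▸ (g x).2
  have ha : a ∈ Subring.closure gens := hgen.ge (Subring.mem_top a)
  induction ha using Subring.closure_induction with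
  | mem b hb =>
    rcases hb with ⟨r, rfl⟩ | ⟨m, rfl⟩
    · refine ⟨∅, fun {𝒯} u' _ => ⟨astr 𝒯.toQCAlg U r, ?_⟩⟩
      exact (ConcreteCategory.congr_hom (u'.str_app U) r).trans (ConcreteCategory.congr_hom (u.str_app U) r).symm
    · exact ⟨{m}, fun {𝒯} u' h => h m (Finset.mem_singleton_self m)⟩
  | zero => exact ⟨∅, fun {𝒯} u' _ => ⟨0, by simp⟩⟩
  | one => exact ⟨∅, fun {𝒯} u' _ => ⟨1, by simp⟩⟩
  | add b c _ _ ihb ihc =>
    obtain ⟨T, hT⟩ := ihb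
    obtain ⟨T', hT'⟩ := ihc
    refine ⟨T ∪ T', fun {𝒯} u' h => ?_⟩
    obtain ⟨y, hy⟩ := hT u' fun m hm => h m (Finset.mem_union_left _ hm)
    obtain ⟨y', hy'⟩ := hT' u' fun m hm => h m (Finset.mem_union_right _ hm)
    exact ⟨y + y', by rw [map_add, map_add, hy, hy']⟩
  | neg b _ ihb =>
    obtain ⟨T, hT⟩ := ihb
    refine ⟨T, fun {𝒯} u' h => ?_⟩
    obtain ⟨y, hy⟩ := hT u' h
    exact ⟨-y, by rw [map_neg, map_neg, hy]⟩
  | mul b c _ _ ihb ihc =>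
    obtain ⟨T, hT⟩ := ihb
    obtain ⟨T', hT'⟩ := ihc
    refine ⟨T ∪ T', fun {𝒯} u' h => ?_⟩
    obtain ⟨y, hy⟩ := hT u' fun m hm => h m (Finset.mem_union_left _ hm)
    obtain ⟨y', hy'⟩ := hT' u' fun m hm => h m (Finset.mem_union_right _ hm)
    exact ⟨y * y', by rw [map_mul, map_mul, hy, hy']⟩

variable {P PL : Scheme.{u}} {L : X.Modules} {j : L ⟶ 𝒮L.toModule} (u : QGrHom q 𝒮 𝒮L)
  {p : P ⟶ Y} {chart : ∀ (U : Y.Opens) (hU : IsAffineOpen U), (((p ⁻¹ᵁ U : P.Opens) : Scheme.{u}) ≅ Proj (𝒮.deg U hU))}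
  {pL : PL ⟶ X}
  {chartL : ∀ (U : X.Opens) (hU : IsAffineOpen U), (((pL ⁻¹ᵁ U : PL.Opens) : Scheme.{u}) ≅ Proj (𝒮L.deg U hU))}
  (hPL : IsRelProj 𝒮L pL chartL) (hL : PicF.IsInvertible L) (hLq : Coh.IsQCoh L) (hj : IsGrSymAlg L 𝒮L j)
  (hP : IsRelProj 𝒮 p chart)
  {r : (domQ u pL chartL : Scheme.{u}) ⟶ P} (hr : IsProjQMapOn u p chart pL chartL (domQ u pL chartL) r)

include hPL hL hLq hj hP hr

/-- An everywhere defined immersion is seen by finitely many homogeneous elements. -/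
theorem exists_finite_data [CompactSpace Y] [QuasiCompact q] [LocallyOfFiniteType q]
    (htop : domQ u pL chartL = ⊤) [IsImmersion r] :
    ∃ l : List (Σ U : Y.affineOpens, ℕ × 𝒮.presheaf.obj (op U.1)),
      (∀ e ∈ l, e.2.2 ∈ 𝒮.deg e.1.1 e.1.2 e.2.1) ∧
      ∀ {𝒯 : QCGrAlg Y} (u' : QGrHom q 𝒯 𝒮L),
        (∀ e ∈ l, ∃ y ∈ 𝒯.deg e.1.1 e.1.2 e.2.1, (u'.app e.1.1).hom y = (u.app e.1.1).hom e.2.2) →
        ∀ {P' : Scheme.{u}} (p' : P' ⟶ Y)
          (chart' : ∀ (U : Y.Opens) (hU : IsAffineOpen U), (((p' ⁻¹ᵁ U : P'.Opens) : Scheme.{u}) ≅ Proj (𝒯.deg U hU)))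
          (_ : IsRelProj 𝒯 p' chart')
          (r' : (domQ u' pL chartL : Scheme.{u}) ⟶ P')
          (_ : IsProjQMapOn u' p' chart' pL chartL (domQ u' pL chartL) r'),
          domQ u' pL chartL = ⊤ ∧ IsImmersion r' := by
  classical
  have hloc : ∀ x : X, ∃ (U : Y.affineOpens) (d : ℕ) (_ : 0 < d) (f : 𝒮.presheaf.obj (op U.1)),
      f ∈ 𝒮.deg U.1 U.2 d ∧ cb chart U.1 U.2 f ≤ r.coborderRange ∧ x ∈ LocU.tlocU u U.1 f d := by
    intro x
    obtain ⟨⟨U, hU⟩, hxU⟩ := Opens.mem_iSup.1 ((iSup_affineOpens_eq_top Y).ge (Set.mem_univ (q x)))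
    obtain ⟨d, hd, f, hf, hle, hx⟩ := LocU.exists_tloc_mem u hU hPL hL hLq hj hP hr htop
      (O := r.coborderRange) (fun z => subset_coborder ⟨z, rfl⟩) hxU
    exact ⟨⟨U, hU⟩, d, hd, f, hf, hle, hx⟩
  choose U d hd f hf hle hxW using hloc
  let W : X → X.Opens := fun x => LocU.tlocU u (U x).1 (f x) (d x)
  haveI : CompactSpace X := QuasiCompact.compactSpace_of_compactSpace q
  obtain ⟨F, hF⟩ := isCompact_univ.elim_finite_subcover (fun x : X => (W x : Set X))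
    (fun x => Opens.isOpen _) (fun x _ => Set.mem_iUnion.2 ⟨x, hxW x⟩)
  have hW : ∀ x, ∃ hW : IsAffineOpen (W x), LocU.fracSub u (U x).2 hW le_rfl (s := f x) (n := d x) = ⊤ := fun x =>
    (LocU.isClosedImmersion_cb_iff u (U x).2 hPL hL hLq hj (hd x) hP hr (hf x)).1
      (isClosedImmersion_restrict_of_le_coborderRange r (hle x))
  choose hWa hfrac using hW
  have hgen : ∀ x, ∃ T : Finset Γ(X, W x), ∀ S : Subring Γ(X, W x),
      (∀ a, (q.appLE (U x).1 (W x) (LocU.tlocU_le u le_rfl)).hom a ∈ S) → (∀ b ∈ T, b ∈ S) → S = ⊤ := by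
    intro x
    letI := (q.appLE (U x).1 (W x) (LocU.tlocU_le u le_rfl)).hom.toAlgebra
    have hft : Algebra.FiniteType Γ(Y, (U x).1) Γ(X, W x) :=
      HasRingHomProperty.appLE @LocallyOfFiniteType q inferInstance (U x) ⟨_, hWa x⟩ _
    obtain ⟨T, hT⟩ := hft.out
    refine ⟨T, fun S h1 h2 => ?_⟩
    have h3 : (Algebra.adjoin Γ(Y, (U x).1) (T : Set Γ(X, W x))).toSubring ≤ S := by
      rw [Algebra.adjoin_eq_ring_closure, Subring.closure_le]
      rintro b (⟨a, rfl⟩ | hb)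
      exacts [h1 a, h2 b hb]
    rw [hT] at h3
    exact eq_top_iff.2 fun b _ => h3 trivial
  choose T hT using hgen
  choose m a ha hma using fun (x : X) (b : Γ(X, W x)) =>
    (LocU.mem_fracSub_iff u (U x).2 hPL hL hLq hj (hd x) (hWa x) le_rfl (hf x) b).1 ((hfrac x).ge (Subring.mem_top b))
  refine ⟨F.toList.flatMap fun x => ⟨U x, d x, f x⟩ :: (T x).toList.map fun b => ⟨U x, m x b • d x, a x b⟩,
    fun e he => ?_, fun {𝒯} u' hu' {P'} p' chart' hP' r' hr' => ?_⟩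
  · obtain ⟨x, -, he⟩ := List.mem_flatMap.1 he
    rcases List.mem_cons.1 he with rfl | he
    · exact hf x
    · obtain ⟨b, -, rfl⟩ := List.mem_map.1 he
      exact ha x b
  choose y hydeg hyf using fun (x : {x // x ∈ F}) =>
    hu' ⟨U x.1, d x.1, f x.1⟩ (List.mem_flatMap.2 ⟨x.1, Finset.mem_toList.2 x.2, List.mem_cons_self⟩)
  have happ : ∀ (x : {x // x ∈ F}) (V : X.Opens) (hV : V ≤ q ⁻¹ᵁ (U x.1).1),
      (u'.appLE (U x.1).1 V hV).hom (y x) = (u.appLE (U x.1).1 V hV).hom (f x.1) :=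
    fun x V hV => congrArg (ares 𝒮L.toQCAlg hV) (hyf x)
  have hyW : ∀ x : {x // x ∈ F}, LocU.tlocU u' (U x.1).1 (y x) (d x.1) = W x.1 := by
    intro x
    have hg : ∀ V : X.affineOpens, (∃ h, GenOn u' (U x.1).1 (y x) (d x.1) V h) ↔
        ∃ h, GenOn u (U x.1).1 (f x.1) (d x.1) V h := fun V => by simp only [GenOn, happ]
    refine le_antisymm (iSup_le fun V => ?_) (iSup_le fun V => ?_)
    · exact le_iSup_of_le (⟨V.1, (hg V.1).1 V.2⟩ : {V : X.affineOpens // ∃ h, GenOn u (U x.1).1 (f x.1) (d x.1) V h}) le_rfl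
    · exact le_iSup_of_le (⟨V.1, (hg V.1).2 V.2⟩ : {V : X.affineOpens // ∃ h, GenOn u' (U x.1).1 (y x) (d x.1) V h}) le_rfl
  have hcov : ∀ z : X, ∃ x : {x // x ∈ F}, z ∈ LocU.tlocU u' (U x.1).1 (y x) (d x.1) := fun z => by
    obtain ⟨x, hx, hz⟩ := Set.mem_iUnion₂.1 (hF (Set.mem_univ z))
    exact ⟨⟨x, hx⟩, (hyW ⟨x, hx⟩).ge hz⟩
  refine ⟨eq_top_iff.2 fun z _ => ?_, H11Sym.isImmersion_of_local r'
    (fun x : {x // x ∈ F} => cb chart' (U x.1).1 (U x.1).2 (y x)) (fun z => ?_) fun x => ?_⟩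
  · obtain ⟨x, hx⟩ := hcov (pL z)
    obtain ⟨⟨V, hle, hgen⟩, hzV⟩ := Opens.mem_iSup.1 hx
    exact mem_domQ_of_genOn u' chartL hPL hL hLq hj _ (U x.1).2 (hd _) _ (hydeg x) V hle hgen hzV
  · obtain ⟨x, hx⟩ := hcov (pL ((domQ u' pL chartL).ι z))
    obtain ⟨⟨V, hle, hgen⟩, hzV⟩ := Opens.mem_iSup.1 hx
    exact ⟨x, (mem_preimage_cb_iff u' chart' chartL hPL hL hLq hj hP' hr' z _ (U x.1).2 (hd _) _ (hydeg x)).2
      ⟨V, hle, hzV, hgen⟩⟩
  · refine (LocU.isClosedImmersion_cb_iff u' (U x.1).2 hPL hL hLq hj (hd x.1) hP' hr' (hydeg x)).2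
      ⟨(hyW x).symm ▸ hWa x.1, ?_⟩
    have trans : ∀ (W' : X.Opens) (_ : W' = W x.1) (hW : IsAffineOpen W')
        (hWs : W' ≤ LocU.tlocU u' (U x.1).1 (y x) (d x.1)),
        LocU.fracSub u' (U x.1).2 hW hWs (s := y x) (n := d x.1) = ⊤ := by
      rintro W' rfl hW hWs
      refine hT x.1 _ (fun c => LocU.appLE_mem_fracSub u' (U x.1).2 hPL hL hLq hj (hd x.1) hW hWs (hydeg x) c)
        fun b hb => ?_
      obtain ⟨y', hy', hya⟩ := hu' ⟨U x.1, m x.1 b • d x.1, a x.1 b⟩ (List.mem_flatMap.2 ⟨x.1, Finset.mem_toList.2 x.2,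
        List.mem_cons_of_mem _ (List.mem_map.2 ⟨b, Finset.mem_toList.2 hb, rfl⟩)⟩)
      refine (LocU.mem_fracSub_iff u' (U x.1).2 hPL hL hLq hj (hd x.1) hW hWs (hydeg x) b).2 ⟨m x.1 b, y', hy', ?_⟩
      rw [happ x]
      exact (hma x.1 b).trans (congrArg (ares 𝒮L.toQCAlg _) hya).symm
    exact trans _ (hyW x) _ le_rfl

end Groth.Agent.H11QMap
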