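import Groth.Agent.H11Ample.RelAmple
import Groth.Agent.H11Sym.Coprod
import Mathlib.AlgebraicGeometry.Limits

/-!
# Relative ampleness on a disjoint union
-/

set_option autoImplicit false
set_option linter.style.haveILetI false

universe u

open CategoryTheory CategoryTheory.Limits AlgebraicGeometry TopologicalSpace Opposite

noncomputable section

namespace Groth.Agent.H11QMap

open Groth.Agent.H11Ample

variable {X X' Y : Scheme.{u}}

/-- Ampleness on two disjoint opens covering the space gives ampleness. -/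
theorem isAmple_of_isCompl {L : X.Modules} {A B : X.Opens} (hd : A ⊓ B = ⊥) (hc : A ⊔ B = ⊤)
    (hA : AmpleOn L A) (hB : AmpleOn L B) : CohB1.IsAmple L := by
  haveI : CompactSpace X := by
    refine ⟨?_⟩
    have h := hA.isCompact.union hB.isCompact
    rwa [← Opens.coe_sup, hc, Opens.coe_top] at h
  have key : ∀ {A B : X.Opens}, A ⊓ B = ⊥ → A ⊔ B = ⊤ → ∃ f : Γ(X, ⊤), X.basicOpen f = A := by
    intro A B hd hc
    let V : ULift.{u} Bool → X.Opens := fun b => cond b.down A B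
    let sf : ∀ b, Γ(X, V b) := fun b => match b with | ⟨true⟩ => 1 | ⟨false⟩ => 0
    have hbot : ∀ {O : X.Opens}, O ≤ ⊥ → ∀ a b : Γ(X, O), a = b := fun hO a b =>
      X.sheaf.eq_of_locally_eq' (fun i : PEmpty.{u + 1} => i.elim) _ (fun i => i.elim)
        (fun x hx => (hO hx : x ∈ (⊥ : X.Opens)).elim) a b (fun i => i.elim)
    have hcompat : TopCat.Presheaf.IsCompatible X.sheaf.obj V sf := by
      rintro ⟨_ | _⟩ ⟨_ | _⟩
      · rfl
      · exact hbot (le_of_eq ((inf_comm B A).trans hd)) _ _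
      · exact hbot (le_of_eq hd) _ _
      · rfl
    have hcov : (⊤ : X.Opens) ≤ iSup V := fun x _ => by
      rcases (hc.ge (Opens.mem_top x) : x ∈ A ⊔ B) with h | h
      · exact Opens.mem_iSup.2 ⟨⟨true⟩, h⟩
      · exact Opens.mem_iSup.2 ⟨⟨false⟩, h⟩
    obtain ⟨f, hf, -⟩ := X.sheaf.existsUnique_gluing' V ⊤
      (fun b => match b with | ⟨true⟩ => homOfLE le_top | ⟨false⟩ => homOfLE le_top) hcov sf hcompat
    have h1 := congrArg X.basicOpen (hf ⟨true⟩)
    have h0 := congrArg X.basicOpen (hf ⟨false⟩)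
    change X.basicOpen (X.presheaf.map _ f) = X.basicOpen 1 at h1
    change X.basicOpen (X.presheaf.map _ f) = X.basicOpen 0 at h0
    erw [Scheme.basicOpen_res] at h1 h0
    rw [X.basicOpen_of_isUnit isUnit_one] at h1
    rw [X.basicOpen_zero] at h0
    refine ⟨f, le_antisymm (fun x hx => ?_) ?_⟩
    · rcases (hc.ge (Opens.mem_top x) : x ∈ A ⊔ B) with h | h
      · exact h
      · exact ((h0.le (show x ∈ B ⊓ X.basicOpen f from ⟨h, hx⟩)) : x ∈ (⊥ : X.Opens)).elim
    · exact h1.ge.trans inf_le_right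
  refine isAmple_of_basicOpen_cover fun x => ?_
  rcases (hc.ge (Opens.mem_top x) : x ∈ A ⊔ B) with h | h
  · obtain ⟨f, hf⟩ := key hd hc
    exact ⟨f, hf ▸ h, hf ▸ hA⟩
  · obtain ⟨f, hf⟩ := key ((inf_comm B A).trans hd) ((sup_comm B A).trans hc)
    exact ⟨f, hf ▸ h, hf ▸ hB⟩

theorem coprod_inf_eq_bot :
    (coprod.inl : X ⟶ X ⨿ X').opensRange ⊓ (coprod.inr : X' ⟶ X ⨿ X').opensRange = ⊥ :=
  (isCompl_opensRange_inl_inr X X').inf_eq_bot

theorem coprod_sup_eq_top :
    (coprod.inl : X ⟶ X ⨿ X').opensRange ⊔ (coprod.inr : X' ⟶ X ⨿ X').opensRange = ⊤ :=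
  (isCompl_opensRange_inl_inr X X').sup_eq_top

theorem quasiCompact_coprod_desc (f : X ⟶ Y) (f' : X' ⟶ Y) [QuasiCompact f] [QuasiCompact f'] :
    QuasiCompact (coprod.desc f f') := by
  refine ⟨fun U hU hUc => ?_⟩
  have h : (coprod.desc f f') ⁻¹' U = (coprod.inl : X ⟶ X ⨿ X') '' (f ⁻¹' U) ∪
      (coprod.inr : X' ⟶ X ⨿ X') '' (f' ⁻¹' U) := by
    have e : ∀ a : X, coprod.desc f f' ((coprod.inl : X ⟶ X ⨿ X') a) = f a := fun a => by
      rw [← Scheme.Hom.comp_apply, coprod.inl_desc]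
    have e' : ∀ a : X', coprod.desc f f' ((coprod.inr : X' ⟶ X ⨿ X') a) = f' a := fun a => by
      rw [← Scheme.Hom.comp_apply, coprod.inr_desc]
    ext z
    constructor
    · intro hz
      rcases (isCompl_range_inl_inr X X').sup_eq_top.ge (Set.mem_univ z) with ⟨a, rfl⟩ | ⟨a, rfl⟩
      · exact .inl ⟨a, by simpa only [Set.mem_preimage, e] using hz, rfl⟩
      · exact .inr ⟨a, by simpa only [Set.mem_preimage, e'] using hz, rfl⟩
    · rintro (⟨a, ha, rfl⟩ | ⟨a, ha, rfl⟩)
      · simpa only [Set.mem_preimage, e] using ha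
      · simpa only [Set.mem_preimage, e'] using ha
  rw [h]
  exact ((f.isCompact_preimage (U := ⟨U, hU⟩) hUc).image (coprod.inl : X ⟶ X ⨿ X').continuous).union
    ((f'.isCompact_preimage (U := ⟨U, hU⟩) hUc).image (coprod.inr : X' ⟶ X ⨿ X').continuous)

theorem isRelAmple_of_iso {f : X ⟶ Y} {L M : X.Modules} (e : L ≅ M) (h : RelAmple.IsRelAmple f L) :
    RelAmple.IsRelAmple f M :=
  isRelAmple_iff.2 ⟨h.1, fun V hV => isAmple_of_iso ((Scheme.Modules.pullback _).mapIso e) ((isRelAmple_iff.1 h).2 V hV)⟩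

theorem isRelAmple_coprod_iff (f : X ⟶ Y) (f' : X' ⟶ Y) [QuasiCompact f] [QuasiCompact f']
    (L : (X ⨿ X').Modules) :
    RelAmple.IsRelAmple (coprod.desc f f') L ↔
      RelAmple.IsRelAmple f ((Scheme.Modules.pullback (coprod.inl : X ⟶ X ⨿ X')).obj L) ∧
        RelAmple.IsRelAmple f' ((Scheme.Modules.pullback (coprod.inr : X' ⟶ X ⨿ X')).obj L) := by
  haveI := quasiCompact_coprod_desc f f'
  let q := coprod.desc f f'
  let i : X ⟶ X ⨿ X' := coprod.inl
  let i' : X' ⟶ X ⨿ X' := coprod.inr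
  have hi : ∀ V : Y.Opens, i ''ᵁ (f ⁻¹ᵁ V) = i.opensRange ⊓ q ⁻¹ᵁ V := fun V => by
    rw [← Scheme.Hom.image_preimage_eq_opensRange_inf, ← Scheme.Hom.comp_preimage]
    simp only [i, q, coprod.inl_desc]
  have hi' : ∀ V : Y.Opens, i' ''ᵁ (f' ⁻¹ᵁ V) = i'.opensRange ⊓ q ⁻¹ᵁ V := fun V => by
    rw [← Scheme.Hom.image_preimage_eq_opensRange_inf, ← Scheme.Hom.comp_preimage]
    simp only [i', q, coprod.inr_desc]
  constructor
  · intro h
    constructor
    · refine isRelAmple_iff.2 ⟨inferInstance, fun V hV => ?_⟩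
      have hc := (f.isCompact_preimage (U := V) hV.isCompact).image i.continuous
      refine (ampleOn_preimage_iff i _).2 (((isRelAmple_iff.1 h).2 V hV).mono ?_ hc)
      rw [hi]; exact inf_le_right
    · refine isRelAmple_iff.2 ⟨inferInstance, fun V hV => ?_⟩
      have hc := (f'.isCompact_preimage (U := V) hV.isCompact).image i'.continuous
      refine (ampleOn_preimage_iff i' _).2 (((isRelAmple_iff.1 h).2 V hV).mono ?_ hc)
      rw [hi']; exact inf_le_right
  · rintro ⟨h, h'⟩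
    refine isRelAmple_iff.2 ⟨inferInstance, fun V hV => ?_⟩
    let U : (X ⨿ X').Opens := q ⁻¹ᵁ V
    refine isAmple_of_isCompl (A := U.ι ⁻¹ᵁ i.opensRange) (B := U.ι ⁻¹ᵁ i'.opensRange) ?_ ?_ ?_ ?_
    · rw [← Scheme.Hom.preimage_inf, coprod_inf_eq_bot, Scheme.Hom.preimage_bot]
    · rw [← Scheme.Hom.preimage_sup, coprod_sup_eq_top, Scheme.Hom.preimage_top]
    · refine (ampleOn_preimage_iff U.ι _).2 ?_
      rw [Scheme.Hom.image_preimage_eq_opensRange_inf, Scheme.Opens.opensRange_ι, inf_comm, ← hi]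
      exact (ampleOn_preimage_iff i _).1 ((isRelAmple_iff.1 h).2 V hV)
    · refine (ampleOn_preimage_iff U.ι _).2 ?_
      rw [Scheme.Hom.image_preimage_eq_opensRange_inf, Scheme.Opens.opensRange_ι, inf_comm, ← hi']
      exact (ampleOn_preimage_iff i' _).1 ((isRelAmple_iff.1 h').2 V hV)

theorem isZero_of_forall {M : X.Modules} (h : ∀ (W : X.Opens) (s : Γ(M, W)), s = 0) : IsZero M := by
  rw [IsZero.iff_id_eq_zero]
  refine Scheme.Modules.hom_ext _ _ fun W => ?_
  refine ConcreteCategory.hom_ext _ _ fun s => ?_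
  exact (h _ _).trans (h _ _).symm

/-- Gluing modules on the two summands of a disjoint union. -/
theorem exists_glue_coprod (L : X.Modules) (L' : X'.Modules) :
    ∃ M : (X ⨿ X').Modules,
      Nonempty ((Scheme.Modules.pullback (coprod.inl : X ⟶ X ⨿ X')).obj M ≅ L) ∧
      Nonempty ((Scheme.Modules.pullback (coprod.inr : X' ⟶ X ⨿ X')).obj M ≅ L') := by
  have key : ∀ {A B C : Scheme.{u}} (a : A ⟶ C) (b : B ⟶ C) [IsOpenImmersion a] [IsOpenImmersion b]
      (_ : a.opensRange ⊓ b.opensRange = ⊥) (N : B.Modules),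
      IsZero ((Scheme.Modules.pullback a).obj ((Scheme.Modules.pushforward b).obj N)) := by
    intro A B C a b _ _ hd N
    refine IsZero.of_iso ?_
      ((Scheme.Modules.restrictFunctorIsoPullback a).app ((Scheme.Modules.pushforward b).obj N)).symm
    refine isZero_of_forall fun W (s : Γ(N, b ⁻¹ᵁ (a ''ᵁ W))) => ?_
    have hb : b ⁻¹ᵁ (a ''ᵁ W) ≤ ⊥ := fun x hx => by
      have : b x ∈ a.opensRange ⊓ b.opensRange :=
        ⟨a.image_le_opensRange _ hx, ⟨x, rfl⟩⟩
      rw [hd] at this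
      exact (this : b x ∈ (⊥ : C.Opens)).elim
    exact H11Tilde.eq_of_locally s _ fun x hx => (hb hx : x ∈ (⊥ : B.Opens)).elim
  let i : X ⟶ X ⨿ X' := coprod.inl
  let i' : X' ⟶ X ⨿ X' := coprod.inr
  let P := (Scheme.Modules.pushforward i).obj L
  let P' := (Scheme.Modules.pushforward i').obj L'
  haveI := preservesBinaryBiproduct_of_preservesBinaryCoproduct (Scheme.Modules.pullback i) (X := P) (Y := P')
  haveI := preservesBinaryBiproduct_of_preservesBinaryCoproduct (Scheme.Modules.pullback i') (X := P) (Y := P')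
  refine ⟨P ⊞ P', ⟨?_⟩, ⟨?_⟩⟩
  · exact (Scheme.Modules.pullback i).mapBiprod P P' ≪≫
      biprod.mapIso (((Scheme.Modules.restrictFunctorIsoPullback i).app P).symm ≪≫
          (Scheme.Modules.restrictFunctorAdjCounitIso i).app L)
        (key i i' coprod_inf_eq_bot L').isoZero ≪≫ (isoBiprodZero (isZero_zero _)).symm
  · exact (Scheme.Modules.pullback i').mapBiprod P P' ≪≫
      biprod.mapIso (key i' i (inf_comm _ _ |>.trans coprod_inf_eq_bot) L).isoZero
        (((Scheme.Modules.restrictFunctorIsoPullback i').app P').symm ≪≫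
          (Scheme.Modules.restrictFunctorAdjCounitIso i').app L') ≪≫ (isoZeroBiprod (isZero_zero _)).symm

end Groth.Agent.H11QMap
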