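import Groth.Agent.H8Props.AmpleBatch
import Groth.Agent.H11QMap.CoprodAmple

/-!
# External tensor product of relatively ample modules
-/

set_option autoImplicit false
set_option linter.style.haveILetI false

universe u

open CategoryTheory CategoryTheory.MonoidalCategory CategoryTheory.Limits AlgebraicGeometry TopologicalSpace Opposite

noncomputable section

namespace Groth.Agent.H11QMap

open Groth.Agent.H11Ample

variable {X₁ X₂ Y₁ Y₂ S : Scheme.{u}}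

/-- Isomorphisms of both factors induce an isomorphism of tensor products. -/
def tensorIso {X : Scheme.{u}} {M M' N N' : X.Modules} (a : M ≅ M') (b : N ≅ N') :
    CohB1.tensorMod M N ≅ CohB1.tensorMod M' N' :=
  (CohB1.sheafifyMod X).mapIso
    (MonoidalCategory.tensorIso ((Scheme.Modules.toPresheafOfModules X).mapIso a)
      ((Scheme.Modules.toPresheafOfModules X).mapIso b) :
      (CohB1.toPMod M ⊗ CohB1.toPMod N) ≅ (CohB1.toPMod M' ⊗ CohB1.toPMod N'))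

theorem isRelAmple_externalTensor (a₁ : Y₁ ⟶ S) (a₂ : Y₂ ⟶ S) (f₁ : X₁ ⟶ Y₁) (f₂ : X₂ ⟶ Y₂)
    [QuasiCompact f₁] [QuasiCompact f₂] {L₁ : X₁.Modules} {L₂ : X₂.Modules}
    (hL₁ : RelAmple.IsRelAmple f₁ L₁) (hL₂ : RelAmple.IsRelAmple f₂ L₂) :
    RelAmple.IsRelAmple
      (pullback.map (f₁ ≫ a₁) (f₂ ≫ a₂) a₁ a₂ f₁ f₂ (𝟙 S) (Category.comp_id (f₁ ≫ a₁))
        (Category.comp_id (f₂ ≫ a₂)))
      (CohB1.tensorMod ((Scheme.Modules.pullback (pullback.fst (f₁ ≫ a₁) (f₂ ≫ a₂))).obj L₁)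
        ((Scheme.Modules.pullback (pullback.snd (f₁ ≫ a₁) (f₂ ≫ a₂))).obj L₂)) := by
  let q := pullback.map (f₁ ≫ a₁) (f₂ ≫ a₂) a₁ a₂ f₁ f₂ (𝟙 S) (Category.comp_id (f₁ ≫ a₁))
    (Category.comp_id (f₂ ≫ a₂))
  haveI : QuasiCompact q := by
    have h := MorphismProperty.pullbackMap (P := @QuasiCompact) (f := f₁ ≫ a₁) (g := f₂ ≫ a₂) (f' := a₁)
      (g' := a₂) (i₁ := f₁) (i₂ := f₂) inferInstance inferInstance rfl rfl
    exact h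
  refine isRelAmple_of_cover fun y => ?_
  obtain ⟨T, hT, hyT⟩ := exists_isAffineOpen_mem (a₁ (pullback.fst a₁ a₂ y))
  have hyT' : pullback.snd a₁ a₂ y ∈ a₂ ⁻¹ᵁ T := by
    change a₂ (pullback.snd a₁ a₂ y) ∈ T
    rw [← Scheme.Hom.comp_apply, ← pullback.condition, Scheme.Hom.comp_apply]
    exact hyT
  obtain ⟨V₁, hV₁, hy₁, hle₁⟩ := exists_isAffineOpen_mem_and_subset (U := a₁ ⁻¹ᵁ T) hyT
  obtain ⟨V₂, hV₂, hy₂, hle₂⟩ := exists_isAffineOpen_mem_and_subset (U := a₂ ⁻¹ᵁ T) hyT'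
  obtain ⟨W, hW, hyW, hWle⟩ := exists_isAffineOpen_mem_and_subset
    (U := pullback.fst a₁ a₂ ⁻¹ᵁ V₁ ⊓ pullback.snd a₁ a₂ ⁻¹ᵁ V₂) (x := y) ⟨hy₁, hy₂⟩
  refine ⟨W, hW, hyW, ?_⟩
  let A₁ : X₁.Opens := f₁ ⁻¹ᵁ V₁
  let A₂ : X₂.Opens := f₂ ⁻¹ᵁ V₂
  have h₁ : A₁ ≤ (f₁ ≫ a₁) ⁻¹ᵁ T := fun z hz => hle₁ hz
  have h₂ : A₂ ≤ (f₂ ≫ a₂) ⁻¹ᵁ T := fun z hz => hle₂ hz
  let b₁ := Scheme.Hom.resLE (f₁ ≫ a₁) T A₁ h₁
  let b₂ := Scheme.Hom.resLE (f₂ ≫ a₂) T A₂ h₂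
  haveI : IsAffine T.toScheme := hT
  let j := pullback.map b₁ b₂ (f₁ ≫ a₁) (f₂ ≫ a₂) A₁.ι A₂.ι T.ι
    (Scheme.Hom.resLE_comp_ι _ _) (Scheme.Hom.resLE_comp_ι _ _)
  have hj : j.opensRange = pullback.fst (f₁ ≫ a₁) (f₂ ≫ a₂) ⁻¹ᵁ A₁ ⊓ pullback.snd (f₁ ≫ a₁) (f₂ ≫ a₂) ⁻¹ᵁ A₂ := by
    refine Opens.ext ?_
    change Set.range j = _
    rw [Scheme.Pullback.range_map, Scheme.Opens.range_ι, Scheme.Opens.range_ι]
    rfl
  haveI : CompactSpace (q ⁻¹ᵁ W).toScheme :=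
    isCompact_iff_compactSpace.1 (q.isCompact_preimage (U := W) hW.isCompact)
  refine AmpleOn.mono (U := j.opensRange) ?_ ?_ (q.isCompact_preimage (U := W) hW.isCompact)
  · have hA₁ : CohB1.IsAmple ((Scheme.Modules.pullback A₁.ι).obj L₁) := (isRelAmple_iff.1 hL₁).2 V₁ hV₁
    have hA₂ : CohB1.IsAmple ((Scheme.Modules.pullback A₂.ι).obj L₂) := (isRelAmple_iff.1 hL₂).2 V₂ hV₂
    have h := Groth.Agent.H8Props.Ample.isAmple_prod b₁ b₂ hA₁ hA₂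
    refine (ampleOn_iff_of_range j rfl).2 ?_
    obtain ⟨φ⟩ := exists_iso_pullback_tensor j
      (isInvertible_pullback (pullback.fst (f₁ ≫ a₁) (f₂ ≫ a₂)) (isInvertible_of_isRelAmple hL₁))
      (isInvertible_pullback (pullback.snd (f₁ ≫ a₁) (f₂ ≫ a₂)) (isInvertible_of_isRelAmple hL₂))
    let e₁ := (Scheme.Modules.pullbackComp j (pullback.fst (f₁ ≫ a₁) (f₂ ≫ a₂))).app L₁ ≪≫
      (Scheme.Modules.pullbackCongr (show j ≫ pullback.fst (f₁ ≫ a₁) (f₂ ≫ a₂) = pullback.fst b₁ b₂ ≫ A₁.ι by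
        simp only [j, pullback.lift_fst])).app L₁ ≪≫ ((Scheme.Modules.pullbackComp (pullback.fst b₁ b₂) A₁.ι).app L₁).symm
    let e₂ := (Scheme.Modules.pullbackComp j (pullback.snd (f₁ ≫ a₁) (f₂ ≫ a₂))).app L₂ ≪≫
      (Scheme.Modules.pullbackCongr (show j ≫ pullback.snd (f₁ ≫ a₁) (f₂ ≫ a₂) = pullback.snd b₁ b₂ ≫ A₂.ι by
        simp only [j, pullback.lift_snd])).app L₂ ≪≫ ((Scheme.Modules.pullbackComp (pullback.snd b₁ b₂) A₂.ι).app L₂).symm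
    exact isAmple_of_iso (φ ≪≫ tensorIso e₁ e₂).symm h
  · rw [hj]
    intro z hz
    have hw := hWle hz
    refine ⟨?_, ?_⟩
    · have e : pullback.fst a₁ a₂ (q z) = f₁ (pullback.fst (f₁ ≫ a₁) (f₂ ≫ a₂) z) := by
        rw [← Scheme.Hom.comp_apply, ← Scheme.Hom.comp_apply]; simp only [q, pullback.lift_fst]
      exact (e ▸ hw.1 : f₁ (pullback.fst (f₁ ≫ a₁) (f₂ ≫ a₂) z) ∈ V₁)
    · have e : pullback.snd a₁ a₂ (q z) = f₂ (pullback.snd (f₁ ≫ a₁) (f₂ ≫ a₂) z) := by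
        rw [← Scheme.Hom.comp_apply, ← Scheme.Hom.comp_apply]; simp only [q, pullback.lift_snd]
      exact (e ▸ hw.2 : f₂ (pullback.snd (f₁ ≫ a₁) (f₂ ≫ a₂) z) ∈ V₂)

end Groth.Agent.H11QMap
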