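import Groth.Agent.LeadChow.SegreBase
import Groth.Agent.H11QMap.ProdRelAmple

/-!
# Very ample (in projective space) tensor generated by finitely many sections
-/

set_option autoImplicit false
set_option linter.style.haveILetI false

universe u

open CategoryTheory CategoryTheory.Limits AlgebraicGeometry TopologicalSpace Opposite CohB1

noncomputable section

namespace Groth.Agent.H11QMap

open Groth.Agent.H11Tilde Groth.Agent.H11Ample Groth.Agent.LeadChow.Segre

/-- The Segre morphism together with its pullback of `O(1)`. -/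
theorem exists_segreZ_twist (n m : ℕ) :
    ∃ σ : PP.{u} n m ⟶ ProjSpace (n * m + n + m) Z0.{u}, IsClosedImmersion σ ∧
      Nonempty ((Scheme.Modules.pullback σ).obj (Twist.twistProjSpace (n * m + n + m) Z0.{u} 1) ≅
        CohB1.tensorMod (L1.{u} n m) (L2 n m)) := by
  let E : Fin (n * m + n + m + 1) ≃ Fin (n + 1) × Fin (m + 1) :=
    (finCongr (by ring)).trans finProdFinEquiv.symm
  let L := CohB1.tensorMod (L1.{u} n m) (L2 n m)
  have hL : PicF.IsInvertible L :=
    isInvertible_tensor (isInvertible_pullback _ isInvertible_twist) (isInvertible_pullback _ isInvertible_twist)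
  let v : Fin (n * m + n + m + 1) → Γ(L, ⊤) := fun k => vv n m (E k).1 (E k).2
  obtain ⟨r, -, hiso, hpre, hratio⟩ := exists_toPn (R := Z0.{u}) (pp n m ≫ ProjSpace.toSpec n Z0.{u}) hL v fun x => by
    obtain ⟨i, hi⟩ := exists_mem_basicOpen_X (n := n) (R := Z0.{u}) (pp n m x)
    obtain ⟨j, hj⟩ := exists_mem_basicOpen_X (n := m) (R := Z0.{u}) (qq n m x)
    refine ⟨E.symm (i, j), ?_⟩
    show x ∈ gen L (vv n m (E (E.symm (i, j))).1 (E (E.symm (i, j))).2)
    rw [gen_vv, Equiv.apply_symm_apply]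
    exact ⟨hi, hj⟩
  have hr₀ : ∀ k, r ⁻¹ᵁ D _ k = GG n m (E k).1 (E k).2 := fun k => (hpre k).trans (gen_vv _ _ _ _)
  refine ⟨r, IsZariskiLocalAtTarget.of_iSup_eq_top (P := @IsClosedImmersion) (fun k => D _ k)
    (Groth.Agent.H11Proj.ProjSpace.iSup_basicOpen _ _) (fun k => ?_), hiso⟩
  refine isClosedImmersion_morphismRestrict (isAffineOpen_D _ k) ((hr₀ k).symm ▸ isAffineOpen_GG _ _ _ _) ?_
  set i := (E k).1
  set j := (E k).2
  suffices h : Function.Surjective (r.appLE (D _ k) (GG n m i j) (hr₀ k).ge) by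
    intro b
    obtain ⟨a, ha⟩ := h ((PP n m).presheaf.map (homOfLE (hr₀ k).ge).op b)
    haveI : IsIso (homOfLE (hr₀ k).ge) := homOfLE_isIso_of_eq _ (hr₀ k).symm
    exact ⟨a, (ConcreteCategory.bijective_of_isIso ((PP n m).presheaf.map (homOfLE (hr₀ k).ge).op)).1 ha⟩
  have hprod : ∀ i' j', (pp n m).appLE _ (GG n m i j) inf_le_left (ratio (polyGrading n Z0.{u}) (X_mem i) (X_mem i')) *
      (qq n m).appLE _ (GG n m i j) inf_le_right (ratio (polyGrading m Z0.{u}) (X_mem j) (X_mem j')) ∈
        (r.appLE (D _ k) (GG n m i j) (hr₀ k).ge).hom.range := by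
    intro i' j'
    obtain ⟨ρ, hρ⟩ := hratio k (E.symm (i', j'))
    refine ⟨ρ, (((isGen_gen (v k)).res (gen_vv n m i j).ge).bijective le_rfl).1 ?_⟩
    beta_reduce
    rw [H10Coh.mres_mres, H10Coh.mres_mres]
    have h3 := congrArg (L.presheaf.map (homOfLE (hr₀ k).ge).op) hρ
    rw [H10Coh.mres_mres, Scheme.Modules.map_smul, H10Coh.mres_mres] at h3
    refine h3.symm.trans ?_
    simp only [v, Equiv.apply_symm_apply]
    exact vv_res n m i i' j j'
  have htop : (r.appLE (D _ k) (GG n m i j) (hr₀ k).ge).hom.range = ⊤ :=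
    closure_GG n m i j _ (fun l => by have h := hprod l j; rw [appLE_ratio_self, mul_one] at h; exact h)
      (fun l => by have h := hprod i l; rw [appLE_ratio_self, one_mul] at h; exact h)
  exact RingHom.range_eq_top.1 htop

variable {X S : Scheme.{u}}

/-- A spanning family of an invertible module has a generator at every point. -/
theorem exists_mem_gen_of_generatedBy {L : X.Modules} (hL : PicF.IsInvertible L) {ι : Type*}
    (s : ι → Γ(L, ⊤)) (hs : ProjUP.GeneratedBy L s) (x : X) : ∃ l, x ∈ gen L (s l) := by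
  obtain ⟨V, e, hxV, he⟩ := exists_gen hL x
  let ε : L.presheaf.stalk x := L.presheaf.germ V x hxV e
  have hb : Function.Bijective (fun r : X.presheaf.stalk x => r • ε) := he x hxV
  choose c hc using fun l => hb.2 (L.presheaf.germ ⊤ x trivial (s l))
  by_contra hne
  push Not at hne
  have hm : ∀ l, c l ∈ IsLocalRing.maximalIdeal (X.presheaf.stalk x) := fun l =>
    (IsLocalRing.mem_maximalIdeal _).2 fun hu => hne l ((mem_gen_iff hL (s l) x).2 (by
      have e' : (fun r : X.presheaf.stalk x => r • L.presheaf.germ ⊤ x trivial (s l)) =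
          (fun r : X.presheaf.stalk x => r • ε) ∘ (fun r => r * c l) := by
        funext r
        simp only [Function.comp, mul_smul, ← hc l]
      rw [e']
      refine hb.comp ?_
      obtain ⟨u', hu'⟩ := hu
      rw [← hu']
      exact (Units.mulRight u').bijective))
  have hle : Submodule.span (X.presheaf.stalk x) (Set.range fun l => (L.presheaf.germ ⊤ x trivial).hom (s l)) ≤
      Submodule.map (LinearMap.toSpanSingleton (X.presheaf.stalk x) _ ε)
        (IsLocalRing.maximalIdeal (X.presheaf.stalk x)) := by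
    refine Submodule.span_le.2 ?_
    rintro _ ⟨l, rfl⟩
    exact ⟨c l, hm l, hc l⟩
  rw [hs x] at hle
  obtain ⟨a, ha, hae⟩ := hle (Submodule.mem_top (x := ε))
  have : a = 1 := hb.1 (hae.trans (one_smul _ ε).symm)
  exact (IsLocalRing.maximalIdeal.isMaximal (X.presheaf.stalk x)).ne_top ((Ideal.eq_top_iff_one _).2 (this ▸ ha))

/-- Very ample in projective space, tensor a module generated by finitely many sections. -/
theorem isRelVeryAmplePn_tensor_generatedBy (q : X ⟶ S) {L L' : X.Modules}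
    (hva : RelAmple.IsRelVeryAmplePn q L) (hL' : PicF.IsInvertible L') {m : ℕ} (s : Fin m → Γ(L', ⊤))
    (hs : ProjUP.GeneratedBy L' s) : RelAmple.IsRelVeryAmplePn q (CohB1.tensorMod L L') := by
  obtain ⟨n, i, hi, hiq, ⟨τ⟩⟩ := hva
  let v : Fin (m + 1) → Γ(L', ⊤) := Fin.cons 0 s
  obtain ⟨φ, -, ⟨τ'⟩, -, -⟩ := exists_toPn (R := Z0.{u}) (specULiftZIsTerminal.from X) hL' v fun x => by
    obtain ⟨l, hl⟩ := exists_mem_gen_of_generatedBy hL' s hs x
    exact ⟨l.succ, by simpa [v] using hl⟩
  obtain ⟨σ, hσ, ⟨τσ⟩⟩ := exists_segreZ_twist.{u} n m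
  let tS := specULiftZIsTerminal.from S
  let fn : ProjSpaceOver n S ⟶ ProjSpace n Z0.{u} := pullback.fst _ _
  let a : X ⟶ PP.{u} n m := pullback.lift (i ≫ fn) φ (specULiftZIsTerminal.hom_ext _ _)
  let N := n * m + n + m
  let tP : PP.{u} n m ⟶ Spec (CommRingCat.of Z0.{u}) := pp n m ≫ ProjSpace.toSpec n Z0.{u}
  let b : X ⟶ pullback tP tS := pullback.lift a q (specULiftZIsTerminal.hom_ext _ _)
  haveI : IsImmersion b := by
    let c : pullback tP tS ⟶ pullback (ProjSpace.toSpec n Z0.{u}) tS :=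
      pullback.lift (pullback.fst tP tS ≫ pp n m) (pullback.snd tP tS) (specULiftZIsTerminal.hom_ext _ _)
    have e : b ≫ c = (i : X ⟶ pullback (ProjSpace.toSpec n Z0.{u}) tS) := by
      apply pullback.hom_ext
      · erw [Category.assoc, pullback.lift_fst, pullback.lift_fst_assoc, pullback.lift_fst]; rfl
      · erw [Category.assoc, pullback.lift_snd, pullback.lift_snd]; exact hiq.symm
    haveI : IsImmersion (b ≫ c) := e.symm ▸ hi
    exact IsImmersion.of_comp b c
  let ψ : pullback tP tS ⟶ pullback (ProjSpace.toSpec N Z0.{u}) tS :=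
    pullback.map tP tS (ProjSpace.toSpec N Z0.{u}) tS σ (𝟙 _) (𝟙 _) (specULiftZIsTerminal.hom_ext _ _)
      (by rw [Category.id_comp, Category.comp_id])
  haveI : IsClosedImmersion ψ :=
    MorphismProperty.pullbackMap (P := @IsClosedImmersion) (f := tP) (g := tS) (f' := ProjSpace.toSpec N Z0.{u})
      (g' := tS) (i₁ := σ) (i₂ := 𝟙 S) hσ inferInstance (specULiftZIsTerminal.hom_ext _ _) (Category.id_comp _).symm
  obtain ⟨ψt⟩ := H11Ample.exists_iso_pullback_tensor a
    (isInvertible_pullback (pp.{u} n m) (isInvertible_twist (n := n) (R := Z0.{u})))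
    (isInvertible_pullback (qq.{u} n m) (isInvertible_twist (n := m) (R := Z0.{u})))
  have hfac : (b ≫ ψ) ≫ pullback.fst (ProjSpace.toSpec N Z0.{u}) tS = a ≫ σ := by
    rw [Category.assoc, pullback.lift_fst, pullback.lift_fst_assoc]
  have hsnd : (b ≫ ψ) ≫ pullback.snd (ProjSpace.toSpec N Z0.{u}) tS = q := by
    rw [Category.assoc, pullback.lift_snd, Category.comp_id, pullback.lift_snd]
  have himm : IsImmersion (b ≫ ψ) := inferInstance
  refine ⟨N, b ≫ ψ, himm, hsnd, ⟨?_⟩⟩
  · have ha₁ : a ≫ pp n m = i ≫ fn := pullback.lift_fst _ _ _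
    have ha₂ : a ≫ qq n m = φ := pullback.lift_snd _ _ _
    let e₁ : (Scheme.Modules.pullback a).obj (L1.{u} n m) ≅ L :=
      (Scheme.Modules.pullbackComp a (pp n m)).app _ ≪≫ (Scheme.Modules.pullbackCongr ha₁).app _ ≪≫
        ((Scheme.Modules.pullbackComp i fn).app _).symm ≪≫ τ.symm
    let e₂ : (Scheme.Modules.pullback a).obj (L2.{u} n m) ≅ L' :=
      (Scheme.Modules.pullbackComp a (qq n m)).app _ ≪≫ (Scheme.Modules.pullbackCongr ha₂).app _ ≪≫ τ'
    exact (tensorIso e₁ e₂).symm ≪≫ ψt.symm ≪≫ (Scheme.Modules.pullback a).mapIso τσ.symm ≪≫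
      (Scheme.Modules.pullbackComp a σ).app _ ≪≫ (Scheme.Modules.pullbackCongr hfac.symm).app _ ≪≫
      ((Scheme.Modules.pullbackComp (b ≫ ψ) (pullback.fst (ProjSpace.toSpec N Z0.{u}) tS)).app _).symm

end Groth.Agent.H11QMap
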