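import Groth.Agent.H11QMap.QMap

/-!
# Preimages of standard opens under `Proj(u)`
-/

set_option autoImplicit false
set_option linter.style.haveILetI false

noncomputable section

universe u

open CategoryTheory CategoryTheory.Limits AlgebraicGeometry TopologicalSpace Opposite RelProj
open HomogeneousLocalization
open scoped HomogeneousIdeal

namespace Groth.Agent.H11QMap

variable {S S' P P' : Scheme.{u}} {g : S' ⟶ S} {𝒮 : QCGrAlg S} {𝒮' : QCGrAlg S'} (u : QGrHom g 𝒮 𝒮')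
  {p : P ⟶ S} (chart : ∀ (U : S.Opens) (hU : IsAffineOpen U), (((p ⁻¹ᵁ U : P.Opens) : Scheme.{u}) ≅ Proj (𝒮.deg U hU)))
  {p' : P' ⟶ S'}
  (chart' : ∀ (U' : S'.Opens) (hU' : IsAffineOpen U'), (((p' ⁻¹ᵁ U' : P'.Opens) : Scheme.{u}) ≅ Proj (𝒮'.deg U' hU')))
variable (hP : IsRelProj 𝒮 p chart) (hP' : IsRelProj 𝒮' p' chart')
variable {r : (domQ u p' chart' : Scheme.{u}) ⟶ P} (hr : IsProjQMapOn u p chart p' chart' (domQ u p' chart') r)

include hP hP' hr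

theorem qmap_p_apply (z : (domQ u p' chart' : Scheme.{u})) :
    p (r z) = g (p' ((domQ u p' chart').ι z)) := by
  rw [← Scheme.Hom.comp_apply, qmap_over u chart chart' hP hP' hr]
  rfl

/-- Where the preimage of a standard open is. -/
theorem qmap_mem_cb_iff (z : (domQ u p' chart' : Scheme.{u})) (U : S.Opens) (hU : IsAffineOpen U)
    (U' : S'.Opens) (hU' : IsAffineOpen U') (hle : U' ≤ g ⁻¹ᵁ U) (hzU' : p' ((domQ u p' chart').ι z) ∈ U')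
    {d : ℕ} (hd : 0 < d) (f : 𝒮.presheaf.obj (op U)) (hf : f ∈ 𝒮.deg U hU d) :
    r z ∈ cb chart U hU f ↔ (domQ u p' chart').ι z ∈ cb chart' U' hU' (u.gradedAt U hU U' hU' hle f) := by
  obtain ⟨⟨⟨U₁, hU₁⟩, ⟨U₁', hU₁'⟩, hle₁, d₁, hd₁, f₁, hf₁⟩, y₁, hy₁⟩ := exists_lchart_eq u chart' z
  have hzcb : (domQ u p' chart').ι z ∈ cb chart' U₁' hU₁' (u.gradedAt U₁ hU₁ U₁' hU₁' hle₁ f₁) := by
    rw [← opensRange_awayEmb u chart' U₁ hU₁ U₁' hU₁' hle₁ hd₁ f₁ hf₁]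
    exact ⟨y₁, by rw [← hy₁, ι_lchart_apply]⟩
  have hz1 : p' ((domQ u p' chart').ι z) ∈ U₁' := cb_le U₁' hU₁' _ hzcb
  obtain ⟨s, s', hss', hzs⟩ := exists_basicOpen_le_affine_inter hU hU₁ (g (p' ((domQ u p' chart').ι z)))
    ⟨hle hzU', hle₁ hz1⟩
  obtain ⟨W, hW, hzW, hWle⟩ := exists_isAffineOpen_mem_and_subset
    (U := U' ⊓ U₁' ⊓ g ⁻¹ᵁ S.basicOpen s) (x := p' ((domQ u p' chart').ι z)) ⟨⟨hzU', hz1⟩, hzs⟩
  have hW' : W ≤ U' := fun w hw => (hWle hw).1.1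
  have hW1 : W ≤ U₁' := fun w hw => (hWle hw).1.2
  have hWV : W ≤ g ⁻¹ᵁ S.basicOpen s := fun w hw => (hWle hw).2
  have hV : IsAffineOpen (S.basicOpen s) := hU.basicOpen s
  have hV1 : S.basicOpen s ≤ U₁ := hss'.trans_le (S.basicOpen_le s')
  have hF₁ := gmem (𝒮.res hU₁ hV hV1) hf₁
  have hzF₁ : (domQ u p' chart').ι z ∈ cb chart' W hW (u.gradedAt _ hV W hW hWV (𝒮.res hU₁ hV hV1 f₁)) := by
    rw [← gradedAt_res u hU₁ hV hU₁' hW hle₁ hWV hV1 hW1]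
    exact (mem_cb_res hP' hU₁' hW hW1 _ hzW).2 hzcb
  rw [← mem_cb_res hP' hU' hW hW' _ hzW, ← mem_cb_res hP hU hV (S.basicOpen_le s) f
    (by rw [qmap_p_apply u chart chart' hP hP' hr]; exact hzs)]
  change _ ↔ _ ∈ cb chart' W hW (𝒮'.res hU' hW hW' (u.gradedAt U hU U' hU' hle f))
  rw [gradedAt_res u hU hV hU' hW hle hWV (S.basicOpen_le s) hW']
  change r z ∈ cb chart _ hV (𝒮.res hU hV (S.basicOpen_le s) f) ↔ _
  have hF := gmem (𝒮.res hU hV (S.basicOpen_le s)) hf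
  generalize 𝒮.res hU hV (S.basicOpen_le s) f = F at hF ⊢
  generalize 𝒮.res hU₁ hV hV1 f₁ = F₁ at hF₁ hzF₁
  rw [← opensRange_awayEmb u chart' _ hV W hW hWV hd₁ F₁ hF₁] at hzF₁
  obtain ⟨y, hy⟩ := hzF₁
  let j : Idx u := ⟨⟨_, hV⟩, ⟨W, hW⟩, hWV, d₁, hd₁, F₁, hF₁⟩
  have hzy : lchart u chart' j y = z := (domQ u p' chart').ι.isOpenEmbedding.injective ((ι_lchart_apply u chart' j y).trans hy)
  rw [← hy, ← hzy, ← Scheme.Hom.comp_apply, (isProjQMapOn_iff u chart chart' r).1 hr j]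
  have hyF := gmem (u.gradedAt _ hV W hW hWV) hF₁
  change emb p chart _ hV (Proj.awayι (𝒮.deg _ hV) F₁ hF₁ hd₁
      (Spec.map (CommRingCat.ofHom (Away.map (u.gradedAt _ hV W hW hWV) F₁)) y)) ∈ cb chart _ hV F ↔
    emb p' chart' W hW (Proj.awayι (𝒮'.deg W hW) _ hyF hd₁ y) ∈ cb chart' W hW _
  rw [emb_mem_cb_iff, emb_mem_cb_iff]
  change Spec.map (CommRingCat.ofHom (Away.map (u.gradedAt _ hV W hW hWV) F₁)) y ∈
      Proj.awayι (𝒮.deg _ hV) F₁ hF₁ hd₁ ⁻¹ᵁ Proj.basicOpen _ F ↔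
    y ∈ Proj.awayι (𝒮'.deg W hW) _ hyF hd₁ ⁻¹ᵁ Proj.basicOpen _ _
  rw [Proj.awayι_preimage_basicOpen (𝒮.deg _ hV) hF₁ hd₁ hF hd,
    Proj.awayι_preimage_basicOpen (𝒮'.deg W hW) hyF hd₁ (gmem (u.gradedAt _ hV W hW hWV) hF) hd]
  have h : Away.map (u.gradedAt _ hV W hW hWV) F₁ (Away.isLocalizationElem hF₁ hF) =
      Away.isLocalizationElem hyF (gmem (u.gradedAt _ hV W hW hWV) hF) := by
    apply val_injective
    refine (congrArg val (Away.map_mk (u.gradedAt _ hV W hW hWV) F₁ hF₁ _ _ _)).trans ?_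
    simp [Away.isLocalizationElem]
  change Away.map (u.gradedAt _ hV W hW hWV) F₁ (Away.isLocalizationElem hF₁ hF) ∉ y.asIdeal ↔
    Away.isLocalizationElem hyF (gmem (u.gradedAt _ hV W hW hWV) hF) ∉ y.asIdeal
  rw [h]

/-- When the preimage of `U` lies in the affine `U'`, the preimage of a standard open is a standard open. -/
theorem qmap_preimage_cb (U : S.Opens) (hU : IsAffineOpen U) (U' : S'.Opens) (hU' : IsAffineOpen U')
    (hle : U' ≤ g ⁻¹ᵁ U) (hge : g ⁻¹ᵁ U ≤ U') {d : ℕ} (hd : 0 < d) (f : 𝒮.presheaf.obj (op U))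
    (hf : f ∈ 𝒮.deg U hU d) :
    r ⁻¹ᵁ cb chart U hU f = (domQ u p' chart').ι ⁻¹ᵁ cb chart' U' hU' (u.gradedAt U hU U' hU' hle f) := by
  ext z
  constructor
  · intro hz
    have h : g (p' ((domQ u p' chart').ι z)) ∈ U := by
      rw [← qmap_p_apply u chart chart' hP hP' hr]
      exact cb_le U hU f hz
    exact (qmap_mem_cb_iff u chart chart' hP hP' hr z U hU U' hU' hle (hge h) hd f hf).1 hz
  · intro hz
    exact (qmap_mem_cb_iff u chart chart' hP hP' hr z U hU U' hU' hle (cb_le U' hU' _ hz) hd f hf).2 hz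

theorem isPullback_chart (U : S.Opens) (hU : IsAffineOpen U) (U' : S'.Opens) (hU' : IsAffineOpen U')
    (hle : U' ≤ g ⁻¹ᵁ U) (hge : g ⁻¹ᵁ U ≤ U') {d : ℕ} (hd : 0 < d) (f : 𝒮.presheaf.obj (op U))
    (hf : f ∈ 𝒮.deg U hU d) :
    IsPullback (Spec.map (CommRingCat.ofHom (Away.map (u.gradedAt U hU U' hU' hle) f)))
      (lchart u chart' ⟨⟨U, hU⟩, ⟨U', hU'⟩, hle, d, hd, f, hf⟩)
      (Proj.awayι (𝒮.deg U hU) f hf hd ≫ emb p chart U hU) r := by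
  apply IsOpenImmersion.isPullback
  · exact (isProjQMapOn_iff u chart chart' r).1 hr ⟨⟨U, hU⟩, ⟨U', hU'⟩, hle, d, hd, f, hf⟩
  · rw [opensRange_awayι_emb]
    exact (qmap_preimage_cb u chart chart' hP hP' hr U hU U' hU' hle hge hd f hf).trans
      (opensRange_lchart u chart' ⟨⟨U, hU⟩, ⟨U', hU'⟩, hle, d, hd, f, hf⟩).symm

omit hP hP' hr

variable {𝒜 ℬ : QCGrAlg S} (φ : 𝒜.toQCAlg ⟶ ℬ.toQCAlg) (hφ : IsGradedHom φ)

theorem ofHom_gradedAt_eq (U : S.Opens) (hU : IsAffineOpen U) (a : 𝒜.presheaf.obj (op U)) :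
    (QGrHom.ofHom φ hφ).gradedAt U hU U hU le_rfl a = gradedHomAt φ hφ U hU a := by
  change (ℬ.presheaf.map (homOfLE (le_refl U)).op).hom ((φ.hom.app (op U)).hom a) = (φ.hom.app (op U)).hom a
  rw [show (homOfLE (le_refl U)).op = 𝟙 (op U) from rfl, CategoryTheory.Functor.map_id]
  rfl

theorem ofHom_gradedAt_eq' (U : S.Opens) (hU : IsAffineOpen U) :
    (QGrHom.ofHom φ hφ).gradedAt U hU U hU le_rfl = gradedHomAt φ hφ U hU :=
  GradedRingHom.ext (ofHom_gradedAt_eq φ hφ U hU)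

variable {PA PB : Scheme.{u}} {pA : PA ⟶ S} {pB : PB ⟶ S}
  {chartA : ∀ (U : S.Opens) (hU : IsAffineOpen U), (((pA ⁻¹ᵁ U : PA.Opens) : Scheme.{u}) ≅ Proj (𝒜.deg U hU))}
  {chartB : ∀ (U : S.Opens) (hU : IsAffineOpen U), (((pB ⁻¹ᵁ U : PB.Opens) : Scheme.{u}) ≅ Proj (ℬ.deg U hU))}

/-- Over a single base, `G(φ)` over `U` is `G(φ(U))`. -/
theorem domQ_ofHom_inf (hA : IsRelProj 𝒜 pA chartA) (hB : IsRelProj ℬ pB chartB) (U : S.Opens) (hU : IsAffineOpen U) :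
    domQ (QGrHom.ofHom φ hφ) pB chartB ⊓ pB ⁻¹ᵁ U =
      (emb pB chartB U hU) ''ᵁ RelCone.domOpen (gradedHomAt φ hφ U hU) := by
  rw [← ofHom_gradedAt_eq' φ hφ U hU]
  ext z
  constructor
  · rintro ⟨hz, hzU⟩
    obtain ⟨r, hr⟩ := exists_qmap (QGrHom.ofHom φ hφ) chartA chartB hA hB
    let w : (domQ (QGrHom.ofHom φ hφ) pB chartB : Scheme.{u}) := ⟨z, hz⟩
    have hpr : pA (r w) ∈ U := by
      rw [qmap_p_apply (QGrHom.ofHom φ hφ) chartA chartB hA hB hr]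
      exact hzU
    obtain ⟨d, hd, f, hf, hrf⟩ := exists_mem_cb (chart := chartA) hU hpr
    obtain ⟨v, hv, hve⟩ := (qmap_mem_cb_iff (QGrHom.ofHom φ hφ) chartA chartB hA hB hr w U hU U hU le_rfl hzU hd f hf).1 hrf
    exact ⟨v, (mem_domOpen_iff _ _).2 ⟨d, hd, f, hf, hv⟩, hve⟩
  · rintro ⟨v, hv, rfl⟩
    obtain ⟨d, hd, f, hf, hvf⟩ := (mem_domOpen_iff _ _).1 hv
    refine ⟨cb_le_domQ (QGrHom.ofHom φ hφ) chartB U hU U hU le_rfl hd f hf ⟨v, hvf, rfl⟩, ?_⟩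
    exact cb_le U hU _ ⟨v, hvf, rfl⟩

theorem image_domOpen_le (U : S.Opens) (hU : IsAffineOpen U) :
    (emb pB chartB U hU) ''ᵁ RelCone.domOpen (gradedHomAt φ hφ U hU) ≤ domQ (QGrHom.ofHom φ hφ) pB chartB := by
  rw [← ofHom_gradedAt_eq' φ hφ U hU]
  rintro z ⟨v, hv, rfl⟩
  obtain ⟨d, hd, f, hf, hvf⟩ := (mem_domOpen_iff _ _).1 hv
  exact cb_le_domQ (QGrHom.ofHom φ hφ) chartB U hU U hU le_rfl hd f hf ⟨v, hvf, rfl⟩

theorem domOpen_eq_top {A B σ τ : Type u} [CommRing A] [SetLike σ A] [AddSubgroupClass σ A] [CommRing B]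
    [SetLike τ B] [AddSubgroupClass τ B] {𝒜 : ℕ → σ} [GradedRing 𝒜] {ℬ : ℕ → τ} [GradedRing ℬ]
    (ψ : 𝒜 →+*ᵍ ℬ) (h : ℬ₊ ≤ (𝒜₊).map ψ) : RelCone.domOpen ψ = ⊤ := by
  refine eq_top_iff.2 fun x _ => (RelCone.mem_domOpen _ _).2 ?_
  by_contra hc
  push Not at hc
  refine x.not_irrelevant_le (h.trans ?_)
  exact Ideal.map_le_iff_le_comap.2 hc

/-- The standard affine cover of a relative Proj. -/
def cbCover (chartA : ∀ (U : S.Opens) (hU : IsAffineOpen U), (((pA ⁻¹ᵁ U : PA.Opens) : Scheme.{u}) ≅ Proj (𝒜.deg U hU))) :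
    PA.OpenCover :=
  .mkOfCovers (Σ (U : S.affineOpens) (d : PNat), 𝒜.deg U.1 U.2 d)
    (fun j => Spec (CommRingCat.of (Away (𝒜.deg j.1.1 j.1.2) j.2.2.1)))
    (fun j => Proj.awayι (𝒜.deg j.1.1 j.1.2) j.2.2.1 j.2.2.2 j.2.1.2 ≫ emb pA chartA j.1.1 j.1.2)
    (fun z => by
      obtain ⟨U, hU⟩ := Opens.mem_iSup.1 ((iSup_affineOpens_eq_top S).ge (Set.mem_univ (pA z)))
      obtain ⟨d, hd, f, hf, hz⟩ := exists_mem_cb (chart := chartA) U.2 hU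
      rw [← opensRange_awayι_emb U.1 U.2 hd f hf] at hz
      obtain ⟨y, hy⟩ := hz
      exact ⟨⟨U, ⟨d, hd⟩, f, hf⟩, y, hy⟩)
    (fun j => inferInstance)

/-- A property local at the target holds for `Proj(φ)` as soon as it holds on the standard charts. -/
theorem qmap_of_charts (hA : IsRelProj 𝒜 pA chartA) (hB : IsRelProj ℬ pB chartB)
    {Φ : (domQ (QGrHom.ofHom φ hφ) pB chartB : Scheme.{u}) ⟶ PA}
    (hΦ : IsProjQMapOn (QGrHom.ofHom φ hφ) pA chartA pB chartB (domQ (QGrHom.ofHom φ hφ) pB chartB) Φ)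
    {Q : MorphismProperty Scheme.{u}} [IsZariskiLocalAtTarget Q]
    (H : ∀ (U : S.Opens) (hU : IsAffineOpen U) (d : ℕ), 0 < d → ∀ f ∈ 𝒜.deg U hU d,
      Q (Spec.map (CommRingCat.ofHom (Away.map ((QGrHom.ofHom φ hφ).gradedAt U hU U hU le_rfl) f)))) :
    Q Φ := by
  refine IsZariskiLocalAtTarget.of_openCover (cbCover chartA) fun j => ?_
  obtain ⟨⟨U, hU⟩, ⟨d, hd⟩, f, hf⟩ := j
  have h := (isPullback_chart (QGrHom.ofHom φ hφ) chartA chartB hA hB hΦ U hU U hU le_rfl le_rfl hd f hf).flip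
  have hj := H U hU d hd f hf
  rw [← h.isoPullback_hom_snd] at hj
  exact (Q.cancel_left_of_respectsIso _ _).1 hj

end Groth.Agent.H11QMap
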