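import Groth.Agent.H11QMap.RelAmpleQ
import Groth.Agent.H11QMap.TwistPull
import Groth.Agent.H11Ample.Global

/-!
# Fractions of every degree for `f_* Sym L`, `L` relatively ample
-/

set_option autoImplicit false
set_option linter.style.haveILetI false

noncomputable section

universe u

open CategoryTheory CategoryTheory.Limits AlgebraicGeometry TopologicalSpace Opposite RelProj
open HomogeneousLocalization
open scoped HomogeneousIdeal
open Groth.Agent.H11Sym Groth.Agent.H11Tilde Groth.Agent.H11Ample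

namespace Groth.Agent.H11QMap

/-- Large powers of an ample module have sections generating at a given point. -/
theorem eventually_exists_gen {X : Scheme.{u}} [CompactSpace X] [QuasiSeparatedSpace X] {L : X.Modules}
    (hA : CohB1.IsAmple L) (x : X) :
    ∃ N, ∀ n, N ≤ n → ∃ t : Γ(CohB1.tensorPow L n, ⊤), x ∈ gen (CohB1.tensorPow L n) t := by
  obtain ⟨hL, -, -⟩ := isAmple_iff.1 hA
  obtain ⟨V, e, hxV, he⟩ := exists_gen hL x
  obtain ⟨k, s, hk, hxs, hsV, -⟩ := exists_affine_gen_le hA hxV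
  let G := gen (CohB1.tensorPow L k) s
  obtain ⟨N, hN⟩ := exists_extend_pow (F := Coh.structureModule X) hL (H29Blow.isQCoh_structureModule X) hk s
    (he.res hsV) (one G)
  refine ⟨N, fun n hn => ?_⟩
  obtain ⟨S, c, hc, hS⟩ := hN n hn
  obtain ⟨φ, hφ⟩ := exists_iso_unit hL n
  refine ⟨φ.hom.app ⊤ S, mem_gen_of_isGen (W := G) ?_ hxs⟩
  rw [← app_map_apply, hS, smul_one_eq, hφ]
  have h1 := isGen_res (isGen_spow (he.res hsV) n) (le_refl G) hc
  rwa [H10Coh.mres_self] at h1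

variable {X Y PL : Scheme.{u}} {q : X ⟶ Y} {L : X.Modules} {𝒮 : QCGrAlg Y} {𝒮L : QCGrAlg X}
  {j : L ⟶ 𝒮L.toModule} (u : QGrHom q 𝒮 𝒮L) {pL : PL ⟶ X}
  {chartL : ∀ (U : X.Opens) (hU : IsAffineOpen U), (((pL ⁻¹ᵁ U : PL.Opens) : Scheme.{u}) ≅ Proj (𝒮L.deg U hU))}

/-- For `f_* Sym L`, `L` relatively ample, there are fractions of every degree. -/
theorem hasFrac_of_isRelAmple [QuasiCompact q] (hPL : IsRelProj 𝒮L pL chartL) (hL : PicF.IsInvertible L)
    (hLq : Coh.IsQCoh L) (hj : IsGrSymAlg L 𝒮L j)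
    (hbij : ∀ U : Y.Opens, IsAffineOpen U → Function.Bijective (u.app U).hom) (h : RelAmple.IsRelAmple q L) (n : ℕ) :
    HasFrac u chartL (n : ℤ) := by
  intro z
  let x := pL ((domQ u pL chartL).ι z)
  obtain ⟨⟨U, hU⟩, hxU⟩ := Opens.mem_iSup.1 ((iSup_affineOpens_eq_top Y).ge (Set.mem_univ (q x)))
  let W : X.Opens := q ⁻¹ᵁ U
  have hA : CohB1.IsAmple (L.restrict W.ι) := h.2 ⟨U, hU⟩
  obtain ⟨-, hc, -⟩ := isAmple_iff.1 hA
  haveI := hc
  haveI := quasiSeparatedSpace_of_isAmple hA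
  obtain ⟨N, hN⟩ := eventually_exists_gen hA ⟨x, hxU⟩
  have hel : ∀ m, N + 1 ≤ m → ∃ a, a ∈ 𝒮.deg U hU m ∧ x ∈ LocU.tlocU u U a m := fun m hm => by
    obtain ⟨t, hxt⟩ := hN m (by omega)
    obtain ⟨τ, hτd, hτ⟩ := exists_corr_restrict j hL hj W m t
    obtain ⟨a, rfl⟩ := (hbij U hU).2 τ
    have ha : a ∈ 𝒮.deg U hU m := mem_deg_of_app u hU (hbij U hU).1 hτd
    exact ⟨a, ha, (mem_tlocU_iff_gen u hPL hL hLq hj hU (by omega) ha t hτ ⟨x, hxU⟩).2 hxt⟩
  obtain ⟨a, ha, hxa⟩ := hel (N + 1 + n) (by omega)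
  obtain ⟨b, hb, hxb⟩ := hel (N + 1) le_rfl
  obtain ⟨V, hV, hxV, hVle⟩ := exists_isAffineOpen_mem_and_subset
    (U := LocU.tlocU u U a (N + 1 + n) ⊓ LocU.tlocU u U b (N + 1)) (x := x) ⟨hxa, hxb⟩
  have hVa : V ≤ LocU.tlocU u U a (N + 1 + n) := fun v hv => (hVle hv).1
  have hVb : V ≤ LocU.tlocU u U b (N + 1) := fun v hv => (hVle hv).2
  refine ⟨U, hU, V, hV, LocU.tlocU_le u hVa, _, _, a, b, ha, hb, by push_cast; ring, by omega, ?_⟩
  have e1 := LocU.cb_tloc u hU hPL hL hLq hj (chartL := chartL) (show 0 < N + 1 + n by omega) hV hVa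
  have e2 := LocU.cb_tloc u hU hPL hL hLq hj (chartL := chartL) (show 0 < N + 1 by omega) hV hVb
  rw [cb_mul]
  exact ⟨e1.ge hxV, e2.ge hxV⟩

end Groth.Agent.H11QMap
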