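import Groth.Agent.H11QMap.Global
import Groth.Agent.H11Proj.AwayBaseChange

/-!
# Base change of relative Proj
-/

set_option autoImplicit false
set_option linter.style.haveILetI false

noncomputable section

universe u

open CategoryTheory CategoryTheory.Limits AlgebraicGeometry TopologicalSpace Opposite RelProj
open HomogeneousLocalization
open scoped HomogeneousIdeal

namespace Groth.Agent.H11QMap

variable {S S' P P' : Scheme.{u}} {g : S' ⟶ S} {𝒮 : QCGrAlg S} {𝒮' : QCGrAlg S'} (u : QGrHom g 𝒮 𝒮')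
  {p : P ⟶ S} (chart : ∀ (U : S.Opens) (hU : IsAffineOpen U), (((p ⁻¹ᵁ U : P.Opens) : Scheme.{u}) ≅ Proj (𝒮.deg U hU)))
  {p' : P' ⟶ S'}
  (chart' : ∀ (U' : S'.Opens) (hU' : IsAffineOpen U'), (((p' ⁻¹ᵁ U' : P'.Opens) : Scheme.{u}) ≅ Proj (𝒮'.deg U' hU')))

section ring

variable (hu : RelSpec.IsQBaseChange u.toQHom) (U : S.Opens) (hU : IsAffineOpen U) (U' : S'.Opens)
  (hU' : IsAffineOpen U') (hle : U' ≤ g ⁻¹ᵁ U)

include hu hU hU'

/-- Positive degree elements of the pullback come from positive degree elements. -/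
theorem mem_span_gradedAt {k : ℕ} (hk : 0 < k) {b : 𝒮'.presheaf.obj (op U')} (hb : b ∈ 𝒮'.deg U' hU' k) :
    b ∈ Ideal.span {c | ∃ d : ℕ, 0 < d ∧ ∃ a ∈ 𝒮.deg U hU d, u.gradedAt U hU U' hU' hle a = c} := by
  letI : Algebra Γ(S, U) Γ(S', U') := (g.appLE U U' hle).hom.toAlgebra
  letI : Algebra Γ(S, U) (𝒮.presheaf.obj (op U)) := (𝒮.str.app (op U)).hom.toAlgebra
  letI : Algebra Γ(S', U') (𝒮'.presheaf.obj (op U')) := (𝒮'.str.app (op U')).hom.toAlgebra
  letI : Algebra (𝒮.presheaf.obj (op U)) (𝒮'.presheaf.obj (op U')) := (u.appLE U U' hle).hom.toAlgebra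
  letI : Algebra Γ(S, U) (𝒮'.presheaf.obj (op U')) :=
    ((𝒮'.str.app (op U')).hom.comp (g.appLE U U' hle).hom).toAlgebra
  haveI : IsScalarTower Γ(S, U) Γ(S', U') (𝒮'.presheaf.obj (op U')) := IsScalarTower.of_algebraMap_eq fun _ => rfl
  haveI : IsScalarTower Γ(S, U) (𝒮.presheaf.obj (op U)) (𝒮'.presheaf.obj (op U')) :=
    IsScalarTower.of_algebraMap_eq fun r => (ConcreteCategory.congr_hom (u.str_appLE U U' hle) r).symm
  haveI : Algebra.IsPushout Γ(S, U) Γ(S', U') (𝒮.presheaf.obj (op U)) (𝒮'.presheaf.obj (op U')) :=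
    CommRingCat.isPushout_iff_isPushout.1 (hu U hU U' hU' hle)
  have h : IsBaseChange Γ(S', U') (IsScalarTower.toAlgHom Γ(S, U) (𝒮.presheaf.obj (op U))
      (𝒮'.presheaf.obj (op U'))).toLinearMap := Algebra.IsPushout.out
  let I := Ideal.span {c | ∃ d : ℕ, 0 < d ∧ ∃ a ∈ 𝒮.deg U hU d, u.gradedAt U hU U' hU' hle a = c}
  have key : ∀ x : 𝒮'.presheaf.obj (op U'), ∀ n, 0 < n →
      (DirectSum.decompose (𝒮'.deg U' hU') x n : 𝒮'.presheaf.obj (op U')) ∈ I := by
    intro x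
    refine h.inductionOn x
      (motive := fun x => ∀ n, 0 < n → (DirectSum.decompose (𝒮'.deg U' hU') x n : 𝒮'.presheaf.obj (op U')) ∈ I)
      (fun n _ => by simp) (fun a n hn => ?_) (fun r x hx n hn => ?_) (fun x y hx hy n hn => ?_)
    · refine Ideal.subset_span ⟨n, hn, _, (DirectSum.decompose (𝒮.deg U hU) a n).2, ?_⟩
      exact H11Proj.map_proj (u.gradedAt U hU U' hU' hle) a n
    · rw [Algebra.smul_def, RingHom.algebraMap_toAlgebra,
        DirectSum.coe_decompose_mul_of_left_mem_zero _ (𝒮'.str_mem U' hU' r)]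
      exact I.mul_mem_left _ (hx n hn)
    · rw [DirectSum.decompose_add, DirectSum.add_apply, AddMemClass.coe_add]
      exact add_mem (hx n hn) (hy n hn)
  have := key b k hk
  rwa [DirectSum.decompose_of_mem_same _ hb] at this

/-- The standard opens of the images cover. -/
theorem exists_mem_cb_gradedAt {z : P'} (hz : p' z ∈ U') :
    ∃ (d : ℕ) (_ : 0 < d) (f : 𝒮.presheaf.obj (op U)), f ∈ 𝒮.deg U hU d ∧
      z ∈ cb chart' U' hU' (u.gradedAt U hU U' hU' hle f) := by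
  obtain ⟨w, rfl⟩ := exists_emb_eq (chart := chart') hU' hz
  by_contra hc
  push Not at hc
  refine w.not_irrelevant_le ((HomogeneousIdeal.irrelevant_le _).2 fun k hk b hb => ?_)
  refine (Ideal.span_le.2 ?_) (mem_span_gradedAt u hu U hU U' hU' hle hk hb)
  rintro _ ⟨d, hd, a, ha, rfl⟩
  by_contra hn
  exact hc d hd a ha ⟨w, (ProjectiveSpectrum.mem_basicOpen _ _ _).2 hn, rfl⟩

theorem away_isPushout {d : ℕ} (hd : 0 < d) (f : 𝒮.presheaf.obj (op U)) (hf : f ∈ 𝒮.deg U hU d) :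
    IsPushout (g.appLE U U' hle)
      (𝒮.strZero U hU ≫ CommRingCat.ofHom (fromZeroRingHom (𝒮.deg U hU) (Submonoid.powers f)))
      (𝒮'.strZero U' hU' ≫ CommRingCat.ofHom
        (fromZeroRingHom (𝒮'.deg U' hU') (Submonoid.powers (u.gradedAt U hU U' hU' hle f))))
      (CommRingCat.ofHom (Away.map (u.gradedAt U hU U' hU' hle) f)) := by
  letI : Algebra Γ(S, U) Γ(S', U') := (g.appLE U U' hle).hom.toAlgebra
  letI : Algebra Γ(S, U) (𝒮.presheaf.obj (op U)) := (𝒮.str.app (op U)).hom.toAlgebra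
  letI : Algebra Γ(S', U') (𝒮'.presheaf.obj (op U')) := (𝒮'.str.app (op U')).hom.toAlgebra
  letI : Algebra (𝒮.presheaf.obj (op U)) (𝒮'.presheaf.obj (op U')) := (u.appLE U U' hle).hom.toAlgebra
  letI : Algebra Γ(S, U) (𝒮'.presheaf.obj (op U')) :=
    ((𝒮'.str.app (op U')).hom.comp (g.appLE U U' hle).hom).toAlgebra
  haveI : IsScalarTower Γ(S, U) Γ(S', U') (𝒮'.presheaf.obj (op U')) := IsScalarTower.of_algebraMap_eq fun _ => rfl
  haveI : IsScalarTower Γ(S, U) (𝒮.presheaf.obj (op U)) (𝒮'.presheaf.obj (op U')) :=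
    IsScalarTower.of_algebraMap_eq fun r => (ConcreteCategory.congr_hom (u.str_appLE U U' hle) r).symm
  haveI : Algebra.IsPushout Γ(S, U) Γ(S', U') (𝒮.presheaf.obj (op U)) (𝒮'.presheaf.obj (op U')) :=
    CommRingCat.isPushout_iff_isPushout.1 (hu U hU U' hU' hle)
  exact H11Proj.away_isPushout (R := Γ(S', U')) (R' := Γ(S, U)) (u.gradedAt U hU U' hU' hle) (fun _ => rfl)
    (𝒮.str_mem U hU) (𝒮'.str_mem U' hU') hd hf

end ring

theorem domQ_eq_top_of_isQBaseChange (hu : RelSpec.IsQBaseChange u.toQHom) :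
    domQ u p' chart' = ⊤ := by
  refine eq_top_iff.2 fun z _ => ?_
  obtain ⟨⟨U, hU⟩, hzU⟩ := Opens.mem_iSup.1 ((iSup_affineOpens_eq_top S).ge (Set.mem_univ (g (p' z))))
  obtain ⟨U', hU', hzU', hle⟩ := exists_isAffineOpen_mem_and_subset (U := g ⁻¹ᵁ U) (x := p' z) hzU
  obtain ⟨d, hd, f, hf, hz⟩ := exists_mem_cb_gradedAt u chart' hu U hU U' hU' hle hzU'
  exact cb_le_domQ u chart' U hU U' hU' hle hd f hf hz

theorem isPullback_of_isQBaseChange (hu : RelSpec.IsQBaseChange u.toQHom) (hP : IsRelProj 𝒮 p chart)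
    (hP' : IsRelProj 𝒮' p' chart') {h : P' ⟶ P} (hh : IsProjQMap u p chart p' chart' h) :
    IsPullback h p' p g := by
  have hover : h ≫ p = p' ≫ g := isProjQMap_over u chart chart' hP hP' hh
  have hr := isProjQMapOn_of_isProjQMap u chart chart' hh
  let k : P' ⟶ pullback p g := pullback.lift h p' hover
  let c : ∀ i : Idx u, Spec (CommRingCat.of (Away (𝒮.deg i.U.1 i.U.2) i.f)) ⟶ P := fun i =>
    Proj.awayι (𝒮.deg i.U.1 i.U.2) i.f i.hf i.hd ≫ emb p chart i.U.1 i.U.2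
  let strF : ∀ i : Idx u, Spec (CommRingCat.of (Away (𝒮.deg i.U.1 i.U.2) i.f)) ⟶ Spec Γ(S, i.U.1) := fun i =>
    Spec.map (𝒮.strZero i.U.1 i.U.2 ≫ CommRingCat.ofHom
      (fromZeroRingHom (𝒮.deg i.U.1 i.U.2) (Submonoid.powers i.f)))
  let ψF : ∀ i : Idx u, Spec Γ(S', i.U'.1) ⟶ Spec Γ(S, i.U.1) := fun i =>
    Spec.map (g.appLE i.U.1 i.U'.1 i.hle)
  have e1 : ∀ i, strF i ≫ i.U.2.fromSpec = c i ≫ p := fun i =>
    ((Category.assoc _ _ _).trans (awayι_emb_p chart hP i.U.1 i.U.2 i.hd i.f i.hf)).symm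
  have e2 : ∀ i, ψF i ≫ i.U.2.fromSpec = i.U'.2.fromSpec ≫ g := fun i =>
    IsAffineOpen.SpecMap_appLE_fromSpec g i.U.2 i.U'.2 i.hle
  let m : ∀ i, pullback (strF i) (ψF i) ⟶ pullback p g := fun i =>
    pullback.map (strF i) (ψF i) p g (c i) i.U'.2.fromSpec i.U.2.fromSpec (e1 i) (e2 i)
  have hm : ∀ i, IsOpenImmersion (m i) := fun i => inferInstance
  have hrange : ∀ i, (m i).opensRange =
      pullback.fst p g ⁻¹ᵁ cb chart i.U.1 i.U.2 i.f ⊓ pullback.snd p g ⁻¹ᵁ i.U'.1 := fun i => by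
    refine Opens.ext ?_
    change Set.range (m i) = _
    rw [Scheme.Pullback.range_map, ← opensRange_awayι_emb (chart := chart) i.U.1 i.U.2 i.hd i.f i.hf,
      i.U'.2.range_fromSpec]
    rfl
  have hcov : ∀ w : (pullback p g : Scheme.{u}), ∃ i : Idx u, w ∈ (m i).opensRange := by
    intro w
    obtain ⟨⟨U, hU⟩, hwU⟩ := Opens.mem_iSup.1 ((iSup_affineOpens_eq_top S).ge (Set.mem_univ (p (pullback.fst p g w))))
    obtain ⟨d, hd, f, hf, hw⟩ := exists_mem_cb (chart := chart) hU hwU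
    have hw' : g (pullback.snd p g w) ∈ U := by
      rw [← Scheme.Hom.comp_apply, ← pullback.condition]
      exact hwU
    obtain ⟨U', hU', hwU', hle⟩ := exists_isAffineOpen_mem_and_subset (U := g ⁻¹ᵁ U) hw'
    exact ⟨⟨⟨U, hU⟩, ⟨U', hU'⟩, hle, d, hd, f, hf⟩, (hrange _).ge ⟨hw, hwU'⟩⟩
  let 𝒰 : (pullback p g).OpenCover := .mkOfCovers (Idx u) (fun i => pullback (strF i) (ψF i)) m
    (fun w => by
      obtain ⟨i, y, hy⟩ := hcov w
      exact ⟨i, y, hy⟩) hm
  have : IsIso k := by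
    change MorphismProperty.isomorphisms Scheme k
    refine (IsZariskiLocalAtTarget.iff_of_openCover (P := MorphismProperty.isomorphisms Scheme) 𝒰).2 fun i => ?_
    haveI := isIso_domQ_ι u chart' hh.1
    have hsq := (isPullback_SpecMap_of_isPushout _ _ _ _
      (away_isPushout u hu i.U.1 i.U.2 i.U'.1 i.U'.2 i.hle i.hd i.f i.hf)).flip
    let a := awayEmb u p' chart' i.U.1 i.U.2 i.U'.1 i.U'.2 i.hle i.hd i.f i.hf
    let b := hsq.isoPullback.hom
    have hab : a ≫ k = b ≫ m i := by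
      apply pullback.hom_ext
      · rw [Category.assoc, Category.assoc, pullback.lift_fst, pullback.lift_fst,
          IsPullback.isoPullback_hom_fst_assoc]
        exact hh.2 i.U.1 i.U.2 i.U'.1 i.U'.2 i.hle i.d i.hd i.f i.hf
      · rw [Category.assoc, Category.assoc, pullback.lift_snd, pullback.lift_snd,
          IsPullback.isoPullback_hom_snd_assoc]
        exact (Category.assoc _ _ _).trans (awayι_emb_p chart' hP' i.U'.1 i.U'.2 i.hd _
          (gmem (u.gradedAt i.U.1 i.U.2 i.U'.1 i.U'.2 i.hle) i.hf))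
    have hpb : IsPullback b a (m i) k := by
      apply IsOpenImmersion.isPullback
      · exact hab
      · rw [hrange, Scheme.Hom.preimage_inf, ← Scheme.Hom.comp_preimage, ← Scheme.Hom.comp_preimage,
          pullback.lift_fst, pullback.lift_snd]
        refine Eq.trans ?_ (opensRange_awayEmb u chart' i.U.1 i.U.2 i.U'.1 i.U'.2 i.hle i.hd i.f i.hf).symm
        ext z
        let w : (domQ u p' chart' : Scheme.{u}) := ⟨z, hh.1.ge trivial⟩
        constructor
        · rintro ⟨h1, h2⟩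
          exact (qmap_mem_cb_iff u chart chart' hP hP' hr w i.U.1 i.U.2 i.U'.1 i.U'.2 i.hle h2 i.hd i.f i.hf).1 h1
        · intro hz
          have h2 := cb_le i.U'.1 i.U'.2 _ hz
          exact ⟨(qmap_mem_cb_iff u chart chart' hP hP' hr w i.U.1 i.U.2 i.U'.1 i.U'.2 i.hle h2 i.hd i.f i.hf).2 hz, h2⟩
    have hb : IsIso b := inferInstance
    change IsIso (pullback.snd k (m i))
    rw [← hpb.flip.isoPullback_inv_snd]
    infer_instance
  exact IsPullback.of_iso_pullback ⟨hover⟩ (asIso k) (pullback.lift_fst _ _ _) (pullback.lift_snd _ _ _)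

end Groth.Agent.H11QMap
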