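import Groth.Prelude.Def_RelProj4
import Mathlib.AlgebraicGeometry.ProjectiveSpectrum.Basic

/-!
# Standard opens of a relative Proj seen through the charts
-/

set_option autoImplicit false

noncomputable section

universe u

open CategoryTheory CategoryTheory.Limits AlgebraicGeometry TopologicalSpace Opposite RelProj
open scoped HomogeneousIdeal

namespace Groth.Agent.H11QMap

variable {S P : Scheme.{u}} {𝒮 : QCGrAlg S} {p : P ⟶ S}
variable {chart : ∀ (U : S.Opens) (hU : IsAffineOpen U), (((p ⁻¹ᵁ U : P.Opens) : Scheme.{u}) ≅ Proj (𝒮.deg U hU))}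

theorem opensRange_emb (U : S.Opens) (hU : IsAffineOpen U) :
    (emb p chart U hU).opensRange = p ⁻¹ᵁ U := by
  change ((chart U hU).inv ≫ (p ⁻¹ᵁ U).ι).opensRange = _
  rw [Scheme.Hom.opensRange_comp_of_isIso, Scheme.Opens.opensRange_ι]

/-- `D₊(a)` of the chart over `U`, inside `P`. -/
def cb (chart : ∀ (U : S.Opens) (hU : IsAffineOpen U), (((p ⁻¹ᵁ U : P.Opens) : Scheme.{u}) ≅ Proj (𝒮.deg U hU)))
    (U : S.Opens) (hU : IsAffineOpen U) (a : 𝒮.presheaf.obj (op U)) : P.Opens :=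
  (emb p chart U hU) ''ᵁ Proj.basicOpen (𝒮.deg U hU) a

theorem cb_le (U : S.Opens) (hU : IsAffineOpen U) (a : 𝒮.presheaf.obj (op U)) : cb chart U hU a ≤ p ⁻¹ᵁ U :=
  (Scheme.Hom.image_le_opensRange _ _).trans_eq (opensRange_emb U hU)

theorem exists_emb_eq {U : S.Opens} (hU : IsAffineOpen U) {z : P} (hz : p z ∈ U) :
    ∃ w, emb p chart U hU w = z := by
  have h : z ∈ (emb p chart U hU).opensRange := by rw [opensRange_emb]; exact hz
  exact h

theorem emb_mem_cb_iff (U : S.Opens) (hU : IsAffineOpen U) (a : 𝒮.presheaf.obj (op U))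
    (w : Proj (𝒮.deg U hU)) : emb p chart U hU w ∈ cb chart U hU a ↔ w ∈ Proj.basicOpen (𝒮.deg U hU) a :=
  ⟨fun ⟨_, hv, he⟩ => (emb p chart U hU).isOpenEmbedding.injective he ▸ hv, fun h => ⟨w, h, rfl⟩⟩

theorem res_trans {U V W : S.Opens} (i : V ≤ U) (j : W ≤ V) (a : 𝒮.presheaf.obj (op U)) :
    (𝒮.presheaf.map (homOfLE j).op).hom ((𝒮.presheaf.map (homOfLE i).op).hom a) =
      (𝒮.presheaf.map (homOfLE (j.trans i)).op).hom a := by
  rw [← CommRingCat.comp_apply, ← Functor.map_comp]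
  rfl

variable (hP : IsRelProj 𝒮 p chart)
include hP

theorem mem_cb_res_basic {U : S.Opens} (hU : IsAffineOpen U) (r : Γ(S, U)) (a : 𝒮.presheaf.obj (op U)) {z : P}
    (hz : p z ∈ S.basicOpen r) :
    z ∈ cb chart (S.basicOpen r) (hU.basicOpen r) ((𝒮.presheaf.map (homOfLE (S.basicOpen_le r)).op).hom a) ↔
      z ∈ cb chart U hU a := by
  obtain ⟨w, rfl⟩ := exists_emb_eq (chart := chart) (hU.basicOpen r) hz
  rw [emb_mem_cb_iff]
  conv_rhs => rw [← map_res_emb hP U hU r, Scheme.Hom.comp_apply, emb_mem_cb_iff]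
  exact Iff.rfl

/-- The standard opens are compatible with restriction between arbitrary affine opens. -/
theorem mem_cb_res {U V : S.Opens} (hU : IsAffineOpen U) (hV : IsAffineOpen V) (i : V ≤ U)
    (a : 𝒮.presheaf.obj (op U)) {z : P} (hz : p z ∈ V) :
    z ∈ cb chart V hV ((𝒮.presheaf.map (homOfLE i).op).hom a) ↔ z ∈ cb chart U hU a := by
  obtain ⟨r, s, hrs, hzr⟩ := exists_basicOpen_le_affine_inter hV hU (p z) ⟨hz, i hz⟩
  rw [← mem_cb_res_basic hP hV r _ hzr, res_trans]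
  have key : ∀ (W : S.Opens) (hW : IsAffineOpen W) (e : W = S.basicOpen s) (j : W ≤ U),
      p z ∈ W → (z ∈ cb chart W hW ((𝒮.presheaf.map (homOfLE j).op).hom a) ↔ z ∈ cb chart U hU a) := by
    rintro W hW rfl j hzW
    exact mem_cb_res_basic hP hU s a hzW
  exact key _ (hV.basicOpen r) hrs _ hzr

theorem cb_res {U V : S.Opens} (hU : IsAffineOpen U) (hV : IsAffineOpen V) (i : V ≤ U)
    (a : 𝒮.presheaf.obj (op U)) :
    cb chart V hV ((𝒮.presheaf.map (homOfLE i).op).hom a) = cb chart U hU a ⊓ p ⁻¹ᵁ V := by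
  ext z
  exact ⟨fun h => ⟨(mem_cb_res hP hU hV i a (cb_le V hV _ h)).1 h, cb_le V hV _ h⟩,
    fun h => (mem_cb_res hP hU hV i a h.2).2 h.1⟩

/-- The chart over `U` lies over `U`. -/
theorem emb_comp_p (U : S.Opens) (hU : IsAffineOpen U) :
    emb p chart U hU ≫ p = Proj.toSpecZero (𝒮.deg U hU) ≫ Spec.map (𝒮.strZero U hU) ≫ hU.fromSpec := by
  rw [emb, Category.assoc, ← hP.chart_over U hU, Iso.inv_hom_id_assoc]

omit hP

theorem cb_mul (U : S.Opens) (hU : IsAffineOpen U) (a b : 𝒮.presheaf.obj (op U)) :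
    cb chart U hU (a * b) = cb chart U hU a ⊓ cb chart U hU b := by
  ext z
  constructor
  · rintro ⟨w, hw, rfl⟩
    rw [SetLike.mem_coe, Proj.basicOpen_mul] at hw
    exact ⟨⟨w, hw.1, rfl⟩, ⟨w, hw.2, rfl⟩⟩
  · rintro ⟨⟨w, hw, rfl⟩, hb⟩
    refine ⟨w, ?_, rfl⟩
    rw [SetLike.mem_coe, Proj.basicOpen_mul]
    exact ⟨hw, (emb_mem_cb_iff U hU b w).1 hb⟩

theorem cb_pow (U : S.Opens) (hU : IsAffineOpen U) (a : 𝒮.presheaf.obj (op U)) {n : ℕ} (hn : 0 < n) :
    cb chart U hU (a ^ n) = cb chart U hU a := by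
  rw [cb, Proj.basicOpen_pow _ a n hn]
  rfl

/-- The standard opens of positive degree cover the relative Proj over each affine open. -/
theorem exists_mem_cb {U : S.Opens} (hU : IsAffineOpen U) {z : P} (hz : p z ∈ U) :
    ∃ (d : ℕ) (_ : 0 < d) (a : 𝒮.presheaf.obj (op U)), a ∈ 𝒮.deg U hU d ∧ z ∈ cb chart U hU a := by
  obtain ⟨w, rfl⟩ := exists_emb_eq (chart := chart) hU hz
  by_contra hc
  push Not at hc
  refine w.not_irrelevant_le ((HomogeneousIdeal.irrelevant_le _).2 fun d hd a ha => ?_)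
  by_contra hn
  exact hc d hd a ha ⟨w, (ProjectiveSpectrum.mem_basicOpen _ _ _).2 hn, rfl⟩

theorem opensRange_awayι_emb (U : S.Opens) (hU : IsAffineOpen U) {d : ℕ} (hd : 0 < d)
    (a : 𝒮.presheaf.obj (op U)) (ha : a ∈ 𝒮.deg U hU d) :
    (Proj.awayι (𝒮.deg U hU) a ha hd ≫ emb p chart U hU).opensRange = cb chart U hU a := by
  rw [Scheme.Hom.opensRange_comp, Proj.opensRange_awayι]
  rfl

theorem isAffineOpen_cb (U : S.Opens) (hU : IsAffineOpen U) {d : ℕ} (hd : 0 < d)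
    (a : 𝒮.presheaf.obj (op U)) (ha : a ∈ 𝒮.deg U hU d) : IsAffineOpen (cb chart U hU a) := by
  rw [← opensRange_awayι_emb U hU hd a ha]
  exact isAffineOpen_opensRange _

end Groth.Agent.H11QMap
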