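import Groth.Agent.H11QMap.ClosedKer
import Groth.Agent.H11Proj.Spectrum
import Mathlib

/-!
# The homogeneous ideal of a closed subscheme seen in a chart `Proj 𝒜 ⟶ P`
-/

set_option autoImplicit false
set_option linter.unusedVariables false
set_option linter.style.haveILetI false

noncomputable section

universe u

open CategoryTheory CategoryTheory.Limits AlgebraicGeometry TopologicalSpace Opposite HomogeneousLocalization
open scoped HomogeneousIdeal

namespace Groth.Agent.H11QMap.CI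

variable {A σ : Type u} [CommRing A] [SetLike σ A] [AddSubgroupClass σ A] (𝒜 : ℕ → σ) [GradedRing 𝒜]
  {Z P : Scheme.{u}} (i : Z ⟶ P) (e : Proj 𝒜 ⟶ P)

/-- The vanishing ideal on the chart `D₊(f)`. -/
abbrev J {f : A} {d : ℕ} (hd : 0 < d) (hf : f ∈ 𝒜 d) : Ideal (Away 𝒜 f) :=
  jk i (Proj.awayι 𝒜 f hf hd ≫ e)

/-- Numerators of fractions vanishing on the chart. -/
def gens {f : A} {d : ℕ} (hd : 0 < d) (hf : f ∈ 𝒜 d) : Set A :=
  {y | ∃ (m : ℕ) (hy : y ∈ 𝒜 (m • d)), Away.mk 𝒜 hf m y hy ∈ J 𝒜 i e hd hf}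

/-- The ideal spanned by them. -/
def H {f : A} {d : ℕ} (hd : 0 < d) (hf : f ∈ 𝒜 d) : Ideal A := Ideal.span (gens 𝒜 i e hd hf)

/-- Its saturation at `f`. -/
def T {f : A} {d : ℕ} (hd : 0 < d) (hf : f ∈ 𝒜 d) : Ideal A where
  carrier := {a | ∃ N, f ^ N * a ∈ H 𝒜 i e hd hf}
  add_mem' {a b} ha hb := by
    obtain ⟨N, hN⟩ := ha
    obtain ⟨M, hM⟩ := hb
    refine ⟨N + M, ?_⟩
    rw [show f ^ (N + M) * (a + b) = f ^ M * (f ^ N * a) + f ^ N * (f ^ M * b) by ring]
    exact add_mem (Ideal.mul_mem_left _ _ hN) (Ideal.mul_mem_left _ _ hM)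
  zero_mem' := ⟨0, by simp⟩
  smul_mem' c a ha := by
    obtain ⟨N, hN⟩ := ha
    exact ⟨N, by rw [smul_eq_mul, mul_left_comm]; exact Ideal.mul_mem_left _ _ hN⟩

/-- The homogeneous ideal of the closed subscheme. -/
def idealI : Ideal A where
  carrier := {a | ∀ (d : ℕ) (hd : 0 < d) (f : A) (hf : f ∈ 𝒜 d), a ∈ T 𝒜 i e hd hf}
  add_mem' {a b} ha hb d hd f hf := add_mem (ha d hd f hf) (hb d hd f hf)
  zero_mem' d hd f hf := zero_mem _
  smul_mem' c a ha d hd f hf := Ideal.mul_mem_left _ c (ha d hd f hf)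

variable {𝒜 i e} {f : A} {d : ℕ} (hd : 0 < d) (hf : f ∈ 𝒜 d)

theorem mem_T_of_mem_gens {y : A} (hy : y ∈ gens 𝒜 i e hd hf) : y ∈ T 𝒜 i e hd hf :=
  ⟨0, by rw [pow_zero, one_mul]; exact Ideal.subset_span hy⟩

theorem mem_T_of_pow_mul {a : A} {N : ℕ} (h : f ^ N * a ∈ T 𝒜 i e hd hf) : a ∈ T 𝒜 i e hd hf := by
  obtain ⟨M, hM⟩ := h
  exact ⟨M + N, by rw [pow_add, mul_assoc]; exact hM⟩

/-- Fractions with numerator in the saturation vanish. -/
theorem mk_mem_J_of_mem_T {m : ℕ} {y : A} (hy : y ∈ 𝒜 (m • d)) (h : y ∈ T 𝒜 i e hd hf) :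
    Away.mk 𝒜 hf m y hy ∈ J 𝒜 i e hd hf := by
  classical
  obtain ⟨N, hN⟩ := h
  have key : ∀ z ∈ H 𝒜 i e hd hf, ∀ (c : A) (M : ℕ),
      Away.mk 𝒜 hf M _ (DirectSum.decompose 𝒜 (c * z) (M • d)).2 ∈ J 𝒜 i e hd hf := by
    intro z hz
    induction hz using Submodule.span_induction with
    | mem w hw =>
      intro c M
      obtain ⟨k, hk, hkJ⟩ := hw
      by_cases hkM : k • d ≤ M • d
      · have hkM' : k ≤ M := Nat.le_of_mul_le_mul_right (by simpa only [smul_eq_mul] using hkM) hd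
        have hc' : (DirectSum.decompose 𝒜 c (M • d - k • d) : A) ∈ 𝒜 ((M - k) • d) := by
          rw [smul_eq_mul, Nat.sub_mul]
          exact (DirectSum.decompose 𝒜 c _).2
        have e1 : Away.mk 𝒜 hf M _ (DirectSum.decompose 𝒜 (c * w) (M • d)).2 =
            Away.mk 𝒜 hf (M - k) _ hc' * Away.mk 𝒜 hf k w hk := by
          apply HomogeneousLocalization.val_injective
          rw [HomogeneousLocalization.val_mul, Away.val_mk, Away.val_mk, Away.val_mk, Localization.mk_mul,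
            Localization.mk_eq_mk_iff, Localization.r_iff_exists]
          refine ⟨1, ?_⟩
          simp only [OneMemClass.coe_one, one_mul, Submonoid.coe_mul]
          rw [DirectSum.coe_decompose_mul_of_right_mem_of_le 𝒜 hk hkM, ← pow_add, Nat.sub_add_cancel hkM']
        rw [e1]
        exact Ideal.mul_mem_left _ _ hkJ
      · have e1 : Away.mk 𝒜 hf M _ (DirectSum.decompose 𝒜 (c * w) (M • d)).2 = 0 := by
          apply HomogeneousLocalization.val_injective
          rw [HomogeneousLocalization.val_zero, Away.val_mk,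
            DirectSum.coe_decompose_mul_of_right_mem_of_not_le 𝒜 hk hkM, Localization.mk_zero]
        rw [e1]
        exact zero_mem _
    | zero =>
      intro c M
      have e1 : Away.mk 𝒜 hf M _ (DirectSum.decompose 𝒜 (c * 0) (M • d)).2 = 0 := by
        apply HomogeneousLocalization.val_injective
        rw [HomogeneousLocalization.val_zero, Away.val_mk]
        simp [Localization.mk_zero]
      rw [e1]
      exact zero_mem _
    | add u v _ _ hu hv =>
      intro c M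
      have e1 : Away.mk 𝒜 hf M _ (DirectSum.decompose 𝒜 (c * (u + v)) (M • d)).2 =
          Away.mk 𝒜 hf M _ (DirectSum.decompose 𝒜 (c * u) (M • d)).2 +
            Away.mk 𝒜 hf M _ (DirectSum.decompose 𝒜 (c * v) (M • d)).2 := by
        apply HomogeneousLocalization.val_injective
        rw [HomogeneousLocalization.val_add, Away.val_mk, Away.val_mk, Away.val_mk, Localization.add_mk_self,
          mul_add, DirectSum.decompose_add, DirectSum.add_apply]
        rfl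
      rw [e1]
      exact add_mem (hu c M) (hv c M)
    | smul a u _ hu =>
      intro c M
      have := hu (c * a) M
      simp only [smul_eq_mul, ← mul_assoc]
      exact this
  have h1 := key _ hN 1 (N + m)
  have hmem : f ^ N * y ∈ 𝒜 ((N + m) • d) := by
    rw [add_smul]
    exact SetLike.mul_mem_graded (SetLike.pow_mem_graded N hf) hy
  convert h1 using 1
  apply HomogeneousLocalization.val_injective
  rw [Away.val_mk, Away.val_mk, Localization.mk_eq_mk_iff, Localization.r_iff_exists]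
  refine ⟨1, ?_⟩
  simp only [OneMemClass.coe_one, one_mul]
  rw [DirectSum.decompose_of_mem_same 𝒜 hmem]
  ring

theorem T_isHomogeneous {a : A} (h : a ∈ T 𝒜 i e hd hf) (n : ℕ) :
    (DirectSum.decompose 𝒜 a n : A) ∈ T 𝒜 i e hd hf := by
  classical
  obtain ⟨N, hN⟩ := h
  refine ⟨N, ?_⟩
  have hH : (H 𝒜 i e hd hf).IsHomogeneous 𝒜 :=
    Ideal.homogeneous_span 𝒜 _ fun y ⟨m, hy, _⟩ => ⟨_, hy⟩
  have h1 := hH (N • d + n) hN
  rwa [DirectSum.coe_decompose_mul_add_of_left_mem 𝒜 (SetLike.pow_mem_graded N hf)] at h1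

theorem idealI_isHomogeneous : (idealI 𝒜 i e).IsHomogeneous 𝒜 := fun n _ ha d hd f hf =>
  T_isHomogeneous hd hf (ha d hd f hf) n

section mul

variable {g x : A} {k : ℕ} (hg : g ∈ 𝒜 k) (hx : x = f * g)

include hf hg hx in
theorem x_mem : x ∈ 𝒜 (d + k) := hx ▸ SetLike.mul_mem_graded hf hg

include hg hx

theorem T_le_T_mul : T 𝒜 i e hd hf ≤
    T 𝒜 i e (Nat.add_pos_left hd k) (x_mem hf hg hx) := by
  have hgen : H 𝒜 i e hd hf ≤ T 𝒜 i e (Nat.add_pos_left hd k) (x_mem hf hg hx) := by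
    refine Ideal.span_le.2 ?_
    rintro y ⟨m, hy, hyJ⟩
    have h1 := map_mem_jk i (Proj.awayι 𝒜 f hf hd ≫ e) (CommRingCat.ofHom (awayMap 𝒜 hg hx))
      (Proj.awayι 𝒜 x (x_mem hf hg hx) (Nat.add_pos_left hd k) ≫ e)
      (by rw [← Category.assoc, Proj.SpecMap_awayMap_awayι]) hyJ
    have h2 : awayMap 𝒜 hg hx (Away.mk 𝒜 hf m y hy) ∈ J 𝒜 i e (Nat.add_pos_left hd k) (x_mem hf hg hx) := h1
    rw [awayMap_mk] at h2
    refine ⟨m, ?_⟩
    rw [show x ^ m * y = f ^ m * (y * g ^ m) by rw [hx, mul_pow]; ring]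
    exact Ideal.mul_mem_left _ _ (Ideal.subset_span ⟨m, _, h2⟩)
  rintro a ⟨N, hN⟩
  refine mem_T_of_pow_mul (N := N) _ _ ?_
  rw [show x ^ N * a = g ^ N * (f ^ N * a) by rw [hx, mul_pow]; ring]
  exact Ideal.mul_mem_left _ _ (hgen hN)

theorem exists_pow_mul_mem_T [IsAffineHom i] {a : A}
    (ha : a ∈ T 𝒜 i e (Nat.add_pos_left hd k) (x_mem hf hg hx)) : ∃ N, g ^ N * a ∈ T 𝒜 i e hd hf := by
  let S' : Ideal A :=
    { carrier := {b | ∃ N, g ^ N * b ∈ T 𝒜 i e hd hf}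
      add_mem' := fun {b c} hb hc => by
        obtain ⟨N, hN⟩ := hb
        obtain ⟨M, hM⟩ := hc
        refine ⟨N + M, ?_⟩
        rw [show g ^ (N + M) * (b + c) = g ^ M * (g ^ N * b) + g ^ N * (g ^ M * c) by ring]
        exact add_mem (Ideal.mul_mem_left _ _ hN) (Ideal.mul_mem_left _ _ hM)
      zero_mem' := ⟨0, by simp⟩
      smul_mem' := fun c b hb => by
        obtain ⟨N, hN⟩ := hb
        exact ⟨N, by rw [smul_eq_mul, mul_left_comm]; exact Ideal.mul_mem_left _ _ hN⟩ }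
  let hxm : x ∈ 𝒜 (d + k) := x_mem hf hg hx
  let c := awayMap 𝒜 hg hx
  let t : Away 𝒜 f := Away.isLocalizationElem hf hg
  letI := c.toAlgebra
  haveI : IsLocalization.Away t (Away 𝒜 x) := Away.isLocalization_mul hf hg hx hd.ne'
  haveI : IsOpenImmersion (Spec.map (CommRingCat.ofHom c)) := by
    haveI : IsOpenImmersion (Spec.map (CommRingCat.ofHom c) ≫ Proj.awayι 𝒜 f hf hd) := by
      rw [Proj.SpecMap_awayMap_awayι]; infer_instance
    exact IsOpenImmersion.of_comp _ (Proj.awayι 𝒜 f hf hd)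
  have hgen : H 𝒜 i e (Nat.add_pos_left hd k) hxm ≤ S' := by
    refine Ideal.span_le.2 ?_
    rintro y ⟨m, hy, hyJ⟩
    let M := m + m * k
    let j := m * (d - 1)
    have hw : y * g ^ j ∈ 𝒜 (M • d) := by
      have e1 : M • d = m • (d + k) + j • k := by
        obtain ⟨d', rfl⟩ : ∃ d', d = d' + 1 := ⟨d - 1, by omega⟩
        simp only [M, j, smul_eq_mul, Nat.add_sub_cancel]
        ring
      rw [e1]
      exact SetLike.mul_mem_graded hy (SetLike.pow_mem_graded j hg)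
    have hq : g ^ (j + M) ∈ 𝒜 ((m * k) • (d + k)) := by
      have e1 : (m * k) • (d + k) = (j + M) • k := by
        obtain ⟨d', rfl⟩ : ∃ d', d = d' + 1 := ⟨d - 1, by omega⟩
        simp only [M, j, smul_eq_mul, Nat.add_sub_cancel]
        ring
      rw [e1]
      exact SetLike.pow_mem_graded (j + M) hg
    have hcw : c (Away.mk 𝒜 hf M _ hw) = Away.mk 𝒜 hxm m y hy * Away.mk 𝒜 hxm (m * k) _ hq := by
      rw [show c (Away.mk 𝒜 hf M _ hw) = _ from awayMap_mk 𝒜 hg hx M hf _ hw]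
      apply HomogeneousLocalization.val_injective
      rw [HomogeneousLocalization.val_mul, Away.val_mk, Away.val_mk, Away.val_mk, Localization.mk_mul,
        Localization.mk_eq_mk_iff, Localization.r_iff_exists]
      refine ⟨1, ?_⟩
      simp only [OneMemClass.coe_one, one_mul, Submonoid.coe_mul, M, pow_add]
      ring
    obtain ⟨N, hN⟩ := exists_pow_mul_mem_jk i (Proj.awayι 𝒜 f hf hd ≫ e) (CommRingCat.ofHom c)
      (Proj.awayι 𝒜 x hxm (Nat.add_pos_left hd k) ≫ e) t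
      (PrimeSpectrum.localization_away_comap_range (Away 𝒜 x) t)
      (by rw [← Category.assoc, Proj.SpecMap_awayMap_awayι]) (x := Away.mk 𝒜 hf M _ hw)
      (show c (Away.mk 𝒜 hf M _ hw) ∈ J 𝒜 i e (Nat.add_pos_left hd k) hxm from
        hcw ▸ Ideal.mul_mem_right _ _ hyJ)
    have hmem : (g ^ d) ^ N * (y * g ^ j) ∈ 𝒜 ((N * k + M) • d) := by
      rw [add_smul, ← pow_mul]
      refine SetLike.mul_mem_graded ?_ hw
      have e1 : (N * k) • d = (d * N) • k := by simp only [smul_eq_mul]; ring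
      rw [e1]
      exact SetLike.pow_mem_graded _ hg
    have e2 : t ^ N * Away.mk 𝒜 hf M _ hw = Away.mk 𝒜 hf (N * k + M) _ hmem := by
      apply HomogeneousLocalization.val_injective
      rw [HomogeneousLocalization.val_mul, HomogeneousLocalization.val_pow, Away.val_mk, Away.val_mk, Away.val_mk,
        Localization.mk_pow, Localization.mk_mul, Localization.mk_eq_mk_iff, Localization.r_iff_exists]
      refine ⟨1, ?_⟩
      simp only [OneMemClass.coe_one, one_mul, Submonoid.coe_mul, SubmonoidClass.coe_pow]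
      ring
    refine ⟨d * N + j, mem_T_of_mem_gens hd hf ?_⟩
    rw [show g ^ (d * N + j) * y = (g ^ d) ^ N * (y * g ^ j) by ring]
    exact ⟨_, hmem, e2 ▸ hN⟩
  obtain ⟨N, hN⟩ := ha
  obtain ⟨K, hK⟩ := hgen hN
  refine ⟨K + N, mem_T_of_pow_mul (N := N) hd hf ?_⟩
  rw [show f ^ N * (g ^ (K + N) * a) = g ^ K * (x ^ N * a) by rw [hx]; ring]
  exact hK

end mul

theorem T_congr {f' : A} {d' : ℕ} (hd' : 0 < d') (hf' : f' ∈ 𝒜 d') (hff : f' = f) (hdd : d' = d) :
    T 𝒜 i e hd' hf' = T 𝒜 i e hd hf := by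
  subst hff hdd
  rfl

/-- Being in the saturation is local for covers by standard opens. -/
theorem mem_idealI_of_cover [IsAffineHom i] {ι : Type*} (g : ι → A) (dg : ι → ℕ) (hdg : ∀ j, 0 < dg j)
    (hg : ∀ j, g j ∈ 𝒜 (dg j)) (hcov : ∀ x : Proj 𝒜, ∃ j, g j ∉ x.asHomogeneousIdeal) {a : A}
    (ha : ∀ j, a ∈ T 𝒜 i e (hdg j) (hg j)) : a ∈ idealI 𝒜 i e := by
  intro d hd f hf
  let Q : Ideal A := (Submodule.colon (T 𝒜 i e hd hf) {a}).radical
  have hgQ : ∀ j, g j ∈ Q := fun j => by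
    have h1 := T_le_T_mul (hdg j) (hg j) hf (rfl : g j * f = g j * f) (ha j)
    rw [T_congr (Nat.add_pos_left hd (dg j)) (x_mem hf (hg j) rfl) _ _ (mul_comm (g j) f) (add_comm _ _)] at h1
    obtain ⟨N, hN⟩ := exists_pow_mul_mem_T hd hf (hg j) rfl h1
    exact ⟨N, Submodule.mem_colon_singleton.2 hN⟩
  have hfQ : f ∈ (Ideal.span (Set.range g)).radical := by
    by_contra hfn
    obtain ⟨x, hx, -⟩ := H11Proj.exists_point_of_not_mem_radical 𝒜
      (Ideal.homogeneous_span 𝒜 _ (by rintro _ ⟨j, rfl⟩; exact ⟨_, hg j⟩)) hd hf hfn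
    obtain ⟨j, hj⟩ := hcov x
    exact hj (hx (Ideal.subset_span ⟨j, rfl⟩))
  obtain ⟨N, hN⟩ := (Ideal.radical_le_radical_iff.2 (Ideal.span_le.2 (Set.range_subset_iff.2 hgQ))) hfQ
  exact mem_T_of_pow_mul hd hf (N := N) (Submodule.mem_colon_singleton.1 hN)

/-- Numerators vanishing on a chart lie, after a power, in the ideal. -/
theorem exists_pow_mul_mem_idealI [IsAffineHom i] {ι : Type*} [Finite ι] (g : ι → A) (dg : ι → ℕ)
    (hdg : ∀ j, 0 < dg j) (hg : ∀ j, g j ∈ 𝒜 (dg j)) (hcov : ∀ x : Proj 𝒜, ∃ j, g j ∉ x.asHomogeneousIdeal)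
    {y : A} (hy : y ∈ T 𝒜 i e hd hf) : ∃ N, f ^ N * y ∈ idealI 𝒜 i e := by
  classical
  haveI := Fintype.ofFinite ι
  have hloc : ∀ j, ∃ N, f ^ N * y ∈ T 𝒜 i e (hdg j) (hg j) := fun j => by
    have h1 := T_le_T_mul hd hf (hg j) (rfl : f * g j = f * g j) hy
    rw [T_congr (Nat.add_pos_left (hdg j) d) (x_mem (hg j) hf rfl) _ _ (mul_comm f (g j)) (add_comm _ _)] at h1
    exact exists_pow_mul_mem_T (hdg j) (hg j) hf rfl h1
  choose N hN using hloc
  refine ⟨Finset.univ.sup N, mem_idealI_of_cover g dg hdg hg hcov fun j => ?_⟩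
  obtain ⟨r, hr⟩ := Nat.exists_eq_add_of_le (Finset.le_sup (f := N) (Finset.mem_univ j))
  rw [show f ^ Finset.univ.sup N * y = f ^ r * (f ^ N j * y) by rw [hr]; ring]
  exact Ideal.mul_mem_left _ _ (hN j)

section map

variable {B τ : Type u} [CommRing B] [SetLike τ B] [AddSubgroupClass τ B] {ℬ : ℕ → τ} [GradedRing ℬ]
  (ρ : 𝒜 →+*ᵍ ℬ) (hρ : ℬ₊ ≤ (𝒜₊).map ρ) (e' : Proj ℬ ⟶ P) (he' : Proj.map ρ hρ ≫ e = e')

include he'

theorem away_map_comp :
    Spec.map (CommRingCat.ofHom (Away.map ρ f)) ≫ Proj.awayι 𝒜 f hf hd ≫ e =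
      Proj.awayι ℬ (ρ f) (ρ.map_mem hf) hd ≫ e' := by
  rw [← he', ← Category.assoc, ← Proj.awayι_comp_map ρ hρ hd f hf, Category.assoc]

theorem map_mem_T {a : A} (ha : a ∈ T 𝒜 i e hd hf) : ρ a ∈ T ℬ i e' hd (ρ.map_mem hf) := by
  have hgen : H 𝒜 i e hd hf ≤ (H ℬ i e' hd (ρ.map_mem hf)).comap ρ := by
    refine Ideal.span_le.2 ?_
    rintro y ⟨m, hy, hyJ⟩
    have h1 := map_mem_jk i (Proj.awayι 𝒜 f hf hd ≫ e) (CommRingCat.ofHom (Away.map ρ f))
      (Proj.awayι ℬ (ρ f) (ρ.map_mem hf) hd ≫ e') (away_map_comp hd hf ρ hρ e' he') hyJ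
    have h2 : Away.map ρ f (Away.mk 𝒜 hf m y hy) ∈ J ℬ i e' hd (ρ.map_mem hf) := h1
    rw [Away.map_mk] at h2
    exact Ideal.subset_span ⟨m, _, h2⟩
  obtain ⟨N, hN⟩ := ha
  refine ⟨N, ?_⟩
  have := hgen hN
  rwa [Ideal.mem_comap, map_mul, map_pow] at this

theorem exists_pow_mul_of_map_mem_T [IsAffineHom i] {c : A} (hc : c ∈ 𝒜 0)
    (hsurj : ∀ z : B, ∃ (m : ℕ) (q : A), ρ q = ρ c ^ m * z)
    (hinj : ∀ a b : A, ρ a = ρ b → ∃ k, c ^ k * a = c ^ k * b)
    (hdec : ∀ (n : ℕ) (q : A), ρ (DirectSum.decompose 𝒜 q n : A) = DirectSum.decompose ℬ (ρ q) n)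
    [IsOpenImmersion (Spec.map (CommRingCat.ofHom (Away.map ρ f)))]
    (hrange : Set.range (Spec.map (CommRingCat.ofHom (Away.map ρ f))) =
      (PrimeSpectrum.basicOpen (HomogeneousLocalization.fromZeroRingHom 𝒜 (Submonoid.powers f) ⟨c, hc⟩) :
        Set (PrimeSpectrum (Away 𝒜 f))))
    {a : A} (ha : ρ a ∈ T ℬ i e' hd (ρ.map_mem hf)) : ∃ N, c ^ N * a ∈ T 𝒜 i e hd hf := by
  classical
  let Zi : Ideal B :=
    { carrier := {z | ∃ (K : ℕ) (q : A), q ∈ T 𝒜 i e hd hf ∧ ρ q = ρ c ^ K * z}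
      add_mem' := fun {z w} hz hw => by
        obtain ⟨K, q, hq, eq⟩ := hz
        obtain ⟨K', q', hq', eq'⟩ := hw
        refine ⟨K + K', c ^ K' * q + c ^ K * q', add_mem (Ideal.mul_mem_left _ _ hq) (Ideal.mul_mem_left _ _ hq'), ?_⟩
        simp only [map_add, map_mul, map_pow, eq, eq']
        ring
      zero_mem' := ⟨0, 0, zero_mem _, by simp⟩
      smul_mem' := fun b z hz => by
        obtain ⟨K, q, hq, eq⟩ := hz
        obtain ⟨m, r, er⟩ := hsurj b
        refine ⟨m + K, r * q, Ideal.mul_mem_left _ _ hq, ?_⟩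
        simp only [map_mul, eq, er, smul_eq_mul]
        ring }
  have hgen : H ℬ i e' hd (ρ.map_mem hf) ≤ Zi := by
    refine Ideal.span_le.2 ?_
    rintro y ⟨m, hy, hyJ⟩
    obtain ⟨k, q₀, hq₀⟩ := hsurj y
    let q : A := DirectSum.decompose 𝒜 q₀ (m • d)
    have hq : ρ q = ρ c ^ k * y := by
      rw [hdec, hq₀, DirectSum.decompose_of_mem_same ℬ]
      have := SetLike.mul_mem_graded (SetLike.pow_mem_graded k (ρ.map_mem hc)) hy
      rwa [smul_zero, zero_add] at this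
    have hqm : q ∈ 𝒜 (m • d) := (DirectSum.decompose 𝒜 q₀ _).2
    let w : Away 𝒜 f := Away.mk 𝒜 hf m q hqm
    have hρw : Away.map ρ f w ∈ J ℬ i e' hd (ρ.map_mem hf) := by
      have e1 : Away.map ρ f w =
          HomogeneousLocalization.fromZeroRingHom ℬ _ ⟨ρ c ^ k, by
            simpa using SetLike.pow_mem_graded k (ρ.map_mem hc)⟩ * Away.mk ℬ (ρ.map_mem hf) m y hy := by
        rw [Away.map_mk]
        apply HomogeneousLocalization.val_injective
        rw [HomogeneousLocalization.val_mul, Away.val_mk, Away.val_mk]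
        change _ = Localization.mk _ _ * _
        rw [Localization.mk_mul, Localization.mk_eq_mk_iff, Localization.r_iff_exists]
        exact ⟨1, by simp [hq]⟩
      rw [e1]
      exact Ideal.mul_mem_left _ _ hyJ
    obtain ⟨N, hN⟩ := exists_pow_mul_mem_jk i (Proj.awayι 𝒜 f hf hd ≫ e) (CommRingCat.ofHom (Away.map ρ f))
      (Proj.awayι ℬ (ρ f) (ρ.map_mem hf) hd ≫ e') (HomogeneousLocalization.fromZeroRingHom 𝒜 _ ⟨c, hc⟩)
      hrange (away_map_comp hd hf ρ hρ e' he') (x := w) hρw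
    have hmem : c ^ N * q ∈ 𝒜 (m • d) := by
      have := SetLike.mul_mem_graded (SetLike.pow_mem_graded N hc) hqm
      rwa [smul_zero, zero_add] at this
    have e2 : HomogeneousLocalization.fromZeroRingHom 𝒜 (Submonoid.powers f) ⟨c, hc⟩ ^ N * w =
        Away.mk 𝒜 hf m _ hmem := by
      apply HomogeneousLocalization.val_injective
      rw [HomogeneousLocalization.val_mul, HomogeneousLocalization.val_pow, Away.val_mk, Away.val_mk]
      change Localization.mk _ _ ^ N * _ = _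
      rw [Localization.mk_pow, Localization.mk_mul, Localization.mk_eq_mk_iff, Localization.r_iff_exists]
      exact ⟨1, by simp⟩
    exact ⟨N + k, c ^ N * q, mem_T_of_mem_gens hd hf ⟨m, hmem, e2 ▸ hN⟩, by
      rw [map_mul, map_pow, hq]; ring⟩
  obtain ⟨M, hM⟩ := ha
  obtain ⟨K, q, hq, eq⟩ := hgen hM
  obtain ⟨k, hk⟩ := hinj q (c ^ K * (f ^ M * a)) (by rw [eq, map_mul, map_mul, map_pow, map_pow]; rfl)
  refine ⟨k + K, mem_T_of_pow_mul hd hf (N := M) ?_⟩
  rw [show f ^ M * (c ^ (k + K) * a) = c ^ k * (c ^ K * (f ^ M * a)) by ring, ← hk]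
  exact Ideal.mul_mem_left _ _ hq

end map

end Groth.Agent.H11QMap.CI
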