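import Groth.Agent.H17.PullSectLocal
import Mathlib

/-!
# The ideal cut out by a closed subscheme on an affine chart
-/

set_option autoImplicit false
set_option linter.style.haveILetI false

noncomputable section

universe u

open CategoryTheory CategoryTheory.Limits AlgebraicGeometry TopologicalSpace Opposite

namespace Groth.Agent.H11QMap

variable {Z P : Scheme.{u}} (i : Z ⟶ P) {R : CommRingCat.{u}} (h : Spec R ⟶ P)

theorem range_fst_of_isPullback {A B C D : Scheme.{u}} {a : A ⟶ B} {b : A ⟶ C} {f : B ⟶ D} {g : C ⟶ D}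
    (H : IsPullback a b f g) : Set.range a = f ⁻¹' Set.range g := by
  rw [← H.isoPullback_hom_fst, Scheme.Hom.comp_base, TopCat.coe_comp, Set.range_comp,
    Set.range_eq_univ.2 H.isoPullback.hom.surjective, Set.image_univ]
  exact Scheme.Pullback.range_fst f g

/-- Elements of `R` as functions on the pullback of `i` along `h`. -/
def jmap : R ⟶ Γ(pullback i h, ⊤) := (Scheme.ΓSpecIso R).inv ≫ (pullback.snd i h).appTop

/-- The functions vanishing on `i` pulled back along `h`. -/
def jk : Ideal R := RingHom.ker (jmap i h).hom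

theorem mem_jk {x : R} : x ∈ jk i h ↔ jmap i h x = 0 := RingHom.mem_ker

variable {R' : CommRingCat.{u}} (c : R ⟶ R') (h' : Spec R' ⟶ P) (hc : Spec.map c ≫ h = h')

/-- Change of chart on the pullback. -/
def jlift : pullback i h' ⟶ pullback i h :=
  pullback.lift (pullback.fst i h') (pullback.snd i h' ≫ Spec.map c)
    (by rw [Category.assoc, hc, pullback.condition])

theorem jlift_snd : jlift i h c h' hc ≫ pullback.snd i h = pullback.snd i h' ≫ Spec.map c := pullback.lift_snd _ _ _

theorem jmap_comp : jmap i h ≫ (jlift i h c h' hc).appTop = c ≫ jmap i h' := by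
  rw [jmap, jmap, Category.assoc, ← Scheme.Hom.comp_appTop, jlift_snd, Scheme.Hom.comp_appTop, ← Category.assoc,
    ← Category.assoc, ← Scheme.ΓSpecIso_inv_naturality]

include hc in
theorem map_mem_jk {x : R} (hx : x ∈ jk i h) : c x ∈ jk i h' := by
  rw [mem_jk] at hx ⊢
  have := congr($(jmap_comp i h c h' hc) x)
  rw [CommRingCat.comp_apply, CommRingCat.comp_apply, hx, map_zero] at this
  exact this.symm

theorem isPullback_jlift :
    IsPullback (jlift i h c h' hc) (pullback.snd i h') (pullback.snd i h) (Spec.map c) := by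
  refine IsPullback.of_right ?_ (jlift_snd i h c h' hc) (IsPullback.of_hasPullback i h).flip.flip
  rw [jlift, pullback.lift_fst, hc]
  exact IsPullback.of_hasPullback i h'

/-- Vanishing can be checked on an open cover of the chart. -/
theorem mem_jk_of_cover {x : R}
    (hcov : ∀ y : Spec R, ∃ (R' : CommRingCat.{u}) (c : R ⟶ R') (h' : Spec R' ⟶ P),
      Spec.map c ≫ h = h' ∧ IsOpenImmersion (Spec.map c) ∧ y ∈ Set.range (Spec.map c) ∧ c x ∈ jk i h') :
    x ∈ jk i h := by
  rw [mem_jk]
  choose R' c h' hc hoi hy hx using hcov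
  let g := pullback.snd i h
  have hopen : ∀ z : (pullback i h : Scheme.{u}), IsOpenImmersion (jlift i h (c (g z)) (h' (g z)) (hc (g z))) :=
    fun z => MorphismProperty.of_isPullback (P := @IsOpenImmersion)
      (isPullback_jlift i h (c (g z)) (h' (g z)) (hc (g z))).flip (hoi (g z))
  refine (pullback i h).sheaf.eq_of_locally_eq'
    (fun z : (pullback i h : Scheme.{u}) =>
      haveI := hopen z
      (jlift i h (c (g z)) (h' (g z)) (hc (g z))).opensRange) ⊤ (fun z => homOfLE le_top)
    (fun z _ => Opens.mem_iSup.2 ⟨z, ?_⟩) _ _ fun z => ?_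
  · have e : Set.range (jlift i h (c (g z)) (h' (g z)) (hc (g z))) = g ⁻¹' Set.range (Spec.map (c (g z))) := by
      haveI := hoi (g z)
      exact range_fst_of_isPullback (isPullback_jlift i h (c (g z)) (h' (g z)) (hc (g z)))
    exact e.ge (hy (g z))
  · haveI := hopen z
    let k := jlift i h (c (g z)) (h' (g z)) (hc (g z))
    have h0 : k.app ⊤ (jmap i h x) = 0 := by
      have := congr($(jmap_comp i h (c (g z)) (h' (g z)) (hc (g z))) x)
      rw [CommRingCat.comp_apply, CommRingCat.comp_apply, (mem_jk i (h' (g z))).1 (hx (g z))] at this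
      exact this
    refine (H17.PullSect.bijective_app_of_le k (W := k.opensRange) le_rfl).1 ?_
    change k.app k.opensRange ((pullback i h).presheaf.map (homOfLE le_top).op (jmap i h x)) =
      k.app k.opensRange ((pullback i h).presheaf.map (homOfLE le_top).op 0)
    have e := congr($(k.naturality (homOfLE (le_top : k.opensRange ≤ ⊤)).op) (jmap i h x))
    rw [CommRingCat.comp_apply, CommRingCat.comp_apply] at e
    rw [map_zero, map_zero, e, h0, map_zero]

/-- Vanishing on a standard open of the chart gives vanishing after multiplying by a power. -/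
theorem exists_pow_mul_mem_jk [IsAffineHom i] (t : R) [IsOpenImmersion (Spec.map c)]
    (hrange : Set.range (Spec.map c) = (PrimeSpectrum.basicOpen t : Set (PrimeSpectrum R)))
    (hc : Spec.map c ≫ h = h') {x : R} (hx : c x ∈ jk i h') : ∃ N : ℕ, t ^ N * x ∈ jk i h := by
  let g := pullback.snd i h
  haveI : IsAffine (pullback i h) := isAffine_of_isAffineHom g
  let k := jlift i h c h' hc
  haveI : IsOpenImmersion k :=
    MorphismProperty.of_isPullback (P := @IsOpenImmersion) (isPullback_jlift i h c h' hc).flip ‹IsOpenImmersion (Spec.map c)›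
  have hk : k.opensRange = (pullback i h).basicOpen (jmap i h t) := by
    have e : (pullback i h).basicOpen (jmap i h t) = g ⁻¹ᵁ PrimeSpectrum.basicOpen t := by
      rw [jmap, CommRingCat.comp_apply]
      erw [← Scheme.preimage_basicOpen, basicOpen_eq_of_affine]
    rw [e]
    ext z
    exact Set.ext_iff.1 ((range_fst_of_isPullback (isPullback_jlift i h c h' hc)).trans (congrArg (g ⁻¹' ·) hrange)) z
  have h0 : (pullback i h).presheaf.map (homOfLE ((pullback i h).basicOpen_le (jmap i h t))).op (jmap i h x) = 0 := by
    have hle : (pullback i h).basicOpen (jmap i h t) ≤ k.opensRange := hk.ge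
    refine (H17.PullSect.bijective_app_of_le k hle).1 ?_
    have e := congr($(k.naturality (homOfLE ((pullback i h).basicOpen_le (jmap i h t))).op) (jmap i h x))
    rw [CommRingCat.comp_apply, CommRingCat.comp_apply] at e
    have h1 := congr($(jmap_comp i h c h' hc) x)
    rw [CommRingCat.comp_apply, CommRingCat.comp_apply, (mem_jk i h').1 hx] at h1
    rw [map_zero, e, show k.app ⊤ (jmap i h x) = 0 from h1, map_zero]
  haveI := (isAffineOpen_top (pullback i h)).isLocalization_basicOpen (jmap i h t)
  obtain ⟨⟨_, N, rfl⟩, hN⟩ := (IsLocalization.map_eq_zero_iff (Submonoid.powers (jmap i h t))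
    Γ(pullback i h, (pullback i h).basicOpen (jmap i h t)) _).1 h0
  exact ⟨N, (mem_jk i h).2 (by rw [map_mul, map_pow]; exact hN)⟩

end Groth.Agent.H11QMap
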