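import Groth.Agent.H11QMap.Props
import Groth.Agent.H11Proj.ProjMapSurj

/-!
# Everywhere defined `Proj(u)`; homomorphisms surjective or bijective in high degrees
-/

set_option autoImplicit false
set_option linter.style.haveILetI false

noncomputable section

universe u

open CategoryTheory CategoryTheory.Limits AlgebraicGeometry TopologicalSpace Opposite RelProj
open HomogeneousLocalization
open scoped HomogeneousIdeal

namespace Groth.Agent.H11QMap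

variable {S S' P P' : Scheme.{u}} {g : S' ⟶ S} {𝒮 : QCGrAlg S} {𝒮' : QCGrAlg S'} (u : QGrHom g 𝒮 𝒮')
  {p : P ⟶ S} (chart : ∀ (U : S.Opens) (hU : IsAffineOpen U), (((p ⁻¹ᵁ U : P.Opens) : Scheme.{u}) ≅ Proj (𝒮.deg U hU)))
  {p' : P' ⟶ S'}
  (chart' : ∀ (U' : S'.Opens) (hU' : IsAffineOpen U'), (((p' ⁻¹ᵁ U' : P'.Opens) : Scheme.{u}) ≅ Proj (𝒮'.deg U' hU')))

theorem isProjQMapOn_of_isProjQMap {h : P' ⟶ P} (hh : IsProjQMap u p chart p' chart' h) :
    IsProjQMapOn u p chart p' chart' (domQ u p' chart') ((domQ u p' chart').ι ≫ h) :=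
  fun U hU U' hU' hle d hd f hf hW => by
    rw [← Category.assoc, IsOpenImmersion.lift_fac]
    exact hh.2 U hU U' hU' hle d hd f hf

theorem isIso_domQ_ι (hd : domQ u p' chart' = ⊤) : IsIso (domQ u p' chart').ι := by
  rw [hd]
  exact inferInstanceAs (IsIso P'.topIso.hom)

theorem property_of_on {h : P' ⟶ P} (hh : IsProjQMap u p chart p' chart' h) {Q : MorphismProperty Scheme.{u}}
    [Q.RespectsIso] (H : ∀ r, IsProjQMapOn u p chart p' chart' (domQ u p' chart') r → Q r) : Q h := by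
  haveI := isIso_domQ_ι u chart' hh.1
  exact (Q.cancel_left_of_respectsIso (domQ u p' chart').ι h).1 (H _ (isProjQMapOn_of_isProjQMap u chart chart' hh))

theorem exists_isProjQMap (hP : IsRelProj 𝒮 p chart) (hP' : IsRelProj 𝒮' p' chart')
    (hd : domQ u p' chart' = ⊤) : ∃ h, IsProjQMap u p chart p' chart' h := by
  obtain ⟨r, hr⟩ := exists_qmap u chart chart' hP hP'
  haveI := isIso_domQ_ι u chart' hd
  refine ⟨inv (domQ u p' chart').ι ≫ r, hd, fun U hU U' hU' hle d hd0 f hf => ?_⟩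
  have h1 := hr U hU U' hU' hle d hd0 f hf (range_awayEmb_subset_domQ u p' chart' U hU U' hU' hle hd0 f hf)
  rw [← IsOpenImmersion.lift_fac (domQ u p' chart').ι (awayEmb u p' chart' U hU U' hU' hle hd0 f hf)
    (range_awayEmb_subset_domQ u p' chart' U hU U' hU' hle hd0 f hf), Category.assoc, IsIso.hom_inv_id_assoc]
  exact h1

theorem isProjQMap_over (hP : IsRelProj 𝒮 p chart) (hP' : IsRelProj 𝒮' p' chart') {h : P' ⟶ P}
    (hh : IsProjQMap u p chart p' chart' h) : h ≫ p = p' ≫ g := by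
  haveI := isIso_domQ_ι u chart' hh.1
  rw [← cancel_epi (domQ u p' chart').ι, ← Category.assoc]
  exact qmap_over u chart chart' hP hP' (isProjQMapOn_of_isProjQMap u chart chart' hh)

variable {𝒜 ℬ : QCGrAlg S} (φ : 𝒜.toQCAlg ⟶ ℬ.toQCAlg) (hφ : IsGradedHom φ)
  {PA PB : Scheme.{u}} {pA : PA ⟶ S} {pB : PB ⟶ S}
  {chartA : ∀ (U : S.Opens) (hU : IsAffineOpen U), (((pA ⁻¹ᵁ U : PA.Opens) : Scheme.{u}) ≅ Proj (𝒜.deg U hU))}
  {chartB : ∀ (U : S.Opens) (hU : IsAffineOpen U), (((pB ⁻¹ᵁ U : PB.Opens) : Scheme.{u}) ≅ Proj (ℬ.deg U hU))}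

theorem domQ_eq_top_of_surjOn {n : ℕ}
    (hs : ∀ k, n ≤ k → ∀ (U : S.Opens) (hU : IsAffineOpen U),
      Set.SurjOn (gradedHomAt φ hφ U hU) (𝒜.deg U hU k) (ℬ.deg U hU k)) :
    domQ (QGrHom.ofHom φ hφ) pB chartB = ⊤ := by
  refine eq_top_iff.2 fun z _ => ?_
  obtain ⟨U, hU⟩ := Opens.mem_iSup.1 ((iSup_affineOpens_eq_top S).ge (Set.mem_univ (pB z)))
  obtain ⟨k, hk, b, hb, hzb⟩ := exists_mem_cb (chart := chartB) U.2 hU
  obtain ⟨a, ha, he⟩ := hs (k * (n + 1)) (le_trans (Nat.le_succ n) (Nat.le_mul_of_pos_left _ hk)) U.1 U.2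
    (show b ^ (n + 1) ∈ (ℬ.deg U.1 U.2 (k * (n + 1)) : Set _) from by
      rw [mul_comm]
      exact SetLike.pow_mem_graded (n + 1) hb)
  refine cb_le_domQ (QGrHom.ofHom φ hφ) chartB U.1 U.2 U.1 U.2 le_rfl (Nat.mul_pos hk n.succ_pos) a ha ?_
  rw [ofHom_gradedAt_eq, he, cb_pow U.1 U.2 b n.succ_pos]
  exact hzb

theorem surjOn_ofHom {n : ℕ}
    (hs : ∀ k, n ≤ k → ∀ (U : S.Opens) (hU : IsAffineOpen U),
      Set.SurjOn (gradedHomAt φ hφ U hU) (𝒜.deg U hU k) (ℬ.deg U hU k))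
    (U : S.Opens) (hU : IsAffineOpen U) (k : ℕ) (hk : n ≤ k) :
    Set.SurjOn ((QGrHom.ofHom φ hφ).gradedAt U hU U hU le_rfl) (𝒜.deg U hU k) (ℬ.deg U hU k) :=
  fun b hb => by
    obtain ⟨a, ha, he⟩ := hs k hk U hU hb
    exact ⟨a, ha, (ofHom_gradedAt_eq φ hφ U hU a).trans he⟩

end Groth.Agent.H11QMap
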