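import Groth.Agent.H11Proj.SubAlg
import Mathlib

/-!
# Quotient of a quasi-coherent graded algebra by a compatible system of homogeneous ideals
-/

set_option autoImplicit false
set_option linter.style.haveILetI false

noncomputable section

universe u

open CategoryTheory AlgebraicGeometry TopologicalSpace Opposite

namespace Groth.Agent.H11QMap

open Groth.Agent.H11Proj

variable {S : Scheme.{u}}

/-- Compatible homogeneous ideals over the affine opens. -/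
structure IdSys (𝒜 : RelProj.QCGrAlg S) where
  I : ∀ (U : S.Opens), IsAffineOpen U → Ideal (𝒜.presheaf.obj (op U))
  hom : ∀ (U : S.Opens) (hU : IsAffineOpen U) (n : ℕ) (a : 𝒜.presheaf.obj (op U)), a ∈ I U hU →
    ((DirectSum.decompose (𝒜.deg U hU) a n : 𝒜.deg U hU n) : 𝒜.presheaf.obj (op U)) ∈ I U hU
  res_mem : ∀ {U V : S.Opens} (hU : IsAffineOpen U) (hV : IsAffineOpen V) (i : V ≤ U)
    (a : 𝒜.presheaf.obj (op U)), a ∈ I U hU → resT 𝒜.presheaf i a ∈ I V hV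
  clear : ∀ (U : S.Opens) (hU : IsAffineOpen U) (r : Γ(S, U)) (z : 𝒜.presheaf.obj (op (S.basicOpen r))),
    z ∈ I (S.basicOpen r) (hU.basicOpen r) → ∃ (m : ℕ) (q : 𝒜.presheaf.obj (op U)), q ∈ I U hU ∧
      resT 𝒜.presheaf (S.basicOpen_le r) q =
        resT 𝒜.presheaf (S.basicOpen_le r) (strT 𝒜.str U r) ^ m * z

namespace IdSys

variable {𝒜 : RelProj.QCGrAlg S}

/-- Restrictions commute with taking components. -/
theorem res_decompose {U V : S.Opens} (hU : IsAffineOpen U) (hV : IsAffineOpen V) (i : V ≤ U) (n : ℕ)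
    (a : 𝒜.presheaf.obj (op U)) :
    resT 𝒜.presheaf i (DirectSum.decompose (𝒜.deg U hU) a n : 𝒜.deg U hU n) =
      (DirectSum.decompose (𝒜.deg V hV) (resT 𝒜.presheaf i a) n : 𝒜.deg V hV n) := by
  classical
  induction a using DirectSum.Decomposition.inductionOn (𝒜.deg U hU) with
  | zero => simp
  | @homogeneous k m =>
    rcases eq_or_ne k n with rfl | h
    · rw [DirectSum.decompose_of_mem_same _ m.2, DirectSum.decompose_of_mem_same _ (𝒜.map_mem hU hV i m.2)]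
    · rw [DirectSum.decompose_of_mem_ne _ m.2 h, DirectSum.decompose_of_mem_ne _ (𝒜.map_mem hU hV i m.2) h,
        map_zero]
  | add a b ha hb =>
    simp only [DirectSum.decompose_add, DirectSum.add_apply, AddSubgroup.coe_add, map_add, ha, hb]

theorem germ_resT {U V : S.Opens} (i : V ≤ U) {s : S} (hs : s ∈ V) (a : 𝒜.presheaf.obj (op U)) :
    𝒜.presheaf.germ V s hs (resT 𝒜.presheaf i a) = 𝒜.presheaf.germ U s (i hs) a :=
  TopCat.Presheaf.germ_res_apply 𝒜.presheaf (homOfLE i) s hs a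

variable (Y : IdSys 𝒜)

theorem exists_rep {s : S} (z : 𝒜.presheaf.stalk s) :
    ∃ (U : S.Opens) (_ : IsAffineOpen U) (hs : s ∈ U) (a : 𝒜.presheaf.obj (op U)),
      𝒜.presheaf.germ U s hs a = z := by
  obtain ⟨W, hW, a, rfl⟩ := 𝒜.presheaf.exists_germ_eq z
  obtain ⟨U, hU, hs, hle⟩ := SubSys.exists_affine_le hW
  exact ⟨U, hU, hs, resT 𝒜.presheaf hle a, germ_resT hle hs a⟩

theorem exists_common {s : S} {U V : S.Opens} (hU : s ∈ U) (hV : s ∈ V) {a : 𝒜.presheaf.obj (op U)}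
    {b : 𝒜.presheaf.obj (op V)} (e : 𝒜.presheaf.germ U s hU a = 𝒜.presheaf.germ V s hV b) :
    ∃ (W : S.Opens) (_ : IsAffineOpen W) (_ : s ∈ W) (i : W ≤ U) (j : W ≤ V),
      resT 𝒜.presheaf i a = resT 𝒜.presheaf j b := by
  obtain ⟨W₀, hs₀, i₀, j₀, e₀⟩ := 𝒜.presheaf.germ_eq s hU hV a b e
  obtain ⟨W, hW, hs, hle⟩ := SubSys.exists_affine_le hs₀
  refine ⟨W, hW, hs, hle.trans i₀.le, hle.trans j₀.le, ?_⟩
  rw [← resT_resT 𝒜.presheaf i₀.le hle, ← resT_resT 𝒜.presheaf j₀.le hle]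
  exact congrArg (resT 𝒜.presheaf hle) e₀

theorem exists_affine_inf {s : S} {U V : S.Opens} (hU : s ∈ U) (hV : s ∈ V) :
    ∃ (W : S.Opens) (_ : IsAffineOpen W) (_ : s ∈ W), W ≤ U ∧ W ≤ V := by
  obtain ⟨W, hW, hs, hle⟩ := SubSys.exists_affine_le (W := U ⊓ V) ⟨hU, hV⟩
  exact ⟨W, hW, hs, hle.trans inf_le_left, hle.trans inf_le_right⟩

/-- The ideal at a point. -/
def Is (s : S) : Ideal (𝒜.presheaf.stalk s) where
  carrier := {z | ∃ (U : S.Opens) (hU : IsAffineOpen U) (hs : s ∈ U) (a : 𝒜.presheaf.obj (op U)),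
    a ∈ Y.I U hU ∧ 𝒜.presheaf.germ U s hs a = z}
  add_mem' {z w} hz hw := by
    obtain ⟨U, hU, hs, a, ha, rfl⟩ := hz
    obtain ⟨V, hV, ht, b, hb, rfl⟩ := hw
    obtain ⟨W, hW, hsW, i, j⟩ := exists_affine_inf hs ht
    exact ⟨W, hW, hsW, _, add_mem (Y.res_mem hU hW i a ha) (Y.res_mem hV hW j b hb),
      by rw [map_add, germ_resT, germ_resT]⟩
  zero_mem' := by
    obtain ⟨U, hU, hs, -⟩ := SubSys.exists_affine_le (W := (⊤ : S.Opens)) (Opens.mem_top s)
    exact ⟨U, hU, hs, 0, zero_mem _, map_zero _⟩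
  smul_mem' c z hz := by
    obtain ⟨U, hU, hs, a, ha, rfl⟩ := hz
    obtain ⟨V, hV, ht, b, rfl⟩ := exists_rep c
    obtain ⟨W, hW, hsW, i, j⟩ := exists_affine_inf hs ht
    exact ⟨W, hW, hsW, resT 𝒜.presheaf j b * resT 𝒜.presheaf i a,
      Ideal.mul_mem_left _ _ (Y.res_mem hU hW i a ha), by rw [map_mul, germ_resT, germ_resT]; rfl⟩

theorem germ_mem_Is {U : S.Opens} (hU : IsAffineOpen U) {s : S} (hs : s ∈ U) {a : 𝒜.presheaf.obj (op U)}
    (ha : a ∈ Y.I U hU) : 𝒜.presheaf.germ U s hs a ∈ Y.Is s := ⟨U, hU, hs, a, ha, rfl⟩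

/-- The fibre of the ambient presheaf. -/
abbrev Q (s : S) : Type u := 𝒜.presheaf.stalk s ⧸ Y.Is s

/-- A section seen at a point. -/
def at' {U : S.Opens} {s : S} (hs : s ∈ U) : 𝒜.presheaf.obj (op U) →+* Y.Q s :=
  (Ideal.Quotient.mk (Y.Is s)).comp (𝒜.presheaf.germ U s hs).hom

theorem at'_res {U V : S.Opens} (i : V ≤ U) {s : S} (hs : s ∈ V) (a : 𝒜.presheaf.obj (op U)) :
    Y.at' hs (resT 𝒜.presheaf i a) = Y.at' (i hs) a :=
  congrArg (Ideal.Quotient.mk (Y.Is s)) (germ_resT i hs a)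

theorem at'_surj {s : S} (z : Y.Q s) :
    ∃ (U : S.Opens) (_ : IsAffineOpen U) (hs : s ∈ U) (a : 𝒜.presheaf.obj (op U)), Y.at' hs a = z := by
  obtain ⟨w, rfl⟩ := Ideal.Quotient.mk_surjective z
  obtain ⟨U, hU, hs, a, rfl⟩ := exists_rep w
  exact ⟨U, hU, hs, a, rfl⟩

/-- Components are well defined at a point. -/
theorem at'_decompose_eq {s : S} {U V : S.Opens} (hU : IsAffineOpen U) (hV : IsAffineOpen V) (hs : s ∈ U)
    (ht : s ∈ V) (n : ℕ) (a : 𝒜.presheaf.obj (op U)) (b : 𝒜.presheaf.obj (op V)) (e : Y.at' hs a = Y.at' ht b) :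
    Y.at' hs (DirectSum.decompose (𝒜.deg U hU) a n : 𝒜.deg U hU n) =
      Y.at' ht (DirectSum.decompose (𝒜.deg V hV) b n : 𝒜.deg V hV n) := by
  classical
  obtain ⟨W₁, hW₁, hs₁, c, hc, ec⟩ := Ideal.Quotient.eq.1 e
  obtain ⟨W₂, hW₂, hs₂, i, j⟩ := exists_affine_inf hs ht
  obtain ⟨W₃, hW₃, hs₃, k, l⟩ := exists_affine_inf hs₁ hs₂
  have h : 𝒜.presheaf.germ W₃ s hs₃ (resT 𝒜.presheaf k c) = 𝒜.presheaf.germ W₂ s hs₂
      (resT 𝒜.presheaf i a - resT 𝒜.presheaf j b) := by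
    rw [germ_resT, map_sub, germ_resT, germ_resT]; exact ec
  obtain ⟨W, hW, hsW, p, q, ew⟩ := exists_common hs₃ hs₂ h
  rw [← Y.at'_res ((q.trans i)) hsW, ← Y.at'_res (q.trans j) hsW, res_decompose hU hW, res_decompose hV hW]
  refine Ideal.Quotient.eq.2 ?_
  rw [← map_sub, ← AddSubgroupClass.coe_sub, ← DirectSum.sub_apply, ← DirectSum.decompose_sub]
  refine Y.germ_mem_Is hW hsW (Y.hom W hW n _ ?_)
  rw [resT_resT, map_sub, resT_resT, resT_resT] at ew
  rw [← ew]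
  exact Y.res_mem hW₁ hW _ c hc

/-- The projection at a point. -/
def proj (s : S) (n : ℕ) : Y.Q s →+ Y.Q s :=
  AddMonoidHom.mk'
    (fun z => Y.at' (Y.at'_surj z).choose_spec.choose_spec.choose
      (DirectSum.decompose (𝒜.deg _ (Y.at'_surj z).choose_spec.choose)
        (Y.at'_surj z).choose_spec.choose_spec.choose_spec.choose n :
          𝒜.deg _ (Y.at'_surj z).choose_spec.choose n))
    fun z w => by
      classical
      obtain ⟨U, hU, hs, a, ha⟩ : ∃ (U : S.Opens) (hU : IsAffineOpen U) (hs : s ∈ U) (a : _), Y.at' hs a = z :=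
        Y.at'_surj z
      obtain ⟨V, hV, ht, b, hb⟩ : ∃ (U : S.Opens) (hU : IsAffineOpen U) (hs : s ∈ U) (a : _), Y.at' hs a = w :=
        Y.at'_surj w
      obtain ⟨W, hW, hsW, i, j⟩ := exists_affine_inf hs ht
      have ea : Y.at' hsW (resT 𝒜.presheaf i a) = z := (Y.at'_res i hsW a).trans ha
      have eb : Y.at' hsW (resT 𝒜.presheaf j b) = w := (Y.at'_res j hsW b).trans hb
      have key : ∀ (x : Y.Q s) (c : 𝒜.presheaf.obj (op W)), Y.at' hsW c = x →
          Y.at' (Y.at'_surj x).choose_spec.choose_spec.choose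
            (DirectSum.decompose (𝒜.deg _ (Y.at'_surj x).choose_spec.choose)
              (Y.at'_surj x).choose_spec.choose_spec.choose_spec.choose n :
                𝒜.deg _ (Y.at'_surj x).choose_spec.choose n) =
            Y.at' hsW (DirectSum.decompose (𝒜.deg W hW) c n : 𝒜.deg W hW n) := fun x c hc =>
        Y.at'_decompose_eq _ hW _ hsW n _ c
          ((Y.at'_surj x).choose_spec.choose_spec.choose_spec.choose_spec.trans hc.symm)
      rw [key z _ ea, key w _ eb, key (z + w) (resT 𝒜.presheaf i a + resT 𝒜.presheaf j b) (by rw [map_add, ea, eb]),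
        DirectSum.decompose_add, DirectSum.add_apply, AddSubgroup.coe_add, map_add]

theorem proj_at' {s : S} {U : S.Opens} (hU : IsAffineOpen U) (hs : s ∈ U) (n : ℕ) (a : 𝒜.presheaf.obj (op U)) :
    Y.proj s n (Y.at' hs a) = Y.at' hs (DirectSum.decompose (𝒜.deg U hU) a n : 𝒜.deg U hU n) :=
  Y.at'_decompose_eq _ hU _ hs n _ a (Y.at'_surj (Y.at' hs a)).choose_spec.choose_spec.choose_spec.choose_spec

/-- The degree `n` part at a point. -/
def pieceAt (s : S) (n : ℕ) : AddSubgroup (Y.Q s) where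
  carrier := {z | ∃ (U : S.Opens) (hU : IsAffineOpen U) (hs : s ∈ U) (a : 𝒜.presheaf.obj (op U)),
    a ∈ 𝒜.deg U hU n ∧ Y.at' hs a = z}
  add_mem' {z w} hz hw := by
    obtain ⟨U, hU, hs, a, ha, rfl⟩ := hz
    obtain ⟨V, hV, ht, b, hb, rfl⟩ := hw
    obtain ⟨W, hW, hsW, i, j⟩ := exists_affine_inf hs ht
    exact ⟨W, hW, hsW, _, add_mem (𝒜.map_mem hU hW i ha) (𝒜.map_mem hV hW j hb),
      by rw [map_add]; exact congrArg₂ (· + ·) (Y.at'_res i hsW a) (Y.at'_res j hsW b)⟩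
  zero_mem' := by
    obtain ⟨U, hU, hs, -⟩ := SubSys.exists_affine_le (W := (⊤ : S.Opens)) (Opens.mem_top s)
    exact ⟨U, hU, hs, 0, zero_mem _, map_zero _⟩
  neg_mem' {z} hz := by
    obtain ⟨U, hU, hs, a, ha, rfl⟩ := hz
    exact ⟨U, hU, hs, -a, neg_mem ha, map_neg _ _⟩

/-- The ambient sheaf of rings. -/
def amb : TopCat.Presheaf CommRingCat.{u} S.carrier where
  obj W := CommRingCat.of (∀ s : W.unop, Y.Q s.1)
  map {U V} i := CommRingCat.ofHom
    (RingHom.pi fun s : V.unop => Pi.evalRingHom (fun s : U.unop => Y.Q s.1) ⟨s.1, i.unop.le s.2⟩)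
  map_id _ := rfl
  map_comp _ _ := rfl

theorem amb_isSheaf : Y.amb.IsSheaf := by
  rw [TopCat.Presheaf.isSheaf_iff_isSheafUniqueGluing]
  intro ι W sf hsf
  choose f hf using fun s : (iSup W : S.Opens) => Opens.mem_iSup.1 s.2
  refine ⟨fun s => sf (f s) ⟨s.1, hf s⟩, fun i => funext fun s => ?_, fun τ hτ => funext fun s => ?_⟩
  · exact congrFun (hsf (f ⟨s.1, le_iSup W i s.2⟩) i) ⟨s.1, ⟨hf _, s.2⟩⟩
  · exact congrFun (hτ (f s)) ⟨s.1, hf s⟩

/-- Sections as families. -/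
def img (W : S.Opens) : 𝒜.presheaf.obj (op W) →+* Y.amb.obj (op W) :=
  RingHom.pi fun s : W => Y.at' s.2

theorem img_res {U V : S.Opens} (i : V ≤ U) (a : 𝒜.presheaf.obj (op U)) :
    resT Y.amb i (Y.img U a) = Y.img V (resT 𝒜.presheaf i a) :=
  funext fun s => (Y.at'_res i s.2 a).symm

/-- The map to the ambient presheaf. -/
def imgMap : 𝒜.presheaf ⟶ Y.amb where
  app W := CommRingCat.ofHom (Y.img W.unop)
  naturality {U V} i := by
    refine CommRingCat.hom_ext (RingHom.ext fun a => ?_)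
    exact (Y.img_res i.unop.le a).symm

theorem eq_pow_res {U : S.Opens} (hU : IsAffineOpen U) (r : Γ(S, U)) (a b : 𝒜.presheaf.obj (op U))
    (e : resT 𝒜.presheaf (S.basicOpen_le r) a = resT 𝒜.presheaf (S.basicOpen_le r) b) :
    ∃ k : ℕ, strT 𝒜.str U r ^ k * a = strT 𝒜.str U r ^ k * b := by
  letI := (𝒜.presheaf.map (homOfLE (S.basicOpen_le r)).op).hom.toAlgebra
  haveI : IsLocalization.Away (strT 𝒜.str U r) (𝒜.presheaf.obj (op (S.basicOpen r))) := 𝒜.isQC U hU r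
  obtain ⟨⟨_, k, rfl⟩, hk⟩ := (IsLocalization.eq_iff_exists (Submonoid.powers (strT 𝒜.str U r))
    (𝒜.presheaf.obj (op (S.basicOpen r)))).1 e
  exact ⟨k, hk⟩

theorem exists_pow_mem {U : S.Opens} (hU : IsAffineOpen U) (r : Γ(S, U)) (a : 𝒜.presheaf.obj (op U))
    (ha : resT 𝒜.presheaf (S.basicOpen_le r) a ∈ Y.I (S.basicOpen r) (hU.basicOpen r)) :
    ∃ m : ℕ, strT 𝒜.str U r ^ m * a ∈ Y.I U hU := by
  obtain ⟨m, q, hq, e⟩ := Y.clear U hU r _ ha
  rw [← map_pow, ← map_mul] at e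
  obtain ⟨k, hk⟩ := eq_pow_res hU r _ _ e
  refine ⟨k + m, ?_⟩
  rw [pow_add, mul_assoc, ← hk]
  exact Ideal.mul_mem_left _ _ hq

/-- Membership in the ideal is local. -/
theorem mem_of_img_eq_zero {U : S.Opens} (hU : IsAffineOpen U) {a : 𝒜.presheaf.obj (op U)}
    (ha : Y.img U a = 0) : a ∈ Y.I U hU := by
  let J : Ideal Γ(S, U) := (Submodule.colon (Y.I U hU) {a}).comap (strT 𝒜.str U)
  suffices h : J = ⊤ by
    have h1 : (1 : Γ(S, U)) ∈ J := h ▸ trivial
    have h2 := Submodule.mem_colon_singleton.1 (Ideal.mem_comap.1 h1)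
    rwa [map_one, one_smul] at h2
  have key : ∀ s : U, ∃ g : Γ(S, U), s.1 ∈ S.basicOpen g ∧ g ∈ J.radical := fun s => by
    obtain ⟨V, hV, hsV, b, hb, e⟩ := Ideal.Quotient.eq_zero_iff_mem.1 (congrFun ha s)
    obtain ⟨W, hW, hsW, i, j, ew⟩ := exists_common hsV s.2 e
    obtain ⟨g, hg, hsg⟩ := hU.exists_basicOpen_le ⟨s.1, hsW⟩ s.2
    have hmem : resT 𝒜.presheaf (S.basicOpen_le g) a ∈ Y.I (S.basicOpen g) (hU.basicOpen g) := by
      have := Y.res_mem hW (hU.basicOpen g) hg _ (Y.res_mem hV hW i b hb)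
      rwa [ew, resT_resT] at this
    obtain ⟨m, hm⟩ := Y.exists_pow_mem hU g a hmem
    exact ⟨g, hsg, m, Ideal.mem_comap.2 (Submodule.mem_colon_singleton.2 (by rw [map_pow, smul_eq_mul]; exact hm))⟩
  choose g hsg hgJ using key
  refine Ideal.radical_eq_top.1 (top_le_iff.1 (le_trans (ge_of_eq ?_) (Ideal.span_le.2
    (Set.range_subset_iff.2 hgJ))))
  rw [← hU.iSup_basicOpen_eq_self_iff]
  refine le_antisymm (iSup_le fun a => S.basicOpen_le _) fun s hs => ?_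
  exact Opens.mem_iSup.2 ⟨⟨_, ⟨⟨s, hs⟩, rfl⟩⟩, hsg ⟨s, hs⟩⟩

theorem img_eq_zero_iff {U : S.Opens} (hU : IsAffineOpen U) (a : 𝒜.presheaf.obj (op U)) :
    Y.img U a = 0 ↔ a ∈ Y.I U hU :=
  ⟨Y.mem_of_img_eq_zero hU, fun h => funext fun s => Ideal.Quotient.eq_zero_iff_mem.2 (Y.germ_mem_Is hU s.2 h)⟩

/-- The quotient as a system of subrings of the ambient sheaf. -/
def sys : SubSys Y.amb (𝒜.str ≫ Y.imgMap) where
  R U _ := (Y.img U).range
  str_mem U _ r := ⟨_, rfl⟩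
  res_mem {U V} _ _ i x hx := by
    obtain ⟨a, rfl⟩ := hx
    exact ⟨_, (Y.img_res i a).symm⟩
  clear U hU r z hz := by
    obtain ⟨b, rfl⟩ := hz
    letI := (𝒜.presheaf.map (homOfLE (S.basicOpen_le r)).op).hom.toAlgebra
    haveI : IsLocalization.Away (strT 𝒜.str U r) (𝒜.presheaf.obj (op (S.basicOpen r))) := 𝒜.isQC U hU r
    obtain ⟨⟨a, _, m, rfl⟩, e⟩ := IsLocalization.surj (Submonoid.powers (strT 𝒜.str U r)) b
    refine ⟨m, Y.img U a, ⟨a, rfl⟩, ?_⟩
    change resT Y.amb (S.basicOpen_le r) (Y.img U a) =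
      resT Y.amb (S.basicOpen_le r) (Y.img U (strT 𝒜.str U r)) ^ m * Y.img _ b
    rw [Y.img_res, Y.img_res, ← map_pow, ← map_mul, mul_comm, ← map_pow]
    exact congrArg (Y.img _) e.symm
  killed U hU r x hx h := by
    obtain ⟨a, rfl⟩ := hx
    rw [Y.img_res] at h
    obtain ⟨m, hm⟩ := Y.exists_pow_mem hU r a (Y.mem_of_img_eq_zero (hU.basicOpen r) h)
    refine ⟨m, ?_⟩
    change Y.img U (strT 𝒜.str U r) ^ m * Y.img U a = 0
    rw [← map_pow, ← map_mul]
    exact (Y.img_eq_zero_iff hU _).2 hm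
  G W n :=
    { carrier := {x | ∀ s, x s ∈ Y.pieceAt s.1 n}
      add_mem' := fun {x y} hx hy s => add_mem (hx s) (hy s)
      zero_mem' := fun s => zero_mem _
      neg_mem' := fun {x} hx s => neg_mem (hx s) }
  one_memG W s := by
    obtain ⟨U, hU, hs, -⟩ := SubSys.exists_affine_le (W := (⊤ : S.Opens)) (Opens.mem_top s.1)
    exact ⟨U, hU, hs, 1, SetLike.one_mem_graded (𝒜.deg U hU), map_one _⟩
  mul_memG W i j x y hx hy s := by
    obtain ⟨U, hU, hs, a, ha, ea⟩ := hx s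
    obtain ⟨V, hV, ht, b, hb, eb⟩ := hy s
    obtain ⟨W', hW, hsW, p, q⟩ := exists_affine_inf hs ht
    refine ⟨W', hW, hsW, _, SetLike.mul_mem_graded (𝒜.map_mem hU hW p ha) (𝒜.map_mem hV hW q hb), ?_⟩
    rw [map_mul]
    exact congrArg₂ (· * ·) ((Y.at'_res p hsW a).trans ea) ((Y.at'_res q hsW b).trans eb)
  res_G {U V} i d x hx s := hx ⟨s.1, i s.2⟩
  str_G W r s := by
    obtain ⟨U, hU, hs, hle⟩ := SubSys.exists_affine_le (W := W) s.2
    refine ⟨U, hU, hs, _, 𝒜.str_mem U hU (S.presheaf.map (homOfLE hle).op r), ?_⟩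
    change Y.at' hs (strT 𝒜.str U _) = Y.at' s.2 (strT 𝒜.str W r)
    rw [← resT_str]
    exact Y.at'_res hle hs _
  π W n := AddMonoidHom.pi fun s : W => (Y.proj s.1 n).comp (Pi.evalAddMonoidHom (fun s : W => Y.Q s.1) s)
  π_mem W n x s := by
    obtain ⟨U, hU, hs, a, e⟩ := Y.at'_surj (x s)
    refine ⟨U, hU, hs, _, (DirectSum.decompose (𝒜.deg U hU) a n).2, ?_⟩
    change _ = Y.proj s.1 n (x s)
    rw [← e, Y.proj_at' hU]
  π_same W n x hx := funext fun s => by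
    obtain ⟨U, hU, hs, a, ha, e⟩ := hx s
    change Y.proj s.1 n (x s) = x s
    rw [← e, Y.proj_at' hU, DirectSum.decompose_of_mem_same _ ha]
  π_ne W d e h x hx := funext fun s => by
    obtain ⟨U, hU, hs, a, ha, ea⟩ := hx s
    change Y.proj s.1 d (x s) = 0
    rw [← ea, Y.proj_at' hU, DirectSum.decompose_of_mem_ne _ ha h.symm, map_zero]
  π_R U hU d x hx := by
    obtain ⟨a, rfl⟩ := hx
    exact ⟨(DirectSum.decompose (𝒜.deg U hU) a d : 𝒜.deg U hU d), funext fun s => (Y.proj_at' hU s.2 d a).symm⟩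
  π_fin U hU x hx := by
    classical
    obtain ⟨a, rfl⟩ := hx
    refine ⟨(DirectSum.decompose (𝒜.deg U hU) a).support, ?_⟩
    conv_rhs => rw [← DirectSum.sum_support_decompose (𝒜.deg U hU) a, map_sum]
    exact Finset.sum_congr rfl fun n _ => funext fun s => Y.proj_at' hU s.2 n a

/-- The quotient algebra. -/
def alg : RelProj.QCGrAlg S := Y.sys.qcGrAlg Y.amb_isSheaf

theorem img_mem_sub (W : S.Opens) (a : 𝒜.presheaf.obj (op W)) : Y.img W a ∈ Y.sys.sub W := fun _ hs => by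
  obtain ⟨U, hU, hsU, hle⟩ := SubSys.exists_affine_le hs
  exact ⟨U, hU, hle, hsU, _, (Y.img_res hle a).symm⟩

/-- The quotient map. -/
def quo : 𝒜.toQCAlg ⟶ Y.alg.toQCAlg where
  hom :=
    { app := fun W => CommRingCat.ofHom ((Y.img W.unop).codRestrict _ fun a => Y.img_mem_sub W.unop a)
      naturality := fun {U V} i => by
        refine CommRingCat.hom_ext (RingHom.ext fun a => Subtype.ext ?_)
        exact (Y.img_res i.unop.le a).symm }
  comm := by
    ext W r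
    rfl

theorem quo_apply (W : S.Opens) (a : 𝒜.presheaf.obj (op W)) :
    ((Y.quo.hom.app (op W)).hom a).1 = Y.img W a := rfl

theorem isGradedHom_quo : RelProj.IsGradedHom Y.quo := fun U hU d x hx s =>
  ⟨U, hU, s.2, x, hx, rfl⟩

theorem quo_surjective {U : S.Opens} (hU : IsAffineOpen U) : Function.Surjective (Y.quo.hom.app (op U)).hom :=
  fun z => by
    obtain ⟨a, ha⟩ := Y.sys.mem_of_mem_sub Y.amb_isSheaf hU z.2
    exact ⟨a, Subtype.ext ha⟩

theorem ker_quo {U : S.Opens} (hU : IsAffineOpen U) : RingHom.ker (Y.quo.hom.app (op U)).hom = Y.I U hU := by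
  ext a
  exact ⟨fun h => Y.mem_of_img_eq_zero hU (congrArg Subtype.val (RingHom.mem_ker.1 h)),
    fun h => RingHom.mem_ker.2 (Subtype.ext ((Y.img_eq_zero_iff hU a).2 h))⟩

end IdSys

end Groth.Agent.H11QMap
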