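import Groth.Agent.H11QMap.ClosedIdealProj
import Groth.Agent.H11QMap.QuotAlg
import Groth.Agent.H11QMap.Global
import Groth.Agent.H11Proj.RelProjExists
import Groth.Agent.H11Proj.ClosedSub

/-!
# Closed subschemes of a relative Proj are relative Proj's of graded quotients
-/

set_option autoImplicit false
set_option linter.style.haveILetI false
set_option linter.unusedSectionVars false

noncomputable section

universe u

open CategoryTheory CategoryTheory.Limits AlgebraicGeometry TopologicalSpace Opposite RelProj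
open HomogeneousLocalization
open scoped HomogeneousIdeal

namespace Groth.Agent.H11QMap

open Groth.Agent.H11Proj

variable {S : Scheme.{u}}

theorem decompose_map_hom {A B σ τ : Type u} [CommRing A] [SetLike σ A] [AddSubgroupClass σ A] [CommRing B]
    [SetLike τ B] [AddSubgroupClass τ B] {𝒜 : ℕ → σ} [GradedRing 𝒜] {ℬ : ℕ → τ} [GradedRing ℬ]
    (φ : 𝒜 →+*ᵍ ℬ) (n : ℕ) (a : A) :
    φ (DirectSum.decompose 𝒜 a n : A) = DirectSum.decompose ℬ (φ a) n := by
  classical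
  induction a using DirectSum.Decomposition.inductionOn 𝒜 with
  | zero => simp
  | @homogeneous k m =>
    have hm : φ (m : A) ∈ ℬ k := φ.map_mem m.2
    rcases eq_or_ne k n with rfl | h
    · rw [DirectSum.decompose_of_mem_same _ m.2, DirectSum.decompose_of_mem_same _ hm]
    · rw [DirectSum.decompose_of_mem_ne _ m.2 h, DirectSum.decompose_of_mem_ne _ hm h, map_zero]
  | add a b ha hb =>
    simp only [DirectSum.decompose_add, DirectSum.add_apply, AddMemClass.coe_add, map_add, ha, hb]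

variable {P Z : Scheme.{u}} {𝒜 : QCGrAlg S} {p : P ⟶ S}
  {chart : ∀ (U : S.Opens) (hU : IsAffineOpen U), (((p ⁻¹ᵁ U : P.Opens) : Scheme.{u}) ≅ Proj (𝒜.deg U hU))}
  (hP : IsRelProj 𝒜 p chart) (i : Z ⟶ P)

variable (chart) in
/-- The ideal of the closed subscheme over an affine open. -/
abbrev CIdeal (U : S.Opens) (hU : IsAffineOpen U) : Ideal (𝒜.presheaf.obj (op U)) :=
  CI.idealI (𝒜.deg U hU) i (emb p chart U hU)

variable (chart) in
include chart in
theorem exists_finite_cover [QuasiCompact p] (U : S.Opens) (hU : IsAffineOpen U) :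
    ∃ (ι : Type u) (_ : Finite ι) (g : ι → 𝒜.presheaf.obj (op U)) (dg : ι → ℕ),
      (∀ j, 0 < dg j) ∧ (∀ j, g j ∈ 𝒜.deg U hU (dg j)) ∧
        ∀ x : Proj (𝒜.deg U hU), ∃ j, g j ∉ x.asHomogeneousIdeal := by
  haveI : CompactSpace (p ⁻¹ᵁ U).toScheme :=
    isCompact_iff_compactSpace.1 (p.isCompact_preimage (U := U) hU.isCompact)
  haveI : CompactSpace (Proj (𝒜.deg U hU)) :=
    (Scheme.homeoOfIso (chart U hU)).compactSpace
  have hex : ∀ x : Proj (𝒜.deg U hU), ∃ (d : ℕ) (a : 𝒜.presheaf.obj (op U)),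
      0 < d ∧ a ∈ 𝒜.deg U hU d ∧ a ∉ x.asHomogeneousIdeal := fun x => by
    by_contra hc
    push Not at hc
    exact x.not_irrelevant_le ((HomogeneousIdeal.irrelevant_le _).2 fun d hd a ha => hc d a hd ha)
  choose d a hd ha hax using hex
  obtain ⟨T, hT⟩ := CompactSpace.elim_nhds_subcover
    (fun x : Proj (𝒜.deg U hU) => (Proj.basicOpen (𝒜.deg U hU) (a x) : Set (Proj (𝒜.deg U hU))))
    (fun x => (Proj.basicOpen (𝒜.deg U hU) (a x)).isOpen.mem_nhds (hax x))
  refine ⟨T, inferInstance, fun x => a x.1, fun x => d x.1, fun x => hd x.1, fun x => ha x.1, fun y => ?_⟩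
  obtain ⟨x, hx, hy⟩ := Set.mem_iUnion₂.1 (hT.ge (Set.mem_univ y))
  exact ⟨⟨x, hx⟩, hy⟩

include hP in
theorem range_away_res (U : S.Opens) (hU : IsAffineOpen U) (r : Γ(S, U)) {d : ℕ} (hd : 0 < d)
    (f : 𝒜.presheaf.obj (op U)) (hf : f ∈ 𝒜.deg U hU d) :
    IsOpenImmersion (Spec.map (CommRingCat.ofHom
        (Away.map (𝒜.res hU (hU.basicOpen r) (S.basicOpen_le r)) f))) ∧
      Set.range (Spec.map (CommRingCat.ofHom (Away.map (𝒜.res hU (hU.basicOpen r) (S.basicOpen_le r)) f))) =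
        (PrimeSpectrum.basicOpen (HomogeneousLocalization.fromZeroRingHom (𝒜.deg U hU) (Submonoid.powers f)
          ⟨strT 𝒜.str U r, 𝒜.str_mem U hU r⟩) : Set (PrimeSpectrum (Away (𝒜.deg U hU) f))) := by
  let ρ := 𝒜.res hU (hU.basicOpen r) (S.basicOpen_le r)
  let ψ := Proj.awayι (𝒜.deg U hU) f hf hd ≫ emb p chart U hU
  let ψ' := Proj.awayι (𝒜.deg _ (hU.basicOpen r)) (ρ f) (ρ.map_mem hf) hd ≫
    emb p chart (S.basicOpen r) (hU.basicOpen r)
  have hc : Spec.map (CommRingCat.ofHom (Away.map ρ f)) ≫ ψ = ψ' :=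
    CI.away_map_comp (e := emb p chart U hU) hd hf ρ (𝒜.irrelevant_le_map U hU r) _ (map_res_emb hP U hU r)
  haveI : IsOpenImmersion (Spec.map (CommRingCat.ofHom (Away.map ρ f)) ≫ ψ) := by rw [hc]; infer_instance
  refine ⟨IsOpenImmersion.of_comp _ ψ, Set.ext fun y => ?_⟩
  have hr : ψ'.opensRange = cb chart U hU f ⊓ p ⁻¹ᵁ S.basicOpen r := by
    rw [opensRange_awayι_emb]
    exact cb_res hP hU (hU.basicOpen r) (S.basicOpen_le r) f
  have hy : ψ y ∈ cb chart U hU f := by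
    rw [← opensRange_awayι_emb U hU hd f hf]; exact ⟨y, rfl⟩
  have h1 : y ∈ Set.range (Spec.map (CommRingCat.ofHom (Away.map ρ f))) ↔ ψ y ∈ p ⁻¹ᵁ S.basicOpen r := by
    constructor
    · rintro ⟨z, rfl⟩
      have : ψ (Spec.map (CommRingCat.ofHom (Away.map ρ f)) z) ∈ ψ'.opensRange :=
        ⟨z, by rw [← hc]; rfl⟩
      rw [hr] at this
      exact this.2
    · intro h
      have : ψ y ∈ ψ'.opensRange := by rw [hr]; exact ⟨hy, h⟩
      obtain ⟨z, hz⟩ := this
      refine ⟨z, ψ.isOpenEmbedding.injective ?_⟩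
      rw [← hz, ← hc]; rfl
  refine h1.trans ?_
  have hψp : ψ ≫ p = Spec.map (CommRingCat.ofHom (fromZeroRingHom (𝒜.deg U hU) (Submonoid.powers f))) ≫
      Spec.map (𝒜.strZero U hU) ≫ hU.fromSpec := by
    rw [Category.assoc, emb_comp_p hP, Proj.awayι_toSpecZero_assoc]
  change y ∈ (ψ ≫ p) ⁻¹ᵁ S.basicOpen r ↔ _
  rw [hψp, Scheme.Hom.comp_preimage, Scheme.Hom.comp_preimage, hU.fromSpec_preimage_basicOpen]
  rfl

include hP

theorem exists_clear [IsAffineHom i] [QuasiCompact p] (U : S.Opens) (hU : IsAffineOpen U) (r : Γ(S, U))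
    (z : 𝒜.presheaf.obj (op (S.basicOpen r))) (hz : z ∈ CIdeal chart i (S.basicOpen r) (hU.basicOpen r)) :
    ∃ (m : ℕ) (q : 𝒜.presheaf.obj (op U)), q ∈ CIdeal chart i U hU ∧
      resT 𝒜.presheaf (S.basicOpen_le r) q =
        resT 𝒜.presheaf (S.basicOpen_le r) (strT 𝒜.str U r) ^ m * z := by
  classical
  letI := (𝒜.presheaf.map (homOfLE (S.basicOpen_le r)).op).hom.toAlgebra
  haveI : IsLocalization.Away (strT 𝒜.str U r) (𝒜.presheaf.obj (op (S.basicOpen r))) := 𝒜.isQC U hU r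
  let c := strT 𝒜.str U r
  let ρ := 𝒜.res hU (hU.basicOpen r) (S.basicOpen_le r)
  have hsurj : ∀ w, ∃ (m : ℕ) (q : 𝒜.presheaf.obj (op U)), ρ q = ρ c ^ m * w := fun w => by
    obtain ⟨⟨q, _, m, rfl⟩, e⟩ := IsLocalization.surj (Submonoid.powers c) w
    exact ⟨m, q, by rw [← map_pow, mul_comm]; exact e.symm⟩
  have hinj : ∀ a b, ρ a = ρ b → ∃ k, c ^ k * a = c ^ k * b := fun a b e => IdSys.eq_pow_res hU r a b e
  obtain ⟨m, q, hq⟩ := hsurj z
  obtain ⟨ι, hι, g, dg, hdg, hg, hcov⟩ := exists_finite_cover chart U hU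
  haveI := Fintype.ofFinite ι
  have hloc : ∀ j, ∃ N, c ^ N * q ∈ CI.T (𝒜.deg U hU) i (emb p chart U hU) (hdg j) (hg j) := fun j => by
    haveI := (range_away_res hP U hU r (hdg j) (g j) (hg j)).1
    refine CI.exists_pow_mul_of_map_mem_T (hdg j) (hg j) ρ (𝒜.irrelevant_le_map U hU r) _ (map_res_emb hP U hU r)
      (𝒜.str_mem U hU r) hsurj hinj (fun n a => IdSys.res_decompose hU _ _ n a)
      (range_away_res hP U hU r (hdg j) (g j) (hg j)).2 ?_
    rw [hq]
    exact Ideal.mul_mem_left _ _ (hz (dg j) (hdg j) (ρ (g j)) (ρ.map_mem (hg j)))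
  choose N hN using hloc
  refine ⟨Finset.univ.sup N + m, c ^ Finset.univ.sup N * q,
    CI.mem_idealI_of_cover g dg hdg hg hcov fun j => ?_, ?_⟩
  · obtain ⟨k, hk⟩ := Nat.exists_eq_add_of_le (Finset.le_sup (f := N) (Finset.mem_univ j))
    rw [show c ^ Finset.univ.sup N * q = c ^ k * (c ^ N j * q) by rw [hk]; ring]
    exact Ideal.mul_mem_left _ _ (hN j)
  · change ρ _ = ρ c ^ _ * z
    rw [map_mul, map_pow, hq, pow_add, mul_assoc]

theorem res_basic_mem [IsAffineHom i] (U : S.Opens) (hU : IsAffineOpen U) (r : Γ(S, U))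
    (a : 𝒜.presheaf.obj (op U)) (ha : a ∈ CIdeal chart i U hU) :
    resT 𝒜.presheaf (S.basicOpen_le r) a ∈ CIdeal chart i (S.basicOpen r) (hU.basicOpen r) := by
  classical
  intro d hd f' hf'
  letI := (𝒜.presheaf.map (homOfLE (S.basicOpen_le r)).op).hom.toAlgebra
  haveI : IsLocalization.Away (strT 𝒜.str U r) (𝒜.presheaf.obj (op (S.basicOpen r))) := 𝒜.isQC U hU r
  let c := strT 𝒜.str U r
  let ρ := 𝒜.res hU (hU.basicOpen r) (S.basicOpen_le r)
  obtain ⟨⟨q₀, _, k, rfl⟩, e⟩ := IsLocalization.surj (Submonoid.powers c) f'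
  change f' * ρ (c ^ k) = ρ q₀ at e
  let q := (DirectSum.decompose (𝒜.deg U hU) q₀ d : 𝒜.presheaf.obj (op U))
  have hc0 : ρ (c ^ k) ∈ 𝒜.deg _ (hU.basicOpen r) 0 := by
    have := SetLike.pow_mem_graded k (ρ.map_mem (𝒜.str_mem U hU r))
    rwa [smul_zero, ← map_pow] at this
  have hq : ρ q = f' * ρ (c ^ k) := by
    have h1 : ρ q = (DirectSum.decompose (𝒜.deg _ (hU.basicOpen r)) (ρ q₀) d : 𝒜.deg _ (hU.basicOpen r) d) :=
      IdSys.res_decompose hU _ _ d q₀
    rw [h1, ← e, DirectSum.decompose_of_mem_same]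
    simpa only [add_zero] using SetLike.mul_mem_graded hf' hc0
  have hqd : q ∈ 𝒜.deg U hU d := (DirectSum.decompose (𝒜.deg U hU) q₀ d).2
  have h2 := CI.map_mem_T hd hqd ρ (𝒜.irrelevant_le_map U hU r) _ (map_res_emb hP U hU r) (ha d hd q hqd)
  obtain ⟨N, hN⟩ := CI.exists_pow_mul_mem_T hd hf' hc0 hq h2
  have hu : IsUnit (ρ (c ^ k) ^ N) :=
    (IsLocalization.map_units (M := Submonoid.powers c) (𝒜.presheaf.obj (op (S.basicOpen r))) ⟨c ^ k, k, rfl⟩).pow N
  exact (Ideal.unit_mul_mem_iff_mem _ hu).1 hN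

theorem mem_of_res_basic [IsAffineHom i] [QuasiCompact p] {U : S.Opens} (hU : IsAffineOpen U)
    (a : 𝒜.presheaf.obj (op U))
    (h : ∀ s : U, ∃ g : Γ(S, U), s.1 ∈ S.basicOpen g ∧
      resT 𝒜.presheaf (S.basicOpen_le g) a ∈ CIdeal chart i (S.basicOpen g) (hU.basicOpen g)) :
    a ∈ CIdeal chart i U hU := by
  choose g hsg hg using h
  let J : Ideal Γ(S, U) := (Submodule.colon (CIdeal chart i U hU) {a}).comap (strT 𝒜.str U)
  suffices h : J = ⊤ by
    have h1 : (1 : Γ(S, U)) ∈ J := h ▸ trivial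
    have h2 := Submodule.mem_colon_singleton.1 (Ideal.mem_comap.1 h1)
    rwa [map_one, one_smul] at h2
  have hgJ : ∀ s, g s ∈ J.radical := fun s => by
    obtain ⟨m, q, hq, e⟩ := exists_clear hP i U hU (g s) _ (hg s)
    rw [← map_pow, ← map_mul] at e
    obtain ⟨k, hk⟩ := IdSys.eq_pow_res hU (g s) _ _ e
    refine ⟨k + m, Ideal.mem_comap.2 (Submodule.mem_colon_singleton.2 ?_)⟩
    rw [map_pow, smul_eq_mul, pow_add, mul_assoc, ← hk]
    exact Ideal.mul_mem_left _ _ hq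
  refine Ideal.radical_eq_top.1 (top_le_iff.1 (le_trans (ge_of_eq ?_) (Ideal.span_le.2
    (Set.range_subset_iff.2 hgJ))))
  rw [← hU.iSup_basicOpen_eq_self_iff]
  refine le_antisymm (iSup_le fun a => S.basicOpen_le _) fun s hs => ?_
  exact Opens.mem_iSup.2 ⟨⟨_, ⟨⟨s, hs⟩, rfl⟩⟩, hsg ⟨s, hs⟩⟩

theorem res_mem [IsAffineHom i] [QuasiCompact p] {U V : S.Opens} (hU : IsAffineOpen U) (hV : IsAffineOpen V)
    (hle : V ≤ U) (a : 𝒜.presheaf.obj (op U)) (ha : a ∈ CIdeal chart i U hU) :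
    resT 𝒜.presheaf hle a ∈ CIdeal chart i V hV := by
  refine mem_of_res_basic hP i hV _ fun v => ?_
  obtain ⟨r, s, hrs, hv⟩ := exists_basicOpen_le_affine_inter hV hU v.1 ⟨v.2, hle v.2⟩
  refine ⟨r, hv, ?_⟩
  rw [resT_resT]
  have key : ∀ (W : S.Opens) (hW : IsAffineOpen W) (_ : W = S.basicOpen s) (j : W ≤ U),
      resT 𝒜.presheaf j a ∈ CIdeal chart i W hW := by
    rintro W hW rfl j
    exact res_basic_mem hP i U hU s a ha
  exact key _ (hV.basicOpen r) hrs _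

/-- The ideals of a closed subscheme form a compatible system. -/
def closedIdSys [IsAffineHom i] [QuasiCompact p] : IdSys 𝒜 where
  I U hU := CIdeal chart i U hU
  hom _ _ n _ ha := CI.idealI_isHomogeneous n ha
  res_mem hU hV hle a ha := res_mem hP i hU hV hle a ha
  clear U hU r z hz := exists_clear hP i U hU r z hz

omit hP

theorem jk_eq_ker {Q : Scheme.{u}} (h : Q ⟶ P) {R R' : CommRingCat.{u}} (θ : R ⟶ R') (ψ : Spec R ⟶ P)
    (b : Spec R' ⟶ Q) (H : IsPullback (Spec.map θ) b ψ h) : jk h ψ = RingHom.ker θ.hom := by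
  let k := H.flip.isoPullback
  have hk : k.hom ≫ pullback.snd h ψ = Spec.map θ := H.flip.isoPullback_hom_snd
  have he : jmap h ψ ≫ k.hom.appTop = θ ≫ (Scheme.ΓSpecIso R').inv := by
    rw [jmap, Category.assoc, ← Scheme.Hom.comp_appTop, hk, ← Scheme.ΓSpecIso_inv_naturality]
  haveI : IsIso k.hom.appTop := inferInstanceAs (IsIso (k.hom.app ⊤))
  ext x
  rw [mem_jk, RingHom.mem_ker]
  have e1 := congr($he x)
  rw [CommRingCat.comp_apply, CommRingCat.comp_apply] at e1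
  constructor
  · intro hx
    rw [hx, map_zero] at e1
    exact (ConcreteCategory.bijective_of_isIso (Scheme.ΓSpecIso R').inv).1 (e1.symm.trans (map_zero _).symm)
  · intro hx
    rw [hx, map_zero] at e1
    exact (ConcreteCategory.bijective_of_isIso k.hom.appTop).1 (e1.trans (map_zero _).symm)

theorem appLE_congr_mor {X Y : Scheme.{u}} {f g : X ⟶ Y} (e : f = g) {U : Y.Opens} {V : X.Opens}
    (hf : V ≤ f ⁻¹ᵁ U) (hg : V ≤ g ⁻¹ᵁ U) : f.appLE U V hf = g.appLE U V hg := by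
  subst e; rfl

theorem app_eq_zero_iff {R : CommRingCat.{u}} (ψ : Spec R ⟶ P) [IsOpenImmersion ψ] (s : Γ(P, ψ.opensRange)) :
    i.app ψ.opensRange s = 0 ↔
      (Scheme.ΓSpecIso R).hom (ψ.appLE ψ.opensRange ⊤ (fun y _ => ⟨y, rfl⟩) s) ∈ jk i ψ := by
  let k := pullback.fst i ψ
  have hk : k.opensRange = i ⁻¹ᵁ ψ.opensRange := Opens.ext (Scheme.Pullback.range_fst i ψ)
  have hle : (⊤ : (pullback i ψ : Scheme.{u}).Opens) ≤ k ⁻¹ᵁ (i ⁻¹ᵁ ψ.opensRange) := fun z _ => hk.le ⟨z, rfl⟩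
  have hinj : Function.Injective (k.appLE (i ⁻¹ᵁ ψ.opensRange) ⊤ hle) := by
    haveI : IsIso (homOfLE hle) := homOfLE_isIso_of_eq _ (le_antisymm hle le_top)
    exact ((ConcreteCategory.bijective_of_isIso ((pullback i ψ).presheaf.map (homOfLE hle).op)).comp
      (H17.PullSect.bijective_app_of_le k hk.ge)).1
  have hkey : k.appLE (i ⁻¹ᵁ ψ.opensRange) ⊤ hle (i.app ψ.opensRange s) =
      jmap i ψ ((Scheme.ΓSpecIso R).hom (ψ.appLE ψ.opensRange ⊤ (fun y _ => ⟨y, rfl⟩) s)) := by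
    rw [jmap, CommRingCat.comp_apply, Iso.hom_inv_id_apply]
    rw [← CommRingCat.comp_apply, ← CommRingCat.comp_apply,
      show (pullback.snd i ψ).appTop = (pullback.snd i ψ).appLE ⊤ ⊤ le_rfl from (Scheme.Hom.appLE_eq_app _).symm,
      ← Scheme.Hom.appLE_eq_app, Scheme.Hom.appLE_comp_appLE, Scheme.Hom.appLE_comp_appLE]
    exact congr($(appLE_congr_mor (pullback.condition : pullback.fst i ψ ≫ i = pullback.snd i ψ ≫ ψ) _ _) s)
  rw [mem_jk, ← hkey]
  exact ((injective_iff_map_eq_zero' _).1 hinj _).symm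

theorem app_eq_zero_iff_of_jk {Q : Scheme.{u}} (h : Q ⟶ P) {R : CommRingCat.{u}} (ψ : Spec R ⟶ P)
    [IsOpenImmersion ψ] (hjk : jk h ψ = jk i ψ) {W : P.Opens} (hW : ψ.opensRange = W) (s : Γ(P, W)) :
    h.app W s = 0 ↔ i.app W s = 0 := by
  subst hW
  rw [app_eq_zero_iff i ψ, app_eq_zero_iff h ψ, hjk]

include hP

/-- A closed subscheme of a relative Proj is the relative Proj of a graded quotient. -/
theorem exists_closedSub [IsClosedImmersion i] [QuasiCompact p] :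
    ∃ (Y : IdSys 𝒜) (PB : Scheme.{u}) (pB : PB ⟶ S)
      (chartB : ∀ (U : S.Opens) (hU : IsAffineOpen U), (((pB ⁻¹ᵁ U : PB.Opens) : Scheme.{u}) ≅ Proj (Y.alg.deg U hU)))
      (h : PB ⟶ P) (e : PB ≅ Z),
      (∀ (U : S.Opens) (hU : IsAffineOpen U), Y.I U hU = CIdeal chart i U hU) ∧
      RelProj.IsRelProj Y.alg pB chartB ∧
        RelProj.IsProjQMap (RelProj.QGrHom.ofHom Y.quo Y.isGradedHom_quo) p chart pB chartB h ∧ e.hom ≫ i = h := by
  classical
  let Y := closedIdSys hP i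
  obtain ⟨PB, pB, chartB, hB⟩ := exists_isRelProj Y.alg
  have hs : ∀ k, 0 ≤ k → ∀ (U : S.Opens) (hU : IsAffineOpen U),
      Set.SurjOn (RelProj.gradedHomAt Y.quo Y.isGradedHom_quo U hU) (𝒜.deg U hU k) (Y.alg.deg U hU k) :=
    fun k _ U hU b hb => by
      obtain ⟨a, rfl⟩ := Y.quo_surjective hU b
      refine ⟨_, (DirectSum.decompose (𝒜.deg U hU) a k).2, ?_⟩
      rw [decompose_map_hom]
      exact DirectSum.decompose_of_mem_same _ hb
  have hdom := domQ_eq_top_of_surjOn (chartB := chartB) Y.quo Y.isGradedHom_quo hs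
  obtain ⟨h, hh⟩ := exists_isProjQMap _ chart chartB hP hB hdom
  haveI : IsClosedImmersion h := property_of_on _ chart chartB hh (Q := @IsClosedImmersion) fun r hr =>
    qmap_of_charts Y.quo Y.isGradedHom_quo hP hB hr (Q := @IsClosedImmersion) fun U hU d hd f hf =>
      IsClosedImmersion.spec_of_surjective _
        (away_map_surjective_of_surjOn _ (surjOn_ofHom Y.quo Y.isGradedHom_quo hs U hU) hd hf)
  have hjk : ∀ (U : S.Opens) (hU : IsAffineOpen U) (d : ℕ) (hd : 0 < d) (f : 𝒜.presheaf.obj (op U))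
      (hf : f ∈ 𝒜.deg U hU d),
      jk h (Proj.awayι (𝒜.deg U hU) f hf hd ≫ emb p chart U hU) =
        jk i (Proj.awayι (𝒜.deg U hU) f hf hd ≫ emb p chart U hU) := by
    intro U hU d hd f hf
    let u := RelProj.QGrHom.ofHom Y.quo Y.isGradedHom_quo
    haveI := isIso_domQ_ι u chartB hdom
    have hr := isProjQMapOn_of_isProjQMap u chart chartB hh
    have H0 := isPullback_chart u chart chartB hP hB hr U hU U hU le_rfl le_rfl hd f hf
    have H : IsPullback (Spec.map (CommRingCat.ofHom (Away.map (u.gradedAt U hU U hU le_rfl) f)))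
        (lchart u chartB ⟨⟨U, hU⟩, ⟨U, hU⟩, le_rfl, d, hd, f, hf⟩ ≫ (domQ u pB chartB).ι)
        (Proj.awayι (𝒜.deg U hU) f hf hd ≫ emb p chart U hU) h :=
      H0.of_iso (Iso.refl _) (Iso.refl _) (asIso (domQ u pB chartB).ι) (Iso.refl _)
        (by simp) (by simp) (by simp) (by simp)
    rw [jk_eq_ker h _ _ _ H]
    ext x
    obtain ⟨m, y, hy, rfl⟩ := Away.mk_surjective (𝒜.deg U hU) hf x
    have hq : ∀ a : 𝒜.presheaf.obj (op U),
        u.gradedAt U hU U hU le_rfl a = 0 ↔ a ∈ CIdeal chart i U hU := fun a => by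
      rw [ofHom_gradedAt_eq]
      exact Iff.trans RingHom.mem_ker.symm (SetLike.ext_iff.1 (Y.ker_quo hU) a)
    rw [RingHom.mem_ker]
    change Away.map (u.gradedAt U hU U hU le_rfl) f (Away.mk (𝒜.deg U hU) hf m y hy) = 0 ↔ _
    rw [Away.map_mk, ← (HomogeneousLocalization.val_injective _).eq_iff, HomogeneousLocalization.val_zero,
      Away.val_mk, mk_eq_zero_iff_exists_pow]
    constructor
    · rintro ⟨N, hN⟩
      rw [← map_pow, ← map_mul, hq] at hN
      exact CI.mk_mem_J_of_mem_T hd hf hy (CI.mem_T_of_pow_mul hd hf (hN d hd f hf))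
    · intro hJ
      obtain ⟨ι, hι, g, dg, hdg, hg, hcov⟩ := exists_finite_cover chart U hU
      obtain ⟨N, hN⟩ := CI.exists_pow_mul_mem_idealI hd hf g dg hdg hg hcov
        (CI.mem_T_of_mem_gens hd hf ⟨m, hy, hJ⟩)
      exact ⟨N, by rw [← map_pow, ← map_mul, hq]; exact hN⟩
  have hker : i.ker = h.ker := by
    refine Scheme.IdealSheafData.ext_of_iSup_eq_top
      (fun j : Σ (U : S.affineOpens) (d : PNat), 𝒜.deg U.1 U.2 d =>
        (⟨cb chart j.1.1 j.1.2 j.2.2.1, isAffineOpen_cb j.1.1 j.1.2 j.2.1.2 j.2.2.1 j.2.2.2⟩ : P.affineOpens))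
      (top_le_iff.1 fun z _ => ?_) fun j => ?_
    · obtain ⟨U, hU⟩ := Opens.mem_iSup.1 ((iSup_affineOpens_eq_top S).ge (Set.mem_univ (p z)))
      obtain ⟨d, hd, f, hf, hz⟩ := exists_mem_cb (chart := chart) U.2 hU
      exact Opens.mem_iSup.2 ⟨⟨U, ⟨d, hd⟩, f, hf⟩, hz⟩
    · rw [Scheme.Hom.ker_apply, Scheme.Hom.ker_apply]
      ext s
      exact (app_eq_zero_iff_of_jk i h _ (hjk j.1.1 j.1.2 j.2.1 j.2.1.2 j.2.2.1 j.2.2.2)
        (opensRange_awayι_emb j.1.1 j.1.2 j.2.1.2 j.2.2.1 j.2.2.2) s).symm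
  haveI := IsClosedImmersion.isIso_lift i h hker
  exact ⟨Y, PB, pB, chartB, h, asIso (IsClosedImmersion.lift i h hker.le), fun _ _ => rfl, hB, hh,
    IsClosedImmersion.lift_fac _ _ _⟩

end Groth.Agent.H11QMap
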