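import Groth.Agent.H11QMap.Comp

/-!
# Composing a graded morphism with a homomorphism of the target
-/

set_option autoImplicit false
set_option linter.style.haveILetI false
set_option linter.unusedSectionVars false

noncomputable section

universe u

open CategoryTheory CategoryTheory.Limits AlgebraicGeometry TopologicalSpace Opposite RelProj
open HomogeneousLocalization
open scoped HomogeneousIdeal

namespace Groth.Agent.H11QMap

variable {S S' P P' : Scheme.{u}} {g : S' ⟶ S} {𝒮 : QCGrAlg S} {𝒮' 𝒯' : QCGrAlg S'} (u : QGrHom g 𝒮 𝒮')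
  (φ : 𝒮'.toQCAlg ⟶ 𝒯'.toQCAlg) (hφ : IsGradedHom φ) (w : QGrHom g 𝒮 𝒯')
  (hw : ∀ U : S.Opens, w.app U = u.app U ≫ φ.hom.app (op (g ⁻¹ᵁ U)))
  {p : P ⟶ S} (chart : ∀ (U : S.Opens) (hU : IsAffineOpen U), (((p ⁻¹ᵁ U : P.Opens) : Scheme.{u}) ≅ Proj (𝒮.deg U hU)))
  {p' : P' ⟶ S'}
  (chart' : ∀ (U' : S'.Opens) (hU' : IsAffineOpen U'), (((p' ⁻¹ᵁ U' : P'.Opens) : Scheme.{u}) ≅ Proj (𝒮'.deg U' hU')))
  {PT : Scheme.{u}} {pT : PT ⟶ S'}
  (chartT : ∀ (U' : S'.Opens) (hU' : IsAffineOpen U'), (((pT ⁻¹ᵁ U' : PT.Opens) : Scheme.{u}) ≅ Proj (𝒯'.deg U' hU')))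

include hφ hw in
theorem gradedAt_compTarget (U : S.Opens) (hU : IsAffineOpen U) (U' : S'.Opens) (hU' : IsAffineOpen U')
    (hle : U' ≤ g ⁻¹ᵁ U) (x : 𝒮.presheaf.obj (op U)) :
    w.gradedAt U hU U' hU' hle x =
      (QGrHom.ofHom φ hφ).gradedAt U' hU' U' hU' le_rfl (u.gradedAt U hU U' hU' hle x) := by
  rw [ofHom_gradedAt_eq]
  simp only [QGrHom.gradedAt_apply, RelSpec.QHom.appLE, hw]
  exact (ConcreteCategory.congr_hom (φ.hom.naturality (homOfLE hle).op) ((u.app U).hom x)).symm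

include hφ hw in
theorem domQ_compTarget_le : domQ w pT chartT ≤ domQ (QGrHom.ofHom φ hφ) pT chartT := fun z hz => by
  obtain ⟨U, hU, U', hU', hle, d, hd, f, hf, hz⟩ := (mem_domQ_iff w chartT z).1 hz
  rw [gradedAt_compTarget u φ hφ w hw U hU U' hU' hle] at hz
  exact cb_le_domQ (QGrHom.ofHom φ hφ) chartT U' hU' U' hU' le_rfl hd _
    (gmem (u.gradedAt U hU U' hU' hle) hf) hz

variable (hP : IsRelProj 𝒮 p chart) (hP' : IsRelProj 𝒮' p' chart') (hT : IsRelProj 𝒯' pT chartT)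
variable {r : (domQ u p' chart' : Scheme.{u}) ⟶ P} (hr : IsProjQMapOn u p chart p' chart' (domQ u p' chart') r)
variable {rw' : (domQ w pT chartT : Scheme.{u}) ⟶ P} (hrw : IsProjQMapOn w p chart pT chartT (domQ w pT chartT) rw')
variable {Ψ : (domQ (QGrHom.ofHom φ hφ) pT chartT : Scheme.{u}) ⟶ P'}
  (hΨ : IsProjQMapOn (QGrHom.ofHom φ hφ) p' chart' pT chartT (domQ (QGrHom.ofHom φ hφ) pT chartT) Ψ)

include hw hP hP' hT hr hrw hΨ

/-- `Proj(φ ∘ u)` is `Proj(φ)` followed by `Proj(u)`. -/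
theorem exists_factor_target :
    ∃ n : (domQ w pT chartT : Scheme.{u}) ⟶ (domQ u p' chart' : Scheme.{u}),
      n ≫ (domQ u p' chart').ι = PT.homOfLE (domQ_compTarget_le u φ hφ w hw chartT) ≫ Ψ ∧ n ≫ r = rw' := by
  let G := domQ u p' chart'
  have hrange : Set.range (PT.homOfLE (domQ_compTarget_le u φ hφ w hw chartT) ≫ Ψ) ⊆ Set.range G.ι := by
    rintro _ ⟨z, rfl⟩
    rw [Scheme.Opens.range_ι]
    obtain ⟨U, hU, U', hU', hle, d, hd, f, hf, hz⟩ := (mem_domQ_iff w chartT _).1 z.2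
    rw [gradedAt_compTarget u φ hφ w hw] at hz
    refine cb_le_domQ u chart' U hU U' hU' hle hd f hf ?_
    have e : (domQ (QGrHom.ofHom φ hφ) pT chartT).ι (PT.homOfLE (domQ_compTarget_le u φ hφ w hw chartT) z) =
        (domQ w pT chartT).ι z := by
      rw [← Scheme.Hom.comp_apply, Scheme.homOfLE_ι]
    refine (qmap_mem_cb_iff (QGrHom.ofHom φ hφ) chart' chartT hP' hT hΨ
      (PT.homOfLE (domQ_compTarget_le u φ hφ w hw chartT) z) U' hU' U' hU' le_rfl ?_ hd _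
      (gmem (u.gradedAt U hU U' hU' hle) hf)).2 ?_
    · rw [e]; exact cb_le U' hU' _ hz
    · rw [e]; exact hz
  refine ⟨IsOpenImmersion.lift G.ι _ hrange, IsOpenImmersion.lift_fac _ _ _, ?_⟩
  refine qmap_unique w chart chartT ?_ hrw
  intro U hU U' hU' hle d hd f hf hW
  have key : ∀ (c : Spec (CommRingCat.of (Away (𝒯'.deg U' hU')
        ((((QGrHom.ofHom φ hφ).gradedAt U' hU' U' hU' le_rfl).comp (u.gradedAt U hU U' hU' hle)) f))) ⟶
        (domQ w pT chartT : Scheme.{u})),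
      c ≫ (domQ w pT chartT).ι = Proj.awayι (𝒯'.deg U' hU')
        ((((QGrHom.ofHom φ hφ).gradedAt U' hU' U' hU' le_rfl).comp (u.gradedAt U hU U' hU' hle)) f)
        (gmem _ hf) hd ≫ emb pT chartT U' hU' →
      c ≫ IsOpenImmersion.lift G.ι _ hrange ≫ r =
        Spec.map (CommRingCat.ofHom (Away.map
          (((QGrHom.ofHom φ hφ).gradedAt U' hU' U' hU' le_rfl).comp (u.gradedAt U hU U' hU' hle)) f)) ≫
          Proj.awayι (𝒮.deg U hU) f hf hd ≫ emb p chart U hU := by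
    intro c hc
    let A := (QGrHom.ofHom φ hφ).gradedAt U' hU' U' hU' le_rfl
    let B := u.gradedAt U hU U' hU' hle
    let j : Idx (QGrHom.ofHom φ hφ) := ⟨⟨U', hU'⟩, ⟨U', hU'⟩, le_rfl, d, hd, B f, gmem B hf⟩
    let i : Idx u := ⟨⟨U, hU⟩, ⟨U', hU'⟩, hle, d, hd, f, hf⟩
    have h1 : c ≫ PT.homOfLE (domQ_compTarget_le u φ hφ w hw chartT) = lchart (QGrHom.ofHom φ hφ) chartT j := by
      rw [← cancel_mono (domQ (QGrHom.ofHom φ hφ) pT chartT).ι, Category.assoc, Scheme.homOfLE_ι, hc]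
      exact (lchart_ι (QGrHom.ofHom φ hφ) chartT j).symm
    have h2 : c ≫ IsOpenImmersion.lift G.ι _ hrange =
        Spec.map (CommRingCat.ofHom (Away.map A (B f))) ≫ lchart u chart' i := by
      rw [← cancel_mono G.ι, Category.assoc, IsOpenImmersion.lift_fac, reassoc_of% h1]
      exact ((isProjQMapOn_iff (QGrHom.ofHom φ hφ) chart' chartT Ψ).1 hΨ j).trans (((Category.assoc _ _ _).trans
        (congrArg (_ ≫ ·) (lchart_ι u chart' i))).symm)
    refine (Category.assoc _ _ _).symm.trans ((congrArg (· ≫ r) h2).trans ((Category.assoc _ _ _).trans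
      ((congrArg (_ ≫ ·) ((isProjQMapOn_iff u chart chart' r).1 hr i)).trans ?_)))
    change Spec.map (CommRingCat.ofHom (Away.map A (B f))) ≫ Spec.map (CommRingCat.ofHom (Away.map B f)) ≫
      Proj.awayι (𝒮.deg U hU) f hf hd ≫ emb p chart U hU = _
    refine (Category.assoc _ _ _).symm.trans (congrArg (· ≫ (Proj.awayι (𝒮.deg U hU) f hf hd ≫ emb p chart U hU)) ?_)
    rw [← Spec.map_comp, ← CommRingCat.ofHom_comp]
    exact congrArg (fun k => Spec.map (CommRingCat.ofHom k)) (Away.map_comp B A f).symm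
  have hcomp : ((QGrHom.ofHom φ hφ).gradedAt U' hU' U' hU' le_rfl).comp (u.gradedAt U hU U' hU' hle) =
      w.gradedAt U hU U' hU' hle := GradedRingHom.ext fun x =>
    (gradedAt_compTarget u φ hφ w hw U hU U' hU' hle x).symm
  revert key
  rw [hcomp]
  intro key
  exact key _ (IsOpenImmersion.lift_fac _ _ _)

end Groth.Agent.H11QMap
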