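import Groth.Agent.H11QMap.Global

/-!
# Emptiness of standard opens, dominance of `Proj(u)`, comparison along homomorphisms of the source
-/

set_option autoImplicit false
set_option linter.style.haveILetI false

noncomputable section

universe u

open CategoryTheory CategoryTheory.Limits AlgebraicGeometry TopologicalSpace Opposite RelProj
open HomogeneousLocalization
open scoped HomogeneousIdeal

namespace Groth.Agent.H11QMap

variable {S S' P P' : Scheme.{u}} {g : S' ⟶ S} {𝒮 : QCGrAlg S} {𝒮' : QCGrAlg S'} (u : QGrHom g 𝒮 𝒮')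
  {p : P ⟶ S} (chart : ∀ (U : S.Opens) (hU : IsAffineOpen U), (((p ⁻¹ᵁ U : P.Opens) : Scheme.{u}) ≅ Proj (𝒮.deg U hU)))
  {p' : P' ⟶ S'}
  (chart' : ∀ (U' : S'.Opens) (hU' : IsAffineOpen U'), (((p' ⁻¹ᵁ U' : P'.Opens) : Scheme.{u}) ≅ Proj (𝒮'.deg U' hU')))

theorem exists_basicOpen_subset {A σ : Type u} [CommRing A] [SetLike σ A] [AddSubgroupClass σ A] {𝒜 : ℕ → σ}
    [GradedRing 𝒜] {O : Set (Proj 𝒜)} (hO : IsOpen O) {v : Proj 𝒜} (hv : v ∈ O) :
    ∃ (d : ℕ) (_ : 0 < d) (f : A), f ∈ 𝒜 d ∧ v ∈ Proj.basicOpen 𝒜 f ∧ (Proj.basicOpen 𝒜 f : Set (Proj 𝒜)) ⊆ O := by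
  classical
  obtain ⟨s, hs⟩ := (ProjectiveSpectrum.isClosed_iff_zeroLocus 𝒜 Oᶜ).1 hO.isClosed_compl
  have hv' : v ∉ ProjectiveSpectrum.zeroLocus 𝒜 s := fun h => (hs.ge h : v ∈ Oᶜ) hv
  obtain ⟨a, has, hav⟩ := Set.not_subset.1 hv'
  obtain ⟨i, hi⟩ : ∃ i, (DirectSum.decompose 𝒜 a i : A) ∉ v.asHomogeneousIdeal := by
    by_contra hc
    push Not at hc
    apply hav
    rw [← DirectSum.sum_support_decompose 𝒜 a]
    exact sum_mem fun k _ => hc k
  obtain ⟨d, hd, b, hb, hbv⟩ : ∃ d, 0 < d ∧ ∃ b ∈ 𝒜 d, b ∉ v.asHomogeneousIdeal := by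
    by_contra hc
    push Not at hc
    exact v.not_irrelevant_le ((HomogeneousIdeal.irrelevant_le _).2 fun d hd a ha => hc d hd a ha)
  refine ⟨i + d, Nat.add_pos_right i hd, _, SetLike.mul_mem_graded (DirectSum.decompose 𝒜 a i).2 hb, ?_, fun x hx => ?_⟩
  · rw [Proj.basicOpen_mul]
    exact ⟨(ProjectiveSpectrum.mem_basicOpen _ _ _).2 hi, (ProjectiveSpectrum.mem_basicOpen _ _ _).2 hbv⟩
  · rw [SetLike.mem_coe, Proj.basicOpen_mul] at hx
    by_contra hxO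
    exact (ProjectiveSpectrum.mem_basicOpen _ _ _).1 hx.1
      (x.asHomogeneousIdeal.isHomogeneous i (hs.le hxO has))

theorem cb_eq_bot_of_isNilpotent (U : S.Opens) (hU : IsAffineOpen U) {a : 𝒮.presheaf.obj (op U)}
    (ha : IsNilpotent a) : cb chart U hU a = ⊥ := by
  obtain ⟨k, hk⟩ := ha
  have h := cb_pow (chart := chart) U hU a k.succ_pos
  rw [← h, pow_succ, hk, zero_mul, cb, Proj.basicOpen_zero]
  exact Opens.ext (Set.image_empty _)

theorem isNilpotent_of_cb_eq_bot (U : S.Opens) (hU : IsAffineOpen U) {d : ℕ} (hd : 0 < d)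
    {a : 𝒮.presheaf.obj (op U)} (ha : a ∈ 𝒮.deg U hU d) (h : cb chart U hU a = ⊥) : IsNilpotent a := by
  have hempty : IsEmpty (PrimeSpectrum (Away (𝒮.deg U hU) a)) := ⟨fun y => by
    have hy : (Proj.awayι (𝒮.deg U hU) a ha hd ≫ emb p chart U hU) y ∈
        (Proj.awayι (𝒮.deg U hU) a ha hd ≫ emb p chart U hU).opensRange := ⟨y, rfl⟩
    rw [opensRange_awayι_emb, h] at hy
    exact hy⟩
  have h1 := PrimeSpectrum.isEmpty_iff_subsingleton.1 hempty
  have h2 := congrArg HomogeneousLocalization.val (@Subsingleton.elim _ h1 (1 : Away (𝒮.deg U hU) a) 0)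
  rw [val_one, val_zero, ← Localization.mk_one, ← Localization.mk_zero 1, Localization.mk_eq_mk_iff,
    Localization.r_iff_exists] at h2
  obtain ⟨⟨_, l, rfl⟩, hl⟩ := h2
  exact ⟨l, by simpa using hl⟩

variable (hP : IsRelProj 𝒮 p chart) (hP' : IsRelProj 𝒮' p' chart')
variable {r : (domQ u p' chart' : Scheme.{u}) ⟶ P} (hr : IsProjQMapOn u p chart p' chart' (domQ u p' chart') r)

include hP hP' hr

/-- The preimage of a standard open is empty iff the standard opens of the images are. -/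
theorem preimage_cb_eq_bot_iff (U : S.Opens) (hU : IsAffineOpen U) {d : ℕ} (hd : 0 < d)
    (f : 𝒮.presheaf.obj (op U)) (hf : f ∈ 𝒮.deg U hU d) :
    r ⁻¹ᵁ cb chart U hU f = ⊥ ↔ ∀ (V : S'.Opens) (hV : IsAffineOpen V) (hle : V ≤ g ⁻¹ᵁ U),
      cb chart' V hV (u.gradedAt U hU V hV hle f) = ⊥ := by
  constructor
  · intro h V hV hle
    refine le_bot_iff.1 fun z hz => ?_
    let w : (domQ u p' chart' : Scheme.{u}) := ⟨z, cb_le_domQ u chart' U hU V hV hle hd f hf hz⟩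
    have hw : w ∈ r ⁻¹ᵁ cb chart U hU f :=
      (qmap_mem_cb_iff u chart chart' hP hP' hr w U hU V hV hle (cb_le V hV _ hz) hd f hf).2 hz
    rw [h] at hw
    exact hw.elim
  · intro h
    refine le_bot_iff.1 fun w hw => ?_
    have hU' : g (p' ((domQ u p' chart').ι w)) ∈ U := by
      rw [← qmap_p_apply u chart chart' hP hP' hr]
      exact cb_le U hU f hw
    obtain ⟨V, hV, hzV, hle⟩ := exists_isAffineOpen_mem_and_subset (U := g ⁻¹ᵁ U) hU'
    have h1 := (qmap_mem_cb_iff u chart chart' hP hP' hr w U hU V hV hle hzV hd f hf).1 hw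
    rw [h] at h1
    exact h1.elim

/-- Dominance of `Proj(u)`. -/
theorem isDominant_iff_cb :
    IsDominant r ↔ ∀ (U : S.Opens) (hU : IsAffineOpen U) (d : ℕ), 0 < d → ∀ f ∈ 𝒮.deg U hU d,
      (∀ (V : S'.Opens) (hV : IsAffineOpen V) (hle : V ≤ g ⁻¹ᵁ U),
        cb chart' V hV (u.gradedAt U hU V hV hle f) = ⊥) → cb chart U hU f = ⊥ := by
  constructor
  · intro hdom U hU d hd f hf h
    refine le_bot_iff.1 fun z hz => ?_
    obtain ⟨w, hw⟩ := hdom.denseRange.exists_mem_open (cb chart U hU f).2 ⟨z, hz⟩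
    have : w ∈ r ⁻¹ᵁ cb chart U hU f := hw
    rw [(preimage_cb_eq_bot_iff u chart chart' hP hP' hr U hU hd f hf).2 h] at this
    exact this.elim
  · intro H
    refine ⟨dense_iff_inter_open.2 fun O hO ⟨z, hz⟩ => ?_⟩
    obtain ⟨U, hU⟩ := Opens.mem_iSup.1 ((iSup_affineOpens_eq_top S).ge (Set.mem_univ (p z)))
    obtain ⟨v, rfl⟩ := exists_emb_eq (chart := chart) U.2 hU
    obtain ⟨d, hd, f, hf, hvf, hle⟩ : ∃ (d : ℕ) (_ : 0 < d) (f : 𝒮.presheaf.obj (op U.1)),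
        f ∈ 𝒮.deg U.1 U.2 d ∧ v ∈ Proj.basicOpen (𝒮.deg U.1 U.2) f ∧
          (Proj.basicOpen (𝒮.deg U.1 U.2) f : Set _) ⊆ emb p chart U.1 U.2 ⁻¹' O :=
      exists_basicOpen_subset (hO.preimage (emb p chart U.1 U.2).continuous) hz
    by_contra hne
    have hbot : r ⁻¹ᵁ cb chart U.1 U.2 f = ⊥ := le_bot_iff.1 fun w hw => by
      obtain ⟨v', hv', he⟩ := hw
      exact hne ⟨r w, he ▸ hle hv', w, rfl⟩
    have h' := H U.1 U.2 d hd f hf ((preimage_cb_eq_bot_iff u chart chart' hP hP' hr U.1 U.2 hd f hf).1 hbot)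
    exact (h'.le ⟨v, hvf, rfl⟩ : _).elim

end Groth.Agent.H11QMap
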