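import Groth.Agent.H11QMap.ConeRetrRel
import Groth.Agent.H11Cone.ConeRetr

/-!
# The canonical retraction of the pointed affine cone over a general base
-/

set_option autoImplicit false
set_option linter.style.haveILetI false
set_option linter.unusedSectionVars false

noncomputable section

universe u

open CategoryTheory CategoryTheory.Limits AlgebraicGeometry TopologicalSpace Opposite RelProj
open HomogeneousLocalization
open scoped HomogeneousIdeal

namespace Groth.Agent.H11QMap.ConeRetrRel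

theorem awayι_congr {A σ : Type u} [CommRing A] [SetLike σ A] [AddSubgroupClass σ A] {𝒜 : ℕ → σ} [GradedRing 𝒜]
    {a b : ℕ} (e : a = b) {f : A} (ha : f ∈ 𝒜 a) (hb : f ∈ 𝒜 b) (ha' : 0 < a) (hb' : 0 < b) :
    Proj.awayι 𝒜 f ha ha' = Proj.awayι 𝒜 f hb hb' := by
  subst e; rfl

variable {Y PC P : Scheme.{u}} {𝒮 𝒮h : QCGrAlg Y} {ι : 𝒮.toQCAlg ⟶ 𝒮h.toQCAlg} {z : 𝒮h.presheaf.obj (op ⊤)}
  (hz : RelCone.IsPolyOver 𝒮 𝒮h ι z)

theorem mem_pointedCone_iff (x : 𝒮.toQCAlg.spec) :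
    x ∈ RelCone.pointedCone 𝒮 ↔ ∃ (U : Y.Opens) (hU : IsAffineOpen U) (d : ℕ) (_ : 0 < d)
      (f : 𝒮.presheaf.obj (op U)) (t : Spec (𝒮.presheaf.obj (op U))),
      f ∈ 𝒮.deg U hU d ∧ f ∉ t.asIdeal ∧ 𝒮.toQCAlg.ι U hU t = x := by
  rw [RelCone.pointedCone, Opens.mem_iSup]
  constructor
  · rintro ⟨⟨U, hU⟩, t, ht, rfl⟩
    obtain ⟨d, hd, f, hf, hft⟩ : ∃ d, 0 < d ∧ ∃ f ∈ 𝒮.deg U hU d, f ∉ t.asIdeal := by
      by_contra hc
      push Not at hc
      refine ht ((PrimeSpectrum.mem_zeroLocus _ _).2 ?_)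
      exact (HomogeneousIdeal.toIdeal_irrelevant_le (𝒮.deg U hU)).2 fun d hd a ha => hc d hd a ha
    exact ⟨U, hU, d, hd, f, t, hf, hft, rfl⟩
  · rintro ⟨U, hU, d, hd, f, t, hf, hft, rfl⟩
    refine ⟨⟨U, hU⟩, t, fun h => hft ((PrimeSpectrum.mem_zeroLocus _ _).1 h ?_), rfl⟩
    exact HomogeneousIdeal.mem_irrelevant_of_mem _ hd hf

theorem range_subset_cone (U : Y.Opens) (hU : IsAffineOpen U) {d : ℕ} (hd : 0 < d) (f : 𝒮.presheaf.obj (op U))
    (hf : f ∈ 𝒮.deg U hU d) :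
    Set.range (Spec.map (CommRingCat.ofHom (algebraMap (𝒮.presheaf.obj (op U)) (Localization.Away f))) ≫
      𝒮.toQCAlg.ι U hU).base ⊆ Set.range (RelCone.pointedCone 𝒮).ι.base := by
  rw [Scheme.Opens.range_ι]
  rintro _ ⟨P, rfl⟩
  exact (mem_pointedCone_iff _).2 ⟨U, hU, d, hd, f, _, hf, H11Cone.ConeRetr.self_notMem_down P,
    (Scheme.Hom.comp_apply _ _ _).symm⟩

/-- The standard chart of the pointed affine cone. -/
def echart (U : Y.Opens) (hU : IsAffineOpen U) {d : ℕ} (hd : 0 < d) (f : 𝒮.presheaf.obj (op U))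
    (hf : f ∈ 𝒮.deg U hU d) :
    Spec (CommRingCat.of (Localization.Away f)) ⟶ ((RelCone.pointedCone 𝒮 : 𝒮.toQCAlg.spec.Opens) : Scheme.{u}) :=
  IsOpenImmersion.lift (RelCone.pointedCone 𝒮).ι
    (Spec.map (CommRingCat.ofHom (algebraMap (𝒮.presheaf.obj (op U)) (Localization.Away f))) ≫ 𝒮.toQCAlg.ι U hU)
    (range_subset_cone U hU hd f hf)

@[reassoc]
theorem echart_ι (U : Y.Opens) (hU : IsAffineOpen U) {d : ℕ} (hd : 0 < d) (f : 𝒮.presheaf.obj (op U))
    (hf : f ∈ 𝒮.deg U hU d) :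
    echart U hU hd f hf ≫ (RelCone.pointedCone 𝒮).ι =
      Spec.map (CommRingCat.ofHom (algebraMap (𝒮.presheaf.obj (op U)) (Localization.Away f))) ≫ 𝒮.toQCAlg.ι U hU :=
  IsOpenImmersion.lift_fac _ _ _

theorem isOpenImmersion_echart (U : Y.Opens) (hU : IsAffineOpen U) {d : ℕ} (hd : 0 < d) (f : 𝒮.presheaf.obj (op U))
    (hf : f ∈ 𝒮.deg U hU d) : IsOpenImmersion (echart U hU hd f hf) := by
  have : IsOpenImmersion (echart U hU hd f hf ≫ (RelCone.pointedCone 𝒮).ι) := by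
    rw [echart_ι]
    have : IsOpenImmersion
        (Spec.map (CommRingCat.ofHom (algebraMap (𝒮.presheaf.obj (op U)) (Localization.Away f)))) :=
      IsOpenImmersion.of_isLocalization f
    infer_instance
  exact IsOpenImmersion.of_comp _ (RelCone.pointedCone 𝒮).ι

theorem opensRange_echart (U : Y.Opens) (hU : IsAffineOpen U) {d : ℕ} (hd : 0 < d) (f : 𝒮.presheaf.obj (op U))
    (hf : f ∈ 𝒮.deg U hU d) [IsOpenImmersion (echart U hU hd f hf)] :
    (echart U hU hd f hf).opensRange =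
      (RelCone.pointedCone 𝒮).ι ⁻¹ᵁ (𝒮.toQCAlg.ι U hU ''ᵁ PrimeSpectrum.basicOpen f) := by
  ext x
  constructor
  · rintro ⟨P, rfl⟩
    refine ⟨_, H11Cone.ConeRetr.self_notMem_down P, ?_⟩
    exact (Scheme.Hom.comp_apply _ _ _).symm.trans
      ((congrArg (fun k => k.base P) (echart_ι U hU hd f hf)).symm.trans (Scheme.Hom.comp_apply _ _ _))
  · rintro ⟨t, ht, hte⟩
    obtain ⟨P, rfl⟩ : t ∈ Set.range (PrimeSpectrum.comap (algebraMap (𝒮.presheaf.obj (op U)) (Localization.Away f))) := by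
      rw [PrimeSpectrum.localization_away_comap_range (Localization.Away f) f]
      exact ht
    refine ⟨P, (RelCone.pointedCone 𝒮).ι.isOpenEmbedding.injective ?_⟩
    refine ((Scheme.Hom.comp_apply _ _ _).symm.trans
      ((congrArg (fun k => k.base P) (echart_ι U hU hd f hf)).trans (Scheme.Hom.comp_apply _ _ _))).trans hte

include hz in
theorem evalOne_gradedHomAt (U : Y.Opens) (hU : IsAffineOpen U) (a : 𝒮.presheaf.obj (op U)) :
    hz.evalOne U hU (gradedHomAt ι hz.graded U hU a) = a := hz.evalOne_ι U hU a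

/-- `B_(ι f) → A_f`, "set `z = 1`". -/
def toLoc (U : Y.Opens) (hU : IsAffineOpen U) (f : 𝒮.presheaf.obj (op U)) :
    Away (𝒮h.deg U hU) (gradedHomAt ι hz.graded U hU f) →+* Localization.Away f :=
  (IsLocalization.Away.lift (gradedHomAt ι hz.graded U hU f)
    (g := (algebraMap (𝒮.presheaf.obj (op U)) (Localization.Away f)).comp (hz.evalOne U hU))
    (by rw [RingHom.comp_apply, evalOne_gradedHomAt]; exact IsLocalization.Away.algebraMap_isUnit f)).comp
    (algebraMap (Away (𝒮h.deg U hU) (gradedHomAt ι hz.graded U hU f))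
      (Localization.Away (gradedHomAt ι hz.graded U hU f)))

theorem toLoc_mk (U : Y.Opens) (hU : IsAffineOpen U) {d : ℕ} (f : 𝒮.presheaf.obj (op U))
    (hf' : gradedHomAt ι hz.graded U hU f ∈ 𝒮h.deg U hU d) (n : ℕ) (b : 𝒮h.presheaf.obj (op U))
    (hb : b ∈ 𝒮h.deg U hU (n • d)) :
    toLoc hz U hU f (Away.mk (𝒮h.deg U hU) hf' n b hb) * algebraMap (𝒮.presheaf.obj (op U)) (Localization.Away f) f ^ n =
      algebraMap (𝒮.presheaf.obj (op U)) (Localization.Away f) (hz.evalOne U hU b) := by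
  have hu : IsUnit (((algebraMap (𝒮.presheaf.obj (op U)) (Localization.Away f)).comp (hz.evalOne U hU))
      (gradedHomAt ι hz.graded U hU f)) := by
    rw [RingHom.comp_apply, evalOne_gradedHomAt]; exact IsLocalization.Away.algebraMap_isUnit f
  have e := congrArg (IsLocalization.Away.lift (S := Localization.Away (gradedHomAt ι hz.graded U hU f))
      (gradedHomAt ι hz.graded U hU f) hu)
    (IsLocalization.mk'_spec (M := Submonoid.powers (gradedHomAt ι hz.graded U hU f))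
      (Localization.Away (gradedHomAt ι hz.graded U hU f)) b
      ⟨gradedHomAt ι hz.graded U hU f ^ n, pow_mem (Submonoid.mem_powers _) n⟩)
  rw [map_mul, IsLocalization.Away.lift_eq, IsLocalization.Away.lift_eq, RingHom.comp_apply, RingHom.comp_apply,
    map_pow, map_pow, evalOne_gradedHomAt] at e
  rw [toLoc, RingHom.comp_apply, HomogeneousLocalization.algebraMap_apply, Away.val_mk, Localization.mk_eq_mk']
  exact e

theorem toLoc_comp (U : Y.Opens) (hU : IsAffineOpen U) {d : ℕ} (f : 𝒮.presheaf.obj (op U))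
    (hf : f ∈ 𝒮.deg U hU d) :
    (toLoc hz U hU f).comp (Away.map (gradedHomAt ι hz.graded U hU) f) =
      algebraMap (Away (𝒮.deg U hU) f) (Localization.Away f) := by
  refine RingHom.ext fun c => ?_
  obtain ⟨n, a, ha, rfl⟩ := Away.mk_surjective (𝒮.deg U hU) hf c
  rw [RingHom.comp_apply, Away.map_mk (gradedHomAt ι hz.graded U hU) f hf n a ha]
  refine ((IsLocalization.Away.algebraMap_isUnit (S := Localization.Away f) f).pow n).mul_left_injective ?_
  refine (toLoc_mk hz U hU f _ n _ _).trans ?_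
  rw [evalOne_gradedHomAt, HomogeneousLocalization.algebraMap_apply, Away.val_mk, Localization.mk_eq_mk', ← map_pow]
  exact (IsLocalization.mk'_spec (Localization.Away f) a ⟨f ^ n, pow_mem (Submonoid.mem_powers _) n⟩).symm

variable {pC : PC ⟶ Y}
  {chartC : ∀ (U : Y.Opens) (hU : IsAffineOpen U), (((pC ⁻¹ᵁ U : PC.Opens) : Scheme.{u}) ≅ Proj (𝒮h.deg U hU))}
  (hPC : IsRelProj 𝒮h pC chartC) {p : P ⟶ Y}
  {chart : ∀ (U : Y.Opens) (hU : IsAffineOpen U), (((p ⁻¹ᵁ U : P.Opens) : Scheme.{u}) ≅ Proj (𝒮.deg U hU))}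
  (hP : IsRelProj 𝒮 p chart)
  {i : 𝒮.toQCAlg.spec ⟶ PC} (hi : RelCone.IsConeImm 𝒮 hz pC chartC i)

include hPC hi in
theorem coneImm_over : i ≫ pC = 𝒮.toQCAlg.π := by
  have hcov : ∀ x : 𝒮.toQCAlg.spec, ∃ (V : Y.affineOpens), x ∈ (𝒮.toQCAlg.ι V.1 V.2).opensRange := fun x => by
    obtain ⟨V, hV⟩ := Opens.mem_iSup.1 ((iSup_affineOpens_eq_top Y).ge (Set.mem_univ (𝒮.toQCAlg.π x)))
    exact ⟨V, (𝒮.toQCAlg.π_preimage V.1 V.2).le hV⟩
  let 𝒰 : 𝒮.toQCAlg.spec.OpenCover := .mkOfCovers Y.affineOpens (fun V => Spec (𝒮.presheaf.obj (op V.1)))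
    (fun V => 𝒮.toQCAlg.ι V.1 V.2) (fun x => by
      obtain ⟨V, y, hy⟩ := hcov x
      exact ⟨V, y, hy⟩) (fun V => inferInstance)
  refine 𝒰.hom_ext _ _ fun V => ?_
  change 𝒮.toQCAlg.ι V.1 V.2 ≫ i ≫ pC = 𝒮.toQCAlg.ι V.1 V.2 ≫ 𝒮.toQCAlg.π
  rw [← Category.assoc, hi V.1 V.2, 𝒮.toQCAlg.ι_π V.1 V.2, Category.assoc, Category.assoc]
  refine (congrArg (_ ≫ ·) (awayι_emb_p chartC hPC V.1 V.2 one_pos _ (hz.deg_z V.1 V.2))).trans ?_
  rw [← Category.assoc, ← Spec.map_comp]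
  refine congrArg (fun k => Spec.map k ≫ V.2.fromSpec) (CommRingCat.hom_ext (RingHom.ext fun a => ?_))
  change hz.awayZToBase V.1 V.2 (fromZeroRingHom (𝒮h.deg V.1 V.2) _ ((𝒮h.strZero V.1 V.2).hom a)) =
    (𝒮.str.app (op V.1)).hom a
  refine (hz.awayZToBase_of_val V.1 V.2 _ ((𝒮h.str.app (op V.1)).hom a) 0 ?_).trans ?_
  · simp only [fromZeroRingHom, RingHom.coe_mk, MonoidHom.coe_mk, OneHom.coe_mk, val_mk]
    exact congrArg (Localization.mk _) (Subtype.ext (pow_zero _).symm)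
  have e : (𝒮h.str.app (op V.1)).hom a = (ι.hom.app (op V.1)).hom ((𝒮.str.app (op V.1)).hom a) :=
    (congr($(congrArg (fun k : Y.presheaf ⟶ 𝒮h.presheaf => k.app (op V.1)) ι.comm) a)).symm
  rw [e, hz.evalOne_ι]

include hPC hi in
theorem coneImm_mem_cb_iff (U : Y.Opens) (hU : IsAffineOpen U) {d : ℕ} (hd : 0 < d) (f : 𝒮.presheaf.obj (op U))
    (hf : f ∈ 𝒮.deg U hU d) (x : 𝒮.toQCAlg.spec) :
    i x ∈ cb chartC U hU (gradedHomAt ι hz.graded U hU f) ↔ x ∈ 𝒮.toQCAlg.ι U hU ''ᵁ PrimeSpectrum.basicOpen f := by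
  have key : ∀ t : Spec (𝒮.presheaf.obj (op U)),
      i (𝒮.toQCAlg.ι U hU t) ∈ cb chartC U hU (gradedHomAt ι hz.graded U hU f) ↔ f ∉ t.asIdeal := by
    intro t
    have e : i (𝒮.toQCAlg.ι U hU t) = emb pC chartC U hU (Proj.awayι (𝒮h.deg U hU) (RelCone.restrictTop 𝒮h z U)
        (hz.deg_z U hU) one_pos (Spec.map (CommRingCat.ofHom (hz.awayZToBase U hU)) t)) := by
      rw [← Scheme.Hom.comp_apply, hi U hU]
      rfl
    rw [e, emb_mem_cb_iff]
    change Spec.map _ t ∈ Proj.awayι (𝒮h.deg U hU) _ (hz.deg_z U hU) one_pos ⁻¹ᵁ Proj.basicOpen (𝒮h.deg U hU) _ ↔ _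
    rw [Proj.awayι_preimage_basicOpen (𝒮h.deg U hU) (hz.deg_z U hU) one_pos
      (show gradedHomAt ι hz.graded U hU f ∈ 𝒮h.deg U hU d from hz.graded U hU d f hf) hd]
    refine not_congr (iff_of_eq (congrArg (· ∈ t.asIdeal) ?_))
    refine (hz.awayZToBase_of_val U hU _ (gradedHomAt ι hz.graded U hU f ^ 1) d ?_).trans ?_
    · exact Away.val_mk ..
    · rw [pow_one, evalOne_gradedHomAt]
  constructor
  · intro h
    have h1 : pC (i x) ∈ U := cb_le U hU _ h
    rw [← Scheme.Hom.comp_apply, coneImm_over hz hPC hi] at h1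
    obtain ⟨t, rfl⟩ := (𝒮.toQCAlg.π_preimage U hU).le h1
    exact ⟨t, (key t).1 h, rfl⟩
  · rintro ⟨t, ht, rfl⟩
    exact (key t).2 ht

include hPC hi in
theorem pointedCone_le : RelCone.pointedCone 𝒮 ≤ i ⁻¹ᵁ RelCone.pointedProjCone 𝒮 hz pC chartC := by
  intro x hx
  obtain ⟨U, hU, d, hd, f, t, hf, hft, rfl⟩ := (mem_pointedCone_iff x).1 hx
  exact (PolyCone.mem_pointed_iff hz chartC _).2
    ⟨U, hU, d, hd, f, hf, (coneImm_mem_cb_iff hz hPC hi U hU hd f hf _).2 ⟨t, hft, rfl⟩⟩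

include hi in
theorem echart_coneImm (U : Y.Opens) (hU : IsAffineOpen U) {d : ℕ} (hd : 0 < d) (f : 𝒮.presheaf.obj (op U))
    (hf : f ∈ 𝒮.deg U hU d) :
    echart U hU hd f hf ≫ (RelCone.pointedCone 𝒮).ι ≫ i =
      Spec.map (CommRingCat.ofHom (toLoc hz U hU f)) ≫
        Proj.awayι (𝒮h.deg U hU) (gradedHomAt ι hz.graded U hU f) (hz.graded U hU d f hf) hd ≫ emb pC chartC U hU := by
  let zU := RelCone.restrictTop 𝒮h z U
  let F := gradedHomAt ι hz.graded U hU f
  have hF : F ∈ 𝒮h.deg U hU d := hz.graded U hU d f hf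
  have hu : IsUnit (((algebraMap (𝒮.presheaf.obj (op U)) (Localization.Away f)).comp (hz.evalOne U hU)) (F * zU)) := by
    rw [map_mul, RingHom.comp_apply, RingHom.comp_apply, evalOne_gradedHomAt, hz.evalOne_z, map_one, mul_one]
    exact IsLocalization.Away.algebraMap_isUnit f
  let κ : Away (𝒮h.deg U hU) (F * zU) →+* Localization.Away f :=
    (IsLocalization.Away.lift (F * zU) hu).comp
      (algebraMap (Away (𝒮h.deg U hU) (F * zU)) (Localization.Away (F * zU)))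
  have h1 : κ.comp (awayMap (𝒮h.deg U hU) (hz.deg_z U hU) rfl) = toLoc hz U hU f := by
    refine RingHom.ext fun c => ?_
    simp only [κ, toLoc, RingHom.comp_apply, HomogeneousLocalization.algebraMap_apply, val_awayMap]
    refine RingHom.congr_fun (IsLocalization.ringHom_ext (Submonoid.powers F) (RingHom.ext fun a => ?_) :
      (IsLocalization.Away.lift (F * zU) hu).comp (Localization.awayLift (algebraMap _ (Localization.Away (F * zU))) F
        (isUnit_of_dvd_unit (map_dvd _ (dvd_mul_right F zU)) (IsLocalization.Away.algebraMap_isUnit (F * zU)))) = _) c.val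
    simp [Localization.awayLift, IsLocalization.Away.lift]
  have h2 : κ.comp (awayMap (𝒮h.deg U hU) hF (mul_comm F zU)) =
      (algebraMap (𝒮.presheaf.obj (op U)) (Localization.Away f)).comp (hz.awayZToBase U hU) := by
    refine RingHom.ext fun c => ?_
    simp only [κ, RelCone.IsPolyOver.awayZToBase, RingHom.comp_apply, HomogeneousLocalization.algebraMap_apply,
      val_awayMap]
    refine RingHom.congr_fun (IsLocalization.ringHom_ext (Submonoid.powers zU) (RingHom.ext fun a => ?_) :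
      (IsLocalization.Away.lift (F * zU) hu).comp (Localization.awayLift (algebraMap _ (Localization.Away (F * zU))) zU
        (isUnit_of_dvd_unit (map_dvd _ (dvd_mul_left zU F)) (IsLocalization.Away.algebraMap_isUnit (F * zU)))) =
      (algebraMap (𝒮.presheaf.obj (op U)) (Localization.Away f)).comp
        (IsLocalization.Away.lift zU (g := hz.evalOne U hU) (by rw [hz.evalOne_z]; exact isUnit_one))) c.val
    simp [Localization.awayLift, IsLocalization.Away.lift]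
  clear_value κ
  rw [echart_ι_assoc, hi U hU, ← Spec.map_comp_assoc, ← CommRingCat.ofHom_comp, ← h1, ← h2, CommRingCat.ofHom_comp,
    CommRingCat.ofHom_comp, Spec.map_comp_assoc, Spec.map_comp_assoc, Proj.SpecMap_awayMap_awayι_assoc,
    Proj.SpecMap_awayMap_awayι_assoc]
  exact congrArg (fun k => Spec.map (CommRingCat.ofHom κ) ≫ k ≫ emb pC chartC U hU)
    (awayι_congr (add_comm 1 d) _ _ _ _)

variable {r : ((RelCone.pointedProjCone 𝒮 hz pC chartC : PC.Opens) : Scheme.{u}) ⟶ P} (hr : IsRetr hz chart r)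
  {i' : ((RelCone.pointedCone 𝒮 : 𝒮.toQCAlg.spec.Opens) : Scheme.{u}) ⟶
    ((RelCone.pointedProjCone 𝒮 hz pC chartC : PC.Opens) : Scheme.{u})}
  (hi' : i' ≫ (RelCone.pointedProjCone 𝒮 hz pC chartC).ι = (RelCone.pointedCone 𝒮).ι ≫ i)

include hPC hP hi hr hi'

theorem isPullback_echart (U : Y.Opens) (hU : IsAffineOpen U) {d : ℕ} (hd : 0 < d) (f : 𝒮.presheaf.obj (op U))
    (hf : f ∈ 𝒮.deg U hU d) :
    IsPullback (Spec.map (CommRingCat.ofHom (algebraMap (Away (𝒮.deg U hU) f) (Localization.Away f))))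
      (echart U hU hd f hf) (Proj.awayι (𝒮.deg U hU) f hf hd ≫ emb p chart U hU) (i' ≫ r) := by
  have := isOpenImmersion_echart U hU hd f hf
  have hfac : echart U hU hd f hf ≫ i' = Spec.map (CommRingCat.ofHom (toLoc hz U hU f)) ≫ cchart hz U hU hd f hf := by
    rw [← cancel_mono (RelCone.pointedProjCone 𝒮 hz pC chartC).ι, Category.assoc, Category.assoc, hi', cchart_ι]
    exact echart_coneImm hz hi U hU hd f hf
  apply IsOpenImmersion.isPullback
  · rw [← Category.assoc, hfac, Category.assoc, hr U hU d hd f hf _ (cchart_ι hz U hU hd f hf),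
      ← Spec.map_comp_assoc, ← CommRingCat.ofHom_comp, toLoc_comp hz U hU f hf]
  · rw [opensRange_awayι_emb, opensRange_echart, Scheme.Hom.comp_preimage, retr_preimage_cb hz hPC hP hr U hU hd f hf,
      ← Scheme.Hom.comp_preimage, hi', Scheme.Hom.comp_preimage]
    ext x
    exact coneImm_mem_cb_iff hz hPC hi U hU hd f hf _

theorem affineRetr_of_charts {Q : MorphismProperty Scheme.{u}} [IsZariskiLocalAtTarget Q]
    (H : ∀ (U : Y.Opens) (hU : IsAffineOpen U) (d : ℕ), 0 < d → ∀ f ∈ 𝒮.deg U hU d,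
      Q (Spec.map (CommRingCat.ofHom (algebraMap (Away (𝒮.deg U hU) f) (Localization.Away f))))) : Q (i' ≫ r) := by
  refine IsZariskiLocalAtTarget.of_openCover (cbCover chart) fun j => ?_
  obtain ⟨⟨U, hU⟩, ⟨d, hd⟩, f, hf⟩ := j
  have h := (isPullback_echart hz hPC hP hi hr hi' U hU hd f hf).flip
  have hj := H U hU d hd f hf
  rw [← h.isoPullback_hom_snd] at hj
  exact (Q.cancel_left_of_respectsIso _ _).1 hj

end Groth.Agent.H11QMap.ConeRetrRel
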