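import Groth.Agent.H11QMap.PolyCone
import Groth.Agent.H11QMap.Global

/-!
# The affine cone and the part at infinity inside the projective cone, functorially
-/

set_option autoImplicit false
set_option linter.style.haveILetI false
set_option linter.unusedSectionVars false

noncomputable section

universe u

open CategoryTheory CategoryTheory.Limits AlgebraicGeometry TopologicalSpace Opposite RelProj
open HomogeneousLocalization
open scoped HomogeneousIdeal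

namespace Groth.Agent.H11QMap.PolyCone

/-- A morphism out of `𝒮[z]` over an affine open is determined by `ι` and `z`. -/
theorem ringHom_ext_poly {Y : Scheme.{u}} {𝒮 𝒮h : QCGrAlg Y} {ι : 𝒮.toQCAlg ⟶ 𝒮h.toQCAlg}
    {z : 𝒮h.presheaf.obj (op ⊤)} (hz : RelCone.IsPolyOver 𝒮 𝒮h ι z) {U : Y.Opens} (hU : IsAffineOpen U)
    {R : Type u} [CommRing R] (f g : 𝒮h.presheaf.obj (op U) →+* R)
    (hι : ∀ x, f ((ι.hom.app (op U)).hom x) = g ((ι.hom.app (op U)).hom x))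
    (hz' : f (RelCone.restrictTop 𝒮h z U) = g (RelCone.restrictTop 𝒮h z U)) : f = g := by
  refine RingHom.ext fun b => ?_
  obtain ⟨p, rfl⟩ := (hz.bij U hU).2 b
  have h : f.comp (Polynomial.eval₂RingHom (ι.hom.app (op U)).hom (RelCone.restrictTop 𝒮h z U)) =
      g.comp (Polynomial.eval₂RingHom (ι.hom.app (op U)).hom (RelCone.restrictTop 𝒮h z U)) := by
    refine Polynomial.ringHom_ext (fun x => ?_) ?_
    · simpa using hι x
    · simpa using hz'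
  exact RingHom.congr_fun h p

variable {Y Y' : Scheme.{u}} {q : Y' ⟶ Y} {𝒮 𝒮h : QCGrAlg Y} {𝒮' 𝒮h' : QCGrAlg Y'}
  {ι : 𝒮.toQCAlg ⟶ 𝒮h.toQCAlg} {z : 𝒮h.presheaf.obj (op ⊤)} (hz : RelCone.IsPolyOver 𝒮 𝒮h ι z)
  {ι' : 𝒮'.toQCAlg ⟶ 𝒮h'.toQCAlg} {z' : 𝒮h'.presheaf.obj (op ⊤)} (hz' : RelCone.IsPolyOver 𝒮' 𝒮h' ι' z')
  (u : QGrHom q 𝒮 𝒮') (uh : QGrHom q 𝒮h 𝒮h')
  (huh : ∀ U : Y.Opens, ι.hom.app (op U) ≫ uh.app U = u.app U ≫ ι'.hom.app (op (q ⁻¹ᵁ U)))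
  (huhz : (uh.app ⊤).hom z = RelCone.restrictTop 𝒮h' z' (q ⁻¹ᵁ ⊤))

include huh in
theorem appLE_ι (U : Y.Opens) (U' : Y'.Opens) (hle : U' ≤ q ⁻¹ᵁ U) (x : 𝒮.presheaf.obj (op U)) :
    (uh.appLE U U' hle).hom ((ι.hom.app (op U)).hom x) =
      (ι'.hom.app (op U')).hom ((u.appLE U U' hle).hom x) := by
  have h := ConcreteCategory.congr_hom (huh U) x
  change (𝒮h'.presheaf.map (homOfLE hle).op).hom ((uh.app U).hom ((ι.hom.app (op U)).hom x)) = _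
  rw [show (uh.app U).hom ((ι.hom.app (op U)).hom x) = (ι'.hom.app (op (q ⁻¹ᵁ U))).hom ((u.app U).hom x) from h]
  exact (ConcreteCategory.congr_hom (ι'.hom.naturality (homOfLE hle).op) ((u.app U).hom x)).symm

include huh huhz in
/-- `evalOne` commutes with the extended morphism. -/
theorem evalOne_comp (U : Y.Opens) (hU : IsAffineOpen U) (U' : Y'.Opens) (hU' : IsAffineOpen U')
    (hle : U' ≤ q ⁻¹ᵁ U) :
    (hz'.evalOne U' hU').comp (uh.appLE U U' hle).hom = (u.appLE U U' hle).hom.comp (hz.evalOne U hU) := by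
  refine ringHom_ext_poly hz hU _ _ (fun x => ?_) ?_
  · rw [RingHom.comp_apply, RingHom.comp_apply, appLE_ι u uh huh, hz'.evalOne_ι, hz.evalOne_ι]
  · rw [RingHom.comp_apply, RingHom.comp_apply, uh_z uh huhz, hz'.evalOne_z, hz.evalOne_z, map_one]

variable (θ : 𝒮h.toQCAlg ⟶ 𝒮.toQCAlg) (θ' : 𝒮h'.toQCAlg ⟶ 𝒮'.toQCAlg)

include huh huhz hz in
/-- The retractions killing `z` commute with the extended morphism. -/
theorem retraction_comm (hθι : ι ≫ θ = 𝟙 _) (hθz : (θ.hom.app (op ⊤)).hom z = 0) (hθι' : ι' ≫ θ' = 𝟙 _)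
    (hθz' : (θ'.hom.app (op ⊤)).hom z' = 0) (U : Y.Opens) :
    uh.app U ≫ θ'.hom.app (op (q ⁻¹ᵁ U)) = θ.hom.app (op U) ≫ u.app U := by
  have hι : ∀ (V : Y.Opens) (x : 𝒮.presheaf.obj (op V)),
      (θ.hom.app (op V)).hom ((ι.hom.app (op V)).hom x) = x := fun V x =>
    congr($(congrArg (fun k : 𝒮.toQCAlg ⟶ 𝒮.toQCAlg => k.hom.app (op V)) hθι) x)
  have hι' : ∀ (V : Y'.Opens) (x : 𝒮'.presheaf.obj (op V)),
      (θ'.hom.app (op V)).hom ((ι'.hom.app (op V)).hom x) = x := fun V x =>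
    congr($(congrArg (fun k : 𝒮'.toQCAlg ⟶ 𝒮'.toQCAlg => k.hom.app (op V)) hθι') x)
  have hzV : ∀ V : Y.Opens, (θ.hom.app (op V)).hom (RelCone.restrictTop 𝒮h z V) = 0 := fun V => by
    refine (ConcreteCategory.congr_hom (θ.hom.naturality (homOfLE (le_top : V ≤ ⊤)).op) z).trans ?_
    rw [CommRingCat.comp_apply, hθz]
    exact map_zero _
  have hzV' : ∀ V : Y'.Opens, (θ'.hom.app (op V)).hom (RelCone.restrictTop 𝒮h' z' V) = 0 := fun V => by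
    refine (ConcreteCategory.congr_hom (θ'.hom.naturality (homOfLE (le_top : V ≤ ⊤)).op) z').trans ?_
    rw [CommRingCat.comp_apply, hθz']
    exact map_zero _
  have key : ∀ (V : Y.Opens) (hV : IsAffineOpen V) (W : Y'.Opens) (hle : W ≤ q ⁻¹ᵁ V)
      (x : 𝒮h.presheaf.obj (op V)),
      (θ'.hom.app (op W)).hom ((uh.appLE V W hle).hom x) = (u.appLE V W hle).hom ((θ.hom.app (op V)).hom x) := by
    intro V hV W hle x
    refine RingHom.congr_fun (ringHom_ext_poly hz hV ((θ'.hom.app (op W)).hom.comp (uh.appLE V W hle).hom)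
      ((u.appLE V W hle).hom.comp (θ.hom.app (op V)).hom) (fun a => ?_) ?_) x
    · rw [RingHom.comp_apply, RingHom.comp_apply, appLE_ι u uh huh, hι', hι]
    · rw [RingHom.comp_apply, RingHom.comp_apply, uh_z uh huhz, hzV', hzV, map_zero]
  refine CommRingCat.hom_ext (RingHom.ext fun x => H11Sym.eq_of_affine 𝒮'.toQCAlg fun W hW i => ?_)
  -- refine to affine opens of the source
  refine TopCat.Sheaf.eq_of_locally_eq' (⟨𝒮'.presheaf, 𝒮'.isSheaf⟩ : TopCat.Sheaf CommRingCat.{u} Y'.carrier)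
    (fun V : {VW : Y.affineOpens × Y'.affineOpens // VW.1.1 ≤ U ∧ VW.2.1 ≤ q ⁻¹ᵁ VW.1.1 ∧ VW.2.1 ≤ W} => V.1.2.1)
    W (fun V => homOfLE V.2.2.2) (fun w hw => ?_) _ _ fun V => ?_
  · obtain ⟨V₀, hV₀, hwV, hVU⟩ := exists_isAffineOpen_mem_and_subset (U := U) (x := q w) (i hw)
    obtain ⟨W₀, hW₀, hwW, hWle⟩ := exists_isAffineOpen_mem_and_subset (U := q ⁻¹ᵁ V₀ ⊓ W) (x := w) ⟨hwV, hw⟩
    exact Opens.mem_iSup.2 ⟨⟨(⟨V₀, hV₀⟩, ⟨W₀, hW₀⟩), hVU, fun t ht => (hWle ht).1, fun t ht => (hWle ht).2⟩, hwW⟩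
  · obtain ⟨⟨⟨V₀, hV₀⟩, ⟨W₀, hW₀⟩⟩, hVU, hWV, hWW⟩ := V
    change H11Sym.ares 𝒮'.toQCAlg hWW (H11Sym.ares 𝒮'.toQCAlg i _) = H11Sym.ares 𝒮'.toQCAlg hWW (H11Sym.ares 𝒮'.toQCAlg i _)
    rw [H11Sym.ares_ares, H11Sym.ares_ares]
    have k := key V₀ hV₀ W₀ hWV ((𝒮h.presheaf.map (homOfLE hVU).op).hom x)
    refine Eq.trans ?_ (k.trans ?_)
    · refine (ConcreteCategory.congr_hom (θ'.hom.naturality (homOfLE (hWW.trans i)).op) ((uh.app U).hom x)).symm.trans ?_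
      refine congrArg (θ'.hom.app (op W₀)).hom ?_
      exact (ConcreteCategory.congr_hom (uh.map_appLE hVU hWV) x).symm
    · have e : (θ.hom.app (op V₀)).hom ((𝒮h.presheaf.map (homOfLE hVU).op).hom x) =
          (𝒮.presheaf.map (homOfLE hVU).op).hom ((θ.hom.app (op U)).hom x) :=
        ConcreteCategory.congr_hom (θ.hom.naturality (homOfLE hVU).op) x
      rw [e]
      exact ConcreteCategory.congr_hom (u.map_appLE hVU hWV) ((θ.hom.app (op U)).hom x)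

variable {PC PC' : Scheme.{u}} {pC : PC ⟶ Y}
  {chartC : ∀ (U : Y.Opens) (hU : IsAffineOpen U), (((pC ⁻¹ᵁ U : PC.Opens) : Scheme.{u}) ≅ Proj (𝒮h.deg U hU))}
  (hC : IsRelProj 𝒮h pC chartC)
  {pC' : PC' ⟶ Y'}
  {chartC' : ∀ (U : Y'.Opens) (hU : IsAffineOpen U), (((pC' ⁻¹ᵁ U : PC'.Opens) : Scheme.{u}) ≅ Proj (𝒮h'.deg U hU))}
  (hC' : IsRelProj 𝒮h' pC' chartC')
  {Φh : (domQ uh pC' chartC' : Scheme.{u}) ⟶ PC}
  (hΦh : IsProjQMapOn uh pC chartC pC' chartC' (domQ uh pC' chartC') Φh)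

include huh huhz hΦh in
/-- The square of the affine cones commutes on a chart. -/
theorem coneImm_chart {Φc : 𝒮'.toQCAlg.spec ⟶ 𝒮.toQCAlg.spec} (hΦc : RelSpec.IsSpecQMap u.toQHom Φc)
    {i : 𝒮.toQCAlg.spec ⟶ PC} (hi : RelCone.IsConeImm 𝒮 hz pC chartC i)
    {i' : 𝒮'.toQCAlg.spec ⟶ PC'} (hi' : RelCone.IsConeImm 𝒮' hz' pC' chartC' i')
    (U : Y.Opens) (hU : IsAffineOpen U) (U' : Y'.Opens) (hU' : IsAffineOpen U') (hle : U' ≤ q ⁻¹ᵁ U) :
    Set.range (𝒮'.toQCAlg.ι U' hU' ≫ i').base ⊆ ((domQ uh pC' chartC' : PC'.Opens) : Set PC') ∧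
      ∀ a : Spec (𝒮'.presheaf.obj (op U')) ⟶ (domQ uh pC' chartC' : Scheme.{u}),
        a ≫ (domQ uh pC' chartC').ι = 𝒮'.toQCAlg.ι U' hU' ≫ i' →
          a ≫ Φh = 𝒮'.toQCAlg.ι U' hU' ≫ Φc ≫ i := by
  let zU := RelCone.restrictTop 𝒮h z U
  have hg : uh.gradedAt U hU U' hU' hle zU = RelCone.restrictTop 𝒮h' z' U' := uh_z uh huhz U U' hle
  -- transport to the standard chart of `Proj(uh)`
  have key : ∀ (y : 𝒮h'.presheaf.obj (op U')) (e : uh.gradedAt U hU U' hU' hle zU = y) (hy : y ∈ 𝒮h'.deg U' hU' 1)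
      (ρ : Away (𝒮h'.deg U' hU') y →+* 𝒮'.presheaf.obj (op U'))
      (hρ : ∀ (c : Away (𝒮h'.deg U' hU') y) (x : 𝒮h'.presheaf.obj (op U')) (k : ℕ),
        c.val = Localization.mk x ⟨y ^ k, pow_mem (Submonoid.mem_powers _) k⟩ → ρ c = hz'.evalOne U' hU' x),
      𝒮'.toQCAlg.ι U' hU' ≫ i' = Spec.map (CommRingCat.ofHom ρ) ≫ Proj.awayι (𝒮h'.deg U' hU') y hy one_pos ≫
        emb pC' chartC' U' hU' →
      Set.range (𝒮'.toQCAlg.ι U' hU' ≫ i').base ⊆ ((domQ uh pC' chartC' : PC'.Opens) : Set PC') ∧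
      ∀ a : Spec (𝒮'.presheaf.obj (op U')) ⟶ (domQ uh pC' chartC' : Scheme.{u}),
        a ≫ (domQ uh pC' chartC').ι = 𝒮'.toQCAlg.ι U' hU' ≫ i' →
          a ≫ Φh = 𝒮'.toQCAlg.ι U' hU' ≫ Φc ≫ i := by
    rintro y rfl hy ρ hρ heq
    let j : Idx uh := ⟨⟨U, hU⟩, ⟨U', hU'⟩, hle, 1, one_pos, zU, hz.deg_z U hU⟩
    have heq' : 𝒮'.toQCAlg.ι U' hU' ≫ i' =
        (Spec.map (CommRingCat.ofHom ρ) ≫ lchart uh chartC' j) ≫ (domQ uh pC' chartC').ι :=
      heq.trans (((congrArg (_ ≫ ·) (lchart_ι uh chartC' j)).symm).trans (Category.assoc _ _ _).symm)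
    refine ⟨?_, fun a ha => ?_⟩
    · rintro _ ⟨t, rfl⟩
      rw [heq', Scheme.Hom.comp_apply]
      exact ((Spec.map (CommRingCat.ofHom ρ) ≫ lchart uh chartC' j) t).2
    · rw [heq', cancel_mono] at ha
      rw [ha, Category.assoc, (isProjQMapOn_iff uh chartC chartC' Φh).1 hΦh j, reassoc_of% (hΦc U hU U' hU' hle),
        hi U hU]
      change Spec.map (CommRingCat.ofHom ρ) ≫ Spec.map (CommRingCat.ofHom (Away.map (uh.gradedAt U hU U' hU' hle) zU)) ≫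
        Proj.awayι (𝒮h.deg U hU) zU _ _ ≫ emb pC chartC U hU = _
      simp only [← Spec.map_comp_assoc]
      refine congrArg (fun k => k ≫ Proj.awayι (𝒮h.deg U hU) zU (hz.deg_z U hU) one_pos ≫ emb pC chartC U hU) ?_
      refine congrArg Spec.map (CommRingCat.hom_ext (RingHom.ext fun c => ?_))
      obtain ⟨k, x, hx, rfl⟩ := Away.mk_surjective (𝒮h.deg U hU) (hz.deg_z U hU) c
      change ρ (Away.map (uh.gradedAt U hU U' hU' hle) zU (Away.mk (𝒮h.deg U hU) (hz.deg_z U hU) k x hx)) =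
        (u.appLE U U' hle).hom (hz.awayZToBase U hU (Away.mk (𝒮h.deg U hU) (hz.deg_z U hU) k x hx))
      rw [Away.map_mk, hρ _ (uh.gradedAt U hU U' hU' hle x) k (Away.val_mk ..), hz.awayZToBase_of_val U hU _ x k (Away.val_mk ..)]
      exact RingHom.congr_fun (evalOne_comp hz hz' u uh huh huhz U hU U' hU' hle) x
  exact key _ hg (hz'.deg_z U' hU') (hz'.awayZToBase U' hU') (hz'.awayZToBase_of_val U' hU') (hi' U' hU')

end Groth.Agent.H11QMap.PolyCone
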