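import Groth.Agent.H11QMap.ConeAffineRel
import Groth.Agent.H11QMap.PolyConeImm
import Groth.Agent.H11Proj.AwayOne
import Mathlib.AlgebraicGeometry.IdealSheaf.Basic

/-!
# The open immersion of the affine cone into the projective cone
-/

set_option autoImplicit false
set_option linter.style.haveILetI false
set_option linter.unusedSectionVars false

noncomputable section

universe u

open CategoryTheory CategoryTheory.Limits AlgebraicGeometry TopologicalSpace Opposite RelProj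
open HomogeneousLocalization
open scoped HomogeneousIdeal

namespace Groth.Agent.H11QMap.ConeImm

/-- `A_(f) → A_(fg)` is injective when `g` is a non-zero-divisor. -/
theorem awayMap_injective {A σ : Type u} [CommRing A] [SetLike σ A] [AddSubgroupClass σ A] (𝒜 : ℕ → σ)
    [GradedRing 𝒜] {d e : ℕ} {f g x : A} (hf : f ∈ 𝒜 d) (hg : g ∈ 𝒜 e) (hx : x = f * g)
    (hreg : ∀ a : A, a * g = 0 → a = 0) : Function.Injective (awayMap 𝒜 hg hx (f := f)) := by
  rw [injective_iff_map_eq_zero]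
  intro c hc
  obtain ⟨n, a, ha, rfl⟩ := Away.mk_surjective 𝒜 hf c
  have hc' := congrArg HomogeneousLocalization.val hc
  rw [awayMap_mk, Away.val_mk, val_zero, Localization.mk_eq_mk', IsLocalization.mk'_eq_zero_iff] at hc'
  obtain ⟨⟨_, k, rfl⟩, hk⟩ := hc'
  change x ^ k * (a * g ^ n) = 0 at hk
  have hk' : f ^ k * a * g ^ (k + n) = 0 := by
    rw [← hk, hx, mul_pow, pow_add]
    ring
  have hpow : ∀ (l : ℕ) (b : A), b * g ^ l = 0 → b = 0 := by
    intro l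
    induction l with
    | zero => intro b hb; simpa using hb
    | succ l ih => intro b hb; exact ih b (hreg _ (by rw [mul_assoc, ← pow_succ]; exact hb))
  apply val_injective
  rw [Away.val_mk, val_zero, Localization.mk_eq_mk', IsLocalization.mk'_eq_zero_iff]
  exact ⟨⟨f ^ k, k, rfl⟩, hpow _ _ hk'⟩

variable {Y PC : Scheme.{u}} {𝒮 𝒮h : QCGrAlg Y} {ι : 𝒮.toQCAlg ⟶ 𝒮h.toQCAlg} {z : 𝒮h.presheaf.obj (op ⊤)}
  (hz : RelCone.IsPolyOver 𝒮 𝒮h ι z)

include hz in
theorem mul_z_eq_zero (U : Y.Opens) (hU : IsAffineOpen U) (b : 𝒮h.presheaf.obj (op U))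
    (h : b * RelCone.restrictTop 𝒮h z U = 0) : b = 0 := by
  have e := congrArg (hz.polyEquiv U hU).symm h
  have ez : (hz.polyEquiv U hU).symm (RelCone.restrictTop 𝒮h z U) = Polynomial.X := by
    rw [RingEquiv.symm_apply_eq, hz.polyEquiv_apply, Polynomial.eval₂_X]
  rw [map_mul, map_zero, ez] at e
  have e' := Polynomial.isRegular_X.right (a₁ := (hz.polyEquiv U hU).symm b) (a₂ := 0)
  refine (map_eq_zero_iff _ (hz.polyEquiv U hU).symm.injective).1 (e' ?_)
  simp [e]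

theorem awayZToBase_awayProjHom (U : Y.Opens) (hU : IsAffineOpen U) (b : 𝒮h.presheaf.obj (op U)) :
    hz.awayZToBase U hU (H11Proj.awayProjHom (𝒮h.deg U hU) (hz.deg_z U hU) b) = hz.evalOne U hU b := by
  refine H11Proj.eq_on_homogeneous (𝒮h.deg U hU)
    (g₁ := ((hz.awayZToBase U hU).comp (H11Proj.awayProjHom (𝒮h.deg U hU) (hz.deg_z U hU))).toAddMonoidHom)
    (g₂ := (hz.evalOne U hU).toAddMonoidHom) (fun n c hc => ?_) b
  have hc' : c ∈ 𝒮h.deg U hU (n • 1) := by rwa [smul_eq_mul, mul_one]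
  change hz.awayZToBase U hU (H11Proj.awayProjHom (𝒮h.deg U hU) (hz.deg_z U hU) c) = hz.evalOne U hU c
  rw [H11Proj.awayProjHom_mk (𝒮h.deg U hU) (hz.deg_z U hU) hc']
  exact hz.awayZToBase_of_val U hU _ c n (Away.val_mk ..)

theorem awayProjHom_eq (U : Y.Opens) (hU : IsAffineOpen U) (b : 𝒮h.presheaf.obj (op U)) :
    H11Proj.awayProjHom (𝒮h.deg U hU) (hz.deg_z U hU) b =
      H11Proj.awayProjHom (𝒮h.deg U hU) (hz.deg_z U hU) ((ι.hom.app (op U)).hom (hz.evalOne U hU b)) := by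
  refine RingHom.congr_fun (PolyCone.ringHom_ext_poly hz hU (H11Proj.awayProjHom (𝒮h.deg U hU) (hz.deg_z U hU))
    (((H11Proj.awayProjHom (𝒮h.deg U hU) (hz.deg_z U hU)).comp (ι.hom.app (op U)).hom).comp (hz.evalOne U hU))
    (fun a => ?_) ?_) b
  · rw [RingHom.comp_apply, RingHom.comp_apply, hz.evalOne_ι]
  · rw [RingHom.comp_apply, RingHom.comp_apply, hz.evalOne_z, map_one, map_one, H11Proj.awayProjHom_self]

theorem awayZToBase_bijective (U : Y.Opens) (hU : IsAffineOpen U) : Function.Bijective (hz.awayZToBase U hU) := by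
  let φ := (H11Proj.awayProjHom (𝒮h.deg U hU) (hz.deg_z U hU)).comp (ι.hom.app (op U)).hom
  refine ⟨Function.LeftInverse.injective (g := φ) fun c => ?_,
    fun a => ⟨φ a, (awayZToBase_awayProjHom hz U hU _).trans (hz.evalOne_ι U hU a)⟩⟩
  obtain ⟨n, b, hb, rfl⟩ := Away.mk_surjective (𝒮h.deg U hU) (hz.deg_z U hU) c
  rw [← H11Proj.awayProjHom_mk (𝒮h.deg U hU) (hz.deg_z U hU) hb, awayZToBase_awayProjHom]
  exact (awayProjHom_eq hz U hU b).symm

/-- Any homomorphism with the values of `awayZToBase` on `ι x / z ^ k` is `awayZToBase`. -/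
theorem eq_awayZToBase (U : Y.Opens) (hU : IsAffineOpen U)
    (θ : Away (𝒮h.deg U hU) (RelCone.restrictTop 𝒮h z U) →+* 𝒮.presheaf.obj (op U))
    (hθ : ∀ (q : Away (𝒮h.deg U hU) (RelCone.restrictTop 𝒮h z U)) (k : ℕ) (x : 𝒮.presheaf.obj (op U)),
      x ∈ 𝒮.deg U hU k → q.val = Localization.mk ((ι.hom.app (op U)).hom x)
          ⟨RelCone.restrictTop 𝒮h z U ^ k, pow_mem (Submonoid.mem_powers _) k⟩ → θ q = x) :
    θ = hz.awayZToBase U hU := by
  refine RingHom.ext fun c => ?_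
  obtain ⟨n, b, hb, rfl⟩ := Away.mk_surjective (𝒮h.deg U hU) (hz.deg_z U hU) c
  rw [← H11Proj.awayProjHom_mk (𝒮h.deg U hU) (hz.deg_z U hU) hb, awayZToBase_awayProjHom, awayProjHom_eq hz U hU b]
  refine H11Proj.eq_on_homogeneous (𝒮.deg U hU)
    (g₁ := ((θ.comp (H11Proj.awayProjHom (𝒮h.deg U hU) (hz.deg_z U hU))).comp (ι.hom.app (op U)).hom).toAddMonoidHom)
    (g₂ := AddMonoidHom.id _) (fun k x hx => ?_) _
  have hx' : (ι.hom.app (op U)).hom x ∈ 𝒮h.deg U hU (k • 1) := by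
    rw [smul_eq_mul, mul_one]; exact hz.graded U hU k x hx
  change θ (H11Proj.awayProjHom (𝒮h.deg U hU) (hz.deg_z U hU) ((ι.hom.app (op U)).hom x)) = x
  rw [H11Proj.awayProjHom_mk (𝒮h.deg U hU) (hz.deg_z U hU) hx']
  exact hθ _ k x hx (Away.val_mk ..)

variable {pC : PC ⟶ Y}
  {chartC : ∀ (U : Y.Opens) (hU : IsAffineOpen U), (((pC ⁻¹ᵁ U : PC.Opens) : Scheme.{u}) ≅ Proj (𝒮h.deg U hU))}
  (hPC : IsRelProj 𝒮h pC chartC)

include hPC in
/-- The chart of the immersion is compatible with restriction to a basic open. -/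
theorem chart_res (U : Y.Opens) (hU : IsAffineOpen U) (r : Γ(Y, U)) :
    Spec.map (𝒮.presheaf.map (homOfLE (Y.basicOpen_le r)).op) ≫ Spec.map (CommRingCat.ofHom (hz.awayZToBase U hU)) ≫
        Proj.awayι (𝒮h.deg U hU) (RelCone.restrictTop 𝒮h z U) (hz.deg_z U hU) one_pos ≫ emb pC chartC U hU =
      Spec.map (CommRingCat.ofHom (hz.awayZToBase (Y.basicOpen r) (hU.basicOpen r))) ≫
        Proj.awayι (𝒮h.deg (Y.basicOpen r) (hU.basicOpen r)) (RelCone.restrictTop 𝒮h z (Y.basicOpen r))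
          (hz.deg_z (Y.basicOpen r) (hU.basicOpen r)) one_pos ≫ emb pC chartC (Y.basicOpen r) (hU.basicOpen r) := by
  let V := Y.basicOpen r
  let hV := hU.basicOpen r
  let res := 𝒮h.res hU hV (Y.basicOpen_le r)
  let zU := RelCone.restrictTop 𝒮h z U
  have e : res zU = RelCone.restrictTop 𝒮h z V := res_trans (𝒮 := 𝒮h) _ _ z
  have hev : (hz.evalOne V hV).comp (𝒮h.presheaf.map (homOfLE (Y.basicOpen_le r)).op).hom =
      (𝒮.presheaf.map (homOfLE (Y.basicOpen_le r)).op).hom.comp (hz.evalOne U hU) := by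
    refine PolyCone.ringHom_ext_poly hz hU _ _ (fun a => ?_) ?_
    · rw [RingHom.comp_apply, RingHom.comp_apply, hz.evalOne_ι]
      refine Eq.trans (congrArg (hz.evalOne V hV) ?_) (hz.evalOne_ι V hV _)
      exact (ConcreteCategory.congr_hom (ι.hom.naturality (homOfLE (Y.basicOpen_le r)).op) a).symm
    · rw [RingHom.comp_apply, RingHom.comp_apply, hz.evalOne_z, map_one]
      exact (congrArg (hz.evalOne V hV) e).trans (hz.evalOne_z V hV)
  have key : ∀ (y : 𝒮h.presheaf.obj (op V)) (_ : res zU = y) (hy : y ∈ 𝒮h.deg V hV 1)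
      (ρ : Away (𝒮h.deg V hV) y →+* 𝒮.presheaf.obj (op V))
      (_ : ∀ (c : Away (𝒮h.deg V hV) y) (x : 𝒮h.presheaf.obj (op V)) (k : ℕ),
        c.val = Localization.mk x ⟨y ^ k, pow_mem (Submonoid.mem_powers _) k⟩ → ρ c = hz.evalOne V hV x),
      Spec.map (𝒮.presheaf.map (homOfLE (Y.basicOpen_le r)).op) ≫ Spec.map (CommRingCat.ofHom (hz.awayZToBase U hU)) ≫
          Proj.awayι (𝒮h.deg U hU) zU (hz.deg_z U hU) one_pos ≫ emb pC chartC U hU =
        Spec.map (CommRingCat.ofHom ρ) ≫ Proj.awayι (𝒮h.deg V hV) y hy one_pos ≫ emb pC chartC V hV := by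
    rintro y rfl hy ρ hρ
    rw [← map_res_emb hPC U hU r]
    refine Eq.trans ?_ (congrArg (Spec.map (CommRingCat.ofHom ρ) ≫ ·) ((congrArg (· ≫ emb pC chartC U hU)
      (Proj.awayι_comp_map res (𝒮h.irrelevant_le_map U hU r) one_pos zU (hz.deg_z U hU)).symm).trans
        (Category.assoc _ _ _)))
    rw [← Spec.map_comp_assoc, Category.assoc, ← Spec.map_comp_assoc]
    refine congrArg (fun k => Spec.map k ≫ Proj.awayι (𝒮h.deg U hU) zU (hz.deg_z U hU) one_pos ≫ emb pC chartC U hU)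
      (CommRingCat.hom_ext (RingHom.ext fun c => ?_))
    obtain ⟨k, x, hx, rfl⟩ := Away.mk_surjective (𝒮h.deg U hU) (hz.deg_z U hU) c
    change (𝒮.presheaf.map (homOfLE (Y.basicOpen_le r)).op).hom
        (hz.awayZToBase U hU (Away.mk (𝒮h.deg U hU) (hz.deg_z U hU) k x hx)) =
      ρ (Away.map res zU (Away.mk (𝒮h.deg U hU) (hz.deg_z U hU) k x hx))
    rw [Away.map_mk res zU (hz.deg_z U hU) k x hx, hρ _ (res x) k (Away.val_mk ..),
      hz.awayZToBase_of_val U hU _ x k (Away.val_mk ..)]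
    exact (RingHom.congr_fun hev x).symm
  exact key _ e _ _ (hz.awayZToBase_of_val V hV)

include hPC in
theorem exists_coneImm : ∃! i : 𝒮.toQCAlg.spec ⟶ PC, RelCone.IsConeImm 𝒮 hz pC chartC i := by
  let leg : ∀ U : Y.AffineZariskiSite, Spec (𝒮.presheaf.obj (op U.1)) ⟶ PC := fun U =>
    Spec.map (CommRingCat.ofHom (hz.awayZToBase U.1 U.2)) ≫
      Proj.awayι (𝒮h.deg U.1 U.2) (RelCone.restrictTop 𝒮h z U.1) (hz.deg_z U.1 U.2) one_pos ≫ emb pC chartC U.1 U.2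
  have hleg : ∀ {V U : Y.AffineZariskiSite} (j : V ⟶ U),
      Spec.map (𝒮.presheaf.map (homOfLE (Scheme.AffineZariskiSite.toOpens_mono j.le)).op) ≫ leg U = leg V := by
    intro V U j
    obtain ⟨r, hr⟩ := j.le
    obtain ⟨V, hV⟩ := V
    change Y.basicOpen r = V at hr
    subst hr
    exact chart_res hz hPC U.1 U.2 r
  let c : Cocone 𝒮.toQCAlg.glueData.functor := ⟨PC, ⟨fun U => leg U, fun V U j => (hleg j).trans (Category.comp_id _).symm⟩⟩
  refine ⟨colimit.desc _ c, fun U hU => colimit.ι_desc c ⟨U, hU⟩, fun i hi => ?_⟩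
  apply colimit.hom_ext
  intro U
  exact (hi U.1 U.2).trans (colimit.ι_desc c U).symm

variable {i : 𝒮.toQCAlg.spec ⟶ PC} (hi : RelCone.IsConeImm 𝒮 hz pC chartC i)

theorem isIso_specMap_awayZ (U : Y.Opens) (hU : IsAffineOpen U) :
    IsIso (Spec.map (CommRingCat.ofHom (hz.awayZToBase U hU))) := by
  have : IsIso (CommRingCat.ofHom (hz.awayZToBase U hU)) :=
    (ConcreteCategory.isIso_iff_bijective _).2 (awayZToBase_bijective hz U hU)
  infer_instance

include hi in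
theorem isPullback_ι (hPC : IsRelProj 𝒮h pC chartC) (U : Y.Opens) (hU : IsAffineOpen U) :
    IsPullback (Spec.map (CommRingCat.ofHom (hz.awayZToBase U hU)) ≫
        Proj.awayι (𝒮h.deg U hU) (RelCone.restrictTop 𝒮h z U) (hz.deg_z U hU) one_pos)
      (𝒮.toQCAlg.ι U hU) (emb pC chartC U hU) i := by
  apply IsOpenImmersion.isPullback
  · rw [hi U hU, Category.assoc]
  · rw [opensRange_emb, ← 𝒮.toQCAlg.π_preimage U hU, ← Scheme.Hom.comp_preimage,
      ConeRetrRel.coneImm_over hz hPC hi]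

include hi in
theorem of_charts (hPC : IsRelProj 𝒮h pC chartC) {Q : MorphismProperty Scheme.{u}} [IsZariskiLocalAtTarget Q]
    (H : ∀ (U : Y.Opens) (hU : IsAffineOpen U), Q (Spec.map (CommRingCat.ofHom (hz.awayZToBase U hU)) ≫
      Proj.awayι (𝒮h.deg U hU) (RelCone.restrictTop 𝒮h z U) (hz.deg_z U hU) one_pos)) : Q i := by
  let 𝒰 : PC.OpenCover := .mkOfCovers Y.affineOpens (fun U => Proj (𝒮h.deg U.1 U.2))
    (fun U => emb pC chartC U.1 U.2)
    (fun x => by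
      obtain ⟨U, hU⟩ := Opens.mem_iSup.1 ((iSup_affineOpens_eq_top Y).ge (Set.mem_univ (pC x)))
      obtain ⟨w, hw⟩ := exists_emb_eq (chart := chartC) U.2 hU
      exact ⟨U, w, hw⟩)
    (fun U => inferInstance)
  refine IsZariskiLocalAtTarget.of_openCover 𝒰 fun U => ?_
  have h := (isPullback_ι hz hi hPC U.1 U.2).flip
  have hj := H U.1 U.2
  rw [← h.isoPullback_hom_snd] at hj
  exact (Q.cancel_left_of_respectsIso _ _).1 hj

include hi in
theorem isOpenImmersion (hPC : IsRelProj 𝒮h pC chartC) : IsOpenImmersion i :=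
  of_charts hz hi hPC fun U hU => by
    have := isIso_specMap_awayZ hz U hU
    infer_instance

include hi in
theorem isAffineHom (hPC : IsRelProj 𝒮h pC chartC) : IsAffineHom i :=
  of_charts hz hi hPC fun U hU => by
    have : IsAffineHom (Proj.awayι (𝒮h.deg U hU) (RelCone.restrictTop 𝒮h z U) (hz.deg_z U hU) one_pos) :=
      IsAffineHom.of_comp _ (Proj.toSpecZero (𝒮h.deg U hU))
    infer_instance

include hi in
theorem range_coneImm (hPC : IsRelProj 𝒮h pC chartC) (x : PC) :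
    x ∈ Set.range i.base ↔ ∃ (U : Y.Opens) (hU : IsAffineOpen U),
      x ∈ cb chartC U hU (RelCone.restrictTop 𝒮h z U) := by
  constructor
  · rintro ⟨w, rfl⟩
    obtain ⟨U, hU⟩ := Opens.mem_iSup.1 ((iSup_affineOpens_eq_top Y).ge (Set.mem_univ (𝒮.toQCAlg.π w)))
    obtain ⟨t, rfl⟩ := (𝒮.toQCAlg.π_preimage U.1 U.2).le hU
    refine ⟨U.1, U.2, ?_⟩
    rw [← opensRange_awayι_emb U.1 U.2 one_pos _ (hz.deg_z U.1 U.2)]
    refine ⟨Spec.map (CommRingCat.ofHom (hz.awayZToBase U.1 U.2)) t, ?_⟩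
    rw [← Scheme.Hom.comp_apply, ← hi U.1 U.2]
    rfl
  · rintro ⟨U, hU, hx⟩
    rw [← opensRange_awayι_emb U hU one_pos _ (hz.deg_z U hU)] at hx
    obtain ⟨y, rfl⟩ := hx
    have := isIso_specMap_awayZ hz U hU
    obtain ⟨t, rfl⟩ := (Spec.map (CommRingCat.ofHom (hz.awayZToBase U hU))).surjective y
    refine ⟨𝒮.toQCAlg.ι U hU t, ?_⟩
    rw [← Scheme.Hom.comp_apply, hi U hU]
    rfl

include hi in
theorem mem_cb_z_iff (hPC : IsRelProj 𝒮h pC chartC) (x : PC) (U : Y.Opens) (hU : IsAffineOpen U) (hx : pC x ∈ U) :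
    x ∈ Set.range i.base ↔ x ∈ cb chartC U hU (RelCone.restrictTop 𝒮h z U) := by
  refine ⟨?_, fun h => (range_coneImm hz hi hPC x).2 ⟨U, hU, h⟩⟩
  rintro ⟨w, rfl⟩
  rw [← Scheme.Hom.comp_apply, ConeRetrRel.coneImm_over hz hPC hi] at hx
  obtain ⟨t, rfl⟩ := (𝒮.toQCAlg.π_preimage U hU).le hx
  rw [← opensRange_awayι_emb U hU one_pos _ (hz.deg_z U hU)]
  refine ⟨Spec.map (CommRingCat.ofHom (hz.awayZToBase U hU)) t, ?_⟩
  rw [← Scheme.Hom.comp_apply, ← hi U hU]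
  rfl

theorem appLE_injective_of_specMap {R T : CommRingCat.{u}} (φ : R ⟶ T) (hφ : Function.Injective φ.hom)
    (O : (Spec R).Opens) (hO : O = ⊤) (e : ⊤ ≤ Spec.map φ ⁻¹ᵁ O) :
    Function.Injective ((Spec.map φ).appLE O ⊤ e).hom := by
  subst hO
  intro a b hab
  apply (ConcreteCategory.bijective_of_isIso (Scheme.ΓSpecIso R).hom).1
  apply hφ
  have h : ∀ a, φ.hom ((Scheme.ΓSpecIso R).hom a) = (Scheme.ΓSpecIso T).hom ((Spec.map φ).appTop a) := fun a =>
    (ConcreteCategory.congr_hom (Scheme.ΓSpecIso_naturality φ) a).symm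
  refine (h a).trans (Eq.trans ?_ (h b).symm)
  refine congrArg (Scheme.ΓSpecIso T).hom ?_
  simpa [Scheme.Hom.appLE, Scheme.Hom.appTop] using hab

include hi in
theorem ker_eq_bot (hPC : IsRelProj 𝒮h pC chartC) : i.ker = ⊥ := by
  have := isAffineHom hz hi hPC
  refine Scheme.IdealSheafData.ext_of_iSup_eq_top
    (ι := Σ (U : Y.affineOpens) (d : PNat), 𝒮h.deg U.1 U.2 d)
    (fun k => ⟨cb chartC k.1.1 k.1.2 k.2.2.1, isAffineOpen_cb k.1.1 k.1.2 k.2.1.2 _ k.2.2.2⟩) ?_ ?_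
  · refine eq_top_iff.2 fun x _ => ?_
    obtain ⟨U, hU⟩ := Opens.mem_iSup.1 ((iSup_affineOpens_eq_top Y).ge (Set.mem_univ (pC x)))
    obtain ⟨d, hd, f, hf, hx⟩ := exists_mem_cb (chart := chartC) U.2 hU
    exact Opens.mem_iSup.2 ⟨⟨U, ⟨d, hd⟩, f, hf⟩, hx⟩
  rintro ⟨⟨U, hU⟩, ⟨d, hd⟩, b, hb⟩
  rw [Scheme.Hom.ker_apply, Scheme.IdealSheafData.ideal_bot, Pi.bot_apply]
  refine (RingHom.injective_iff_ker_eq_bot _).1 ((injective_iff_map_eq_zero _).2 fun s hs => ?_)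
  let W := cb chartC U hU b
  let zU := RelCone.restrictTop 𝒮h z U
  let c := Proj.awayι (𝒮h.deg U hU) b hb hd ≫ emb pC chartC U hU
  have hW : c.opensRange = W := opensRange_awayι_emb U hU hd b hb
  have := isIso_specMap_awayZ hz U hU
  let γ := awayMap (𝒮h.deg U hU) (hz.deg_z U hU) (rfl : b * zU = b * zU)
  let η := awayMap (𝒮h.deg U hU) hb (mul_comm b zU)
  let σ : Spec (CommRingCat.of (Away (𝒮h.deg U hU) (b * zU))) ⟶ 𝒮.toQCAlg.spec :=
    Spec.map (CommRingCat.ofHom η) ≫ inv (Spec.map (CommRingCat.ofHom (hz.awayZToBase U hU))) ≫ 𝒮.toQCAlg.ι U hU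
  have hσ : σ ≫ i = Spec.map (CommRingCat.ofHom γ) ≫ c := by
    simp only [σ, c, γ, η, Category.assoc, hi U hU, IsIso.inv_hom_id_assoc]
    rw [Proj.SpecMap_awayMap_awayι_assoc, Proj.SpecMap_awayMap_awayι_assoc]
    exact congrArg (· ≫ emb pC chartC U hU) (ConeRetrRel.awayι_congr (add_comm 1 d) _ _ _ _)
  have hcW : c ⁻¹ᵁ W = ⊤ := by rw [← hW, Scheme.Hom.preimage_opensRange]
  have hγ : Spec.map (CommRingCat.ofHom γ) ⁻¹ᵁ (c ⁻¹ᵁ W) = ⊤ := by rw [hcW]; rfl
  have e1 : ⊤ ≤ (Spec.map (CommRingCat.ofHom γ) ≫ c) ⁻¹ᵁ W := hγ.ge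
  have e2 : ⊤ ≤ (σ ≫ i) ⁻¹ᵁ W := by rw [hσ]; exact e1
  have h0 : ((σ ≫ i).appLE W ⊤ e2).hom s = 0 := by
    rw [Scheme.Hom.comp_appLE, CommRingCat.comp_apply]
    exact (congrArg _ hs).trans (map_zero _)
  have h1 : ((Spec.map (CommRingCat.ofHom γ) ≫ c).appLE W ⊤ e1).hom s = 0 := by
    simpa only [hσ] using h0
  rw [Scheme.Hom.comp_appLE, CommRingCat.comp_apply] at h1
  have hinj := appLE_injective_of_specMap (CommRingCat.ofHom γ)
    (awayMap_injective (𝒮h.deg U hU) hb (hz.deg_z U hU) rfl (mul_z_eq_zero hz U hU)) _ hcW hγ.ge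
  have h2 : (c.app W).hom s = 0 := hinj (h1.trans (map_zero _).symm)
  have : IsIso (c.app W) := c.isIso_app W (le_of_eq hW.symm)
  exact (ConcreteCategory.bijective_of_isIso (c.app W)).1 (h2.trans (map_zero _).symm)

end Groth.Agent.H11QMap.ConeImm
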