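import Groth.Agent.H11QMap.PolyCone

/-!
# The canonical retraction of the pointed projective cone over a general base
-/

set_option autoImplicit false
set_option linter.style.haveILetI false
set_option linter.unusedSectionVars false

noncomputable section

universe u

open CategoryTheory CategoryTheory.Limits AlgebraicGeometry TopologicalSpace Opposite RelProj
open HomogeneousLocalization
open scoped HomogeneousIdeal

namespace Groth.Agent.H11QMap.ConeRetrRel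

variable {Y PC P : Scheme.{u}} {𝒮 𝒮h : QCGrAlg Y} {ι : 𝒮.toQCAlg ⟶ 𝒮h.toQCAlg} {z : 𝒮h.presheaf.obj (op ⊤)}
  (hz : RelCone.IsPolyOver 𝒮 𝒮h ι z) {pC : PC ⟶ Y}
  {chartC : ∀ (U : Y.Opens) (hU : IsAffineOpen U), (((pC ⁻¹ᵁ U : PC.Opens) : Scheme.{u}) ≅ Proj (𝒮h.deg U hU))}
  (hPC : IsRelProj 𝒮h pC chartC) {p : P ⟶ Y}
  {chart : ∀ (U : Y.Opens) (hU : IsAffineOpen U), (((p ⁻¹ᵁ U : P.Opens) : Scheme.{u}) ≅ Proj (𝒮.deg U hU))}
  (hP : IsRelProj 𝒮 p chart)

local notation "E" => RelCone.pointedProjCone 𝒮 hz pC chartC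

/-- `r` is the canonical retraction. -/
abbrev IsRetr (chart : ∀ (U : Y.Opens) (hU : IsAffineOpen U), (((p ⁻¹ᵁ U : P.Opens) : Scheme.{u}) ≅ Proj (𝒮.deg U hU)))
    (r : ((RelCone.pointedProjCone 𝒮 hz pC chartC : PC.Opens) : Scheme.{u}) ⟶ P) : Prop :=
  ∀ (U : Y.Opens) (hU : IsAffineOpen U) (d : ℕ) (hd : 0 < d) (f : 𝒮.presheaf.obj (op U)) (hf : f ∈ 𝒮.deg U hU d)
        (g : Spec (CommRingCat.of (HomogeneousLocalization.Away (𝒮h.deg U hU) ((RelProj.gradedHomAt ι hz.graded U hU) f))) ⟶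
          ((RelCone.pointedProjCone 𝒮 hz pC chartC : PC.Opens) : Scheme.{u})),
        g ≫ (RelCone.pointedProjCone 𝒮 hz pC chartC).ι =
            Proj.awayι (𝒮h.deg U hU) ((RelProj.gradedHomAt ι hz.graded U hU) f) ((RelProj.gradedHomAt ι hz.graded U hU).2 hf) hd ≫
              RelProj.emb pC chartC U hU →
          g ≫ r =
            Spec.map (CommRingCat.ofHom (HomogeneousLocalization.Away.map (RelProj.gradedHomAt ι hz.graded U hU) f)) ≫
              Proj.awayι (𝒮.deg U hU) f hf hd ≫ RelProj.emb p chart U hU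

theorem range_subset (U : Y.Opens) (hU : IsAffineOpen U) {d : ℕ} (hd : 0 < d) (f : 𝒮.presheaf.obj (op U))
    (hf : f ∈ 𝒮.deg U hU d) :
    Set.range (Proj.awayι (𝒮h.deg U hU) (gradedHomAt ι hz.graded U hU f) ((gradedHomAt ι hz.graded U hU).2 hf) hd ≫
      emb pC chartC U hU).base ⊆ Set.range (RelCone.pointedProjCone 𝒮 hz pC chartC).ι.base := by
  rw [Scheme.Opens.range_ι]
  intro x hx
  refine (PolyCone.mem_pointed_iff hz chartC x).2 ⟨U, hU, d, hd, f, hf, ?_⟩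
  rw [← opensRange_awayι_emb U hU hd (gradedHomAt ι hz.graded U hU f) (hz.graded U hU d f hf)]
  exact hx

/-- The standard chart of the pointed cone. -/
def cchart (U : Y.Opens) (hU : IsAffineOpen U) {d : ℕ} (hd : 0 < d) (f : 𝒮.presheaf.obj (op U))
    (hf : f ∈ 𝒮.deg U hU d) :
    Spec (CommRingCat.of (Away (𝒮h.deg U hU) (gradedHomAt ι hz.graded U hU f))) ⟶
      ((RelCone.pointedProjCone 𝒮 hz pC chartC : PC.Opens) : Scheme.{u}) :=
  IsOpenImmersion.lift (RelCone.pointedProjCone 𝒮 hz pC chartC).ι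
    (Proj.awayι (𝒮h.deg U hU) (gradedHomAt ι hz.graded U hU f) ((gradedHomAt ι hz.graded U hU).2 hf) hd ≫
      emb pC chartC U hU) (range_subset hz U hU hd f hf)

@[reassoc]
theorem cchart_ι (U : Y.Opens) (hU : IsAffineOpen U) {d : ℕ} (hd : 0 < d) (f : 𝒮.presheaf.obj (op U))
    (hf : f ∈ 𝒮.deg U hU d) :
    cchart hz U hU hd f hf ≫ (RelCone.pointedProjCone 𝒮 hz pC chartC).ι =
      Proj.awayι (𝒮h.deg U hU) (gradedHomAt ι hz.graded U hU f) ((gradedHomAt ι hz.graded U hU).2 hf) hd ≫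
        emb pC chartC U hU :=
  IsOpenImmersion.lift_fac _ _ _

theorem isOpenImmersion_cchart (U : Y.Opens) (hU : IsAffineOpen U) {d : ℕ} (hd : 0 < d) (f : 𝒮.presheaf.obj (op U))
    (hf : f ∈ 𝒮.deg U hU d) : IsOpenImmersion (cchart (chartC := chartC) hz U hU hd f hf) := by
  have : IsOpenImmersion (cchart (chartC := chartC) hz U hU hd f hf ≫ (RelCone.pointedProjCone 𝒮 hz pC chartC).ι) := by
    rw [cchart_ι]; infer_instance
  exact IsOpenImmersion.of_comp _ (RelCone.pointedProjCone 𝒮 hz pC chartC).ι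

theorem opensRange_cchart (U : Y.Opens) (hU : IsAffineOpen U) {d : ℕ} (hd : 0 < d) (f : 𝒮.presheaf.obj (op U))
    (hf : f ∈ 𝒮.deg U hU d) [IsOpenImmersion (cchart (chartC := chartC) hz U hU hd f hf)] :
    (cchart (chartC := chartC) hz U hU hd f hf).opensRange =
      (RelCone.pointedProjCone 𝒮 hz pC chartC).ι ⁻¹ᵁ cb chartC U hU (gradedHomAt ι hz.graded U hU f) := by
  rw [← opensRange_awayι_emb U hU hd (gradedHomAt ι hz.graded U hU f) (hz.graded U hU d f hf)]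
  exact (preimage_opensRange_comp _ _ _ (cchart_ι hz U hU hd f hf)).symm

/-- The cover of the pointed cone by its standard charts. -/
def coneCover : ((RelCone.pointedProjCone 𝒮 hz pC chartC : PC.Opens) : Scheme.{u}).OpenCover :=
  .mkOfCovers (Σ (U : Y.affineOpens) (d : PNat), 𝒮.deg U.1 U.2 d)
    (fun j => Spec (CommRingCat.of (Away (𝒮h.deg j.1.1 j.1.2) (gradedHomAt ι hz.graded j.1.1 j.1.2 j.2.2.1))))
    (fun j => cchart hz j.1.1 j.1.2 j.2.1.2 j.2.2.1 j.2.2.2)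
    (fun x => by
      obtain ⟨U, hU, d, hd, f, hf, hx⟩ := (PolyCone.mem_pointed_iff hz chartC x.1).1 x.2
      have := isOpenImmersion_cchart (chartC := chartC) hz U hU hd f hf
      have h : x ∈ (cchart (chartC := chartC) hz U hU hd f hf).opensRange := by
        rw [opensRange_cchart]; exact hx
      obtain ⟨y, hy⟩ := h
      exact ⟨⟨⟨U, hU⟩, ⟨d, hd⟩, f, hf⟩, y, hy⟩)
    (fun j => isOpenImmersion_cchart hz j.1.1 j.1.2 j.2.1.2 j.2.2.1 j.2.2.2)

theorem retr_unique {r r' : ((RelCone.pointedProjCone 𝒮 hz pC chartC : PC.Opens) : Scheme.{u}) ⟶ P}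
    (hr : IsRetr hz chart r) (hr' : IsRetr hz chart r') : r = r' :=
  (coneCover hz).hom_ext _ _ fun j =>
    (hr _ _ _ _ _ j.2.2.2 _ (cchart_ι hz j.1.1 j.1.2 j.2.1.2 j.2.2.1 j.2.2.2)).trans
      (hr' _ _ _ _ _ j.2.2.2 _ (cchart_ι hz j.1.1 j.1.2 j.2.1.2 j.2.2.1 j.2.2.2)).symm

theorem chart_eq {r0 : (domQ (QGrHom.ofHom ι hz.graded) pC chartC : Scheme.{u}) ⟶ P}
    (hr0 : IsProjQMapOn (QGrHom.ofHom ι hz.graded) p chart pC chartC (domQ (QGrHom.ofHom ι hz.graded) pC chartC) r0)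
    (U : Y.Opens) (hU : IsAffineOpen U) {d : ℕ} (hd : 0 < d) (f : 𝒮.presheaf.obj (op U)) (hf : f ∈ 𝒮.deg U hU d)
    (ψ : (𝒮.deg U hU) →+*ᵍ (𝒮h.deg U hU)) (hψ : (QGrHom.ofHom ι hz.graded).gradedAt U hU U hU le_rfl = ψ)
    (g : Spec (CommRingCat.of (Away (𝒮h.deg U hU) (ψ f))) ⟶ (domQ (QGrHom.ofHom ι hz.graded) pC chartC : Scheme.{u}))
    (hg : g ≫ (domQ (QGrHom.ofHom ι hz.graded) pC chartC).ι =
      Proj.awayι (𝒮h.deg U hU) (ψ f) (ψ.2 hf) hd ≫ emb pC chartC U hU) :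
    g ≫ r0 = Spec.map (CommRingCat.ofHom (Away.map ψ f)) ≫ Proj.awayι (𝒮.deg U hU) f hf hd ≫ emb p chart U hU := by
  subst hψ
  have e : g = lchart (QGrHom.ofHom ι hz.graded) chartC ⟨⟨U, hU⟩, ⟨U, hU⟩, le_rfl, d, hd, f, hf⟩ := by
    refine (cancel_mono (domQ (QGrHom.ofHom ι hz.graded) pC chartC).ι).1 ?_
    rw [hg, lchart_ι]
    rfl
  rw [e]
  exact (isProjQMapOn_iff (QGrHom.ofHom ι hz.graded) chart chartC r0).1 hr0 _

theorem isRetr_of_qmap {r0 : (domQ (QGrHom.ofHom ι hz.graded) pC chartC : Scheme.{u}) ⟶ P}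
    (hr0 : IsProjQMapOn (QGrHom.ofHom ι hz.graded) p chart pC chartC (domQ (QGrHom.ofHom ι hz.graded) pC chartC) r0) :
    IsRetr hz chart (PC.homOfLE (PolyCone.pointed_eq_domQ hz chartC).le ≫ r0) := by
  intro U hU d hd f hf g hg
  rw [← Category.assoc]
  refine chart_eq hz hr0 U hU hd f hf _ (ofHom_gradedAt_eq' ι hz.graded U hU) _ ?_
  rw [Category.assoc, Scheme.homOfLE_ι]
  exact hg

include hPC hP

theorem exists_retr : ∃! r : ((RelCone.pointedProjCone 𝒮 hz pC chartC : PC.Opens) : Scheme.{u}) ⟶ P, IsRetr hz chart r := by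
  obtain ⟨r0, hr0⟩ := exists_qmap (QGrHom.ofHom ι hz.graded) chart chartC hP hPC
  exact ⟨_, isRetr_of_qmap hz hr0, fun r hr => retr_unique hz hr (isRetr_of_qmap hz hr0)⟩

variable {r : ((RelCone.pointedProjCone 𝒮 hz pC chartC : PC.Opens) : Scheme.{u}) ⟶ P} (hr : IsRetr hz chart r)
include hr

theorem eq_qmap : ∃ r0, IsProjQMapOn (QGrHom.ofHom ι hz.graded) p chart pC chartC
    (domQ (QGrHom.ofHom ι hz.graded) pC chartC) r0 ∧
      r = PC.homOfLE (PolyCone.pointed_eq_domQ hz chartC).le ≫ r0 := by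
  obtain ⟨r0, hr0⟩ := exists_qmap (QGrHom.ofHom ι hz.graded) chart chartC hP hPC
  exact ⟨r0, hr0, retr_unique hz hr (isRetr_of_qmap hz hr0)⟩

theorem retr_over : r ≫ p = (RelCone.pointedProjCone 𝒮 hz pC chartC).ι ≫ pC := by
  obtain ⟨r0, hr0, rfl⟩ := eq_qmap hz hPC hP hr
  rw [Category.assoc, qmap_over (QGrHom.ofHom ι hz.graded) chart chartC hP hPC hr0, Category.comp_id,
    ← Category.assoc, Scheme.homOfLE_ι]

theorem retr_mem_cb_iff (x : ((RelCone.pointedProjCone 𝒮 hz pC chartC : PC.Opens) : Scheme.{u})) (U : Y.Opens)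
    (hU : IsAffineOpen U) (hx : pC x.1 ∈ U) {d : ℕ} (hd : 0 < d) (f : 𝒮.presheaf.obj (op U))
    (hf : f ∈ 𝒮.deg U hU d) :
    r x ∈ cb chart U hU f ↔ x.1 ∈ cb chartC U hU (gradedHomAt ι hz.graded U hU f) := by
  obtain ⟨r0, hr0, rfl⟩ := eq_qmap hz hPC hP hr
  have e : (domQ (QGrHom.ofHom ι hz.graded) pC chartC).ι
      (PC.homOfLE (PolyCone.pointed_eq_domQ hz chartC).le x) = x.1 := by
    rw [← Scheme.Hom.comp_apply, Scheme.homOfLE_ι]
    rfl
  rw [← ofHom_gradedAt_eq ι hz.graded U hU f]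
  refine (qmap_mem_cb_iff (QGrHom.ofHom ι hz.graded) chart chartC hP hPC hr0
    (PC.homOfLE (PolyCone.pointed_eq_domQ hz chartC).le x) U hU U hU le_rfl (by rw [e]; exact hx) hd f hf).trans ?_
  rw [e]

theorem retr_preimage_cb (U : Y.Opens) (hU : IsAffineOpen U) {d : ℕ} (hd : 0 < d) (f : 𝒮.presheaf.obj (op U))
    (hf : f ∈ 𝒮.deg U hU d) :
    r ⁻¹ᵁ cb chart U hU f =
      (RelCone.pointedProjCone 𝒮 hz pC chartC).ι ⁻¹ᵁ cb chartC U hU (gradedHomAt ι hz.graded U hU f) := by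
  ext x
  change r x ∈ cb chart U hU f ↔ x.1 ∈ cb chartC U hU (gradedHomAt ι hz.graded U hU f)
  constructor
  · intro h
    refine (retr_mem_cb_iff hz hPC hP hr x U hU ?_ hd f hf).1 h
    have h1 : p (r x) ∈ U := cb_le U hU _ h
    rw [← Scheme.Hom.comp_apply, retr_over hz hPC hP hr] at h1
    exact h1
  · intro h
    exact (retr_mem_cb_iff hz hPC hP hr x U hU (cb_le U hU _ h) hd f hf).2 h

theorem isPullback_cchart (U : Y.Opens) (hU : IsAffineOpen U) {d : ℕ} (hd : 0 < d) (f : 𝒮.presheaf.obj (op U))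
    (hf : f ∈ 𝒮.deg U hU d) :
    IsPullback (Spec.map (CommRingCat.ofHom (Away.map (gradedHomAt ι hz.graded U hU) f)))
      (cchart hz U hU hd f hf) (Proj.awayι (𝒮.deg U hU) f hf hd ≫ emb p chart U hU) r := by
  have := isOpenImmersion_cchart (chartC := chartC) hz U hU hd f hf
  apply IsOpenImmersion.isPullback
  · exact hr U hU d hd f hf _ (cchart_ι hz U hU hd f hf)
  · rw [opensRange_awayι_emb, opensRange_cchart, retr_preimage_cb hz hPC hP hr U hU hd f hf]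

theorem retr_of_charts {Q : MorphismProperty Scheme.{u}} [IsZariskiLocalAtTarget Q]
    (H : ∀ (U : Y.Opens) (hU : IsAffineOpen U) (d : ℕ), 0 < d → ∀ f ∈ 𝒮.deg U hU d,
      Q (Spec.map (CommRingCat.ofHom (Away.map (gradedHomAt ι hz.graded U hU) f)))) : Q r := by
  refine IsZariskiLocalAtTarget.of_openCover (cbCover chart) fun j => ?_
  obtain ⟨⟨U, hU⟩, ⟨d, hd⟩, f, hf⟩ := j
  have h := (isPullback_cchart hz hPC hP hr U hU hd f hf).flip
  have hj := H U hU d hd f hf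
  rw [← h.isoPullback_hom_snd] at hj
  exact (Q.cancel_left_of_respectsIso _ _).1 hj

end Groth.Agent.H11QMap.ConeRetrRel
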