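import Groth.Agent.H11QMap.ConeRetrRel
import Groth.Agent.H11Proj.PCone

/-!
# The canonical retraction is surjective and a retraction
-/

set_option autoImplicit false
set_option linter.style.haveILetI false
set_option linter.unusedSectionVars false

noncomputable section

universe u

open CategoryTheory CategoryTheory.Limits AlgebraicGeometry TopologicalSpace Opposite RelProj
open HomogeneousLocalization
open scoped HomogeneousIdeal

namespace Groth.Agent.H11QMap.ConeRetrRel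

theorem bijective_of_id {A σ : Type u} [CommRing A] [SetLike σ A] [AddSubgroupClass σ A] {𝒜 : ℕ → σ} [GradedRing 𝒜]
    {d : ℕ} {f s : A} (hf : f ∈ 𝒜 d) (hs : s ∈ 𝒜 d) (e : s = f) (c : Away 𝒜 f →+* Away 𝒜 s)
    (hc : ∀ (n : ℕ) (a : A) (ha : a ∈ 𝒜 (n • d)), c (Away.mk 𝒜 hf n a ha) = Away.mk 𝒜 hs n a ha) :
    Function.Bijective c := by
  subst e
  have h : c = RingHom.id _ := RingHom.ext fun z => by
    obtain ⟨n, a, ha, rfl⟩ := Away.mk_surjective 𝒜 hf z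
    exact hc n a ha
  rw [h]
  exact Function.bijective_id

theorem surjective_specMap_awayMap {A B σ τ : Type u} [CommRing A] [SetLike σ A] [AddSubgroupClass σ A]
    {𝒜 : ℕ → σ} [GradedRing 𝒜] [CommRing B] [SetLike τ B] [AddSubgroupClass τ B] {ℬ : ℕ → τ} [GradedRing ℬ]
    (φ : 𝒜 →+*ᵍ ℬ) (ρ : ℬ →+*ᵍ 𝒜) (h : ∀ a, ρ (φ a) = a) {d : ℕ} {f : A} (hf : f ∈ 𝒜 d) :
    Surjective (Spec.map (CommRingCat.ofHom (Away.map φ f))) := by
  let c : Away 𝒜 f →+* Away 𝒜 (ρ (φ f)) := (Away.map ρ (φ f)).comp (Away.map φ f)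
  have hb : Function.Bijective c := bijective_of_id hf (ρ.2 (φ.2 hf)) (h f) c fun n a ha => by
    rw [RingHom.comp_apply, Away.map_mk φ f hf n a ha, Away.map_mk ρ (φ f) (φ.2 hf) n (φ a) (φ.2 ha)]
    apply val_injective
    simp [h]
  have hiso : IsIso (CommRingCat.ofHom c) := (ConcreteCategory.isIso_iff_bijective _).2 hb
  refine ⟨fun y => ?_⟩
  obtain ⟨x, hx⟩ := (Spec.map (CommRingCat.ofHom c)).surjective y
  exact ⟨Spec.map (CommRingCat.ofHom (Away.map ρ (φ f))) x, hx⟩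

variable {Y PC P : Scheme.{u}} {𝒮 𝒮h : QCGrAlg Y} {ι : 𝒮.toQCAlg ⟶ 𝒮h.toQCAlg} {z : 𝒮h.presheaf.obj (op ⊤)}
  (hz : RelCone.IsPolyOver 𝒮 𝒮h ι z)

include hz in
/-- The graded retraction over an affine open killing `z`. -/
theorem exists_graded_retraction (U : Y.Opens) (hU : IsAffineOpen U) :
    ∃ ρ : (𝒮h.deg U hU) →+*ᵍ (𝒮.deg U hU), ∀ a, ρ (gradedHomAt ι hz.graded U hU a) = a := by
  classical
  let E := hz.polyEquiv U hU
  let zU := RelCone.restrictTop 𝒮h z U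
  let ρ : 𝒮h.presheaf.obj (op U) →+* 𝒮.presheaf.obj (op U) := Polynomial.constantCoeff.comp E.symm.toRingHom
  have hι : ∀ a, ρ ((ι.hom.app (op U)).hom a) = a := fun a => by
    have e : E.symm ((ι.hom.app (op U)).hom a) = Polynomial.C a := by
      rw [RingEquiv.symm_apply_eq]
      exact (Polynomial.eval₂_C (ι.hom.app (op U)).hom zU).symm
    simp [ρ, e]
  have hρz : ρ zU = 0 := by
    have e : E.symm zU = Polynomial.X := by
      rw [RingEquiv.symm_apply_eq]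
      exact (Polynomial.eval₂_X (ι.hom.app (op U)).hom zU).symm
    simp [ρ, e]
  refine ⟨⟨ρ, fun {d x} hx => ?_⟩, fun a => hι a⟩
  obtain ⟨p, rfl⟩ := (hz.bij U hU).2 x
  have h1 := congrArg (Polynomial.eval₂RingHom (ι.hom.app (op U)).hom zU) (Polynomial.divX_mul_X_add p)
  rw [map_add, map_mul] at h1
  simp only [Polynomial.coe_eval₂RingHom, Polynomial.eval₂_X, Polynomial.eval₂_C] at h1
  simp only [Polynomial.coe_eval₂RingHom] at hx ⊢
  change (_ : 𝒮h.presheaf.obj (op U)) ∈ 𝒮h.deg U hU d at hx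
  let q := Polynomial.eval₂ (ι.hom.app (op U)).hom zU p.divX
  have key : ∃ w, Polynomial.eval₂ (ι.hom.app (op U)).hom zU p =
      gradedHomAt ι hz.graded U hU (DirectSum.decompose (𝒮.deg U hU) (p.coeff 0) d : 𝒮.deg U hU d) + w * zU := by
    refine ⟨if 1 ≤ d then ((DirectSum.decompose (𝒮h.deg U hU) q (d - 1)) : 𝒮h.presheaf.obj (op U)) else 0, ?_⟩
    rw [H11Proj.map_proj (gradedHomAt ι hz.graded U hU) (p.coeff 0) d]
    have hd := DirectSum.decompose_of_mem_same _ hx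
    rw [← h1, DirectSum.decompose_add, DirectSum.add_apply, AddMemClass.coe_add] at hd
    rw [← h1]
    refine hd.symm.trans ((add_comm _ _).trans (congrArg₂ (· + ·) rfl ?_))
    rw [DirectSum.coe_decompose_mul_of_right_mem (𝒮h.deg U hU) d (hz.deg_z U hU)]
    split_ifs <;> simp [q, zU]
  obtain ⟨w, hw⟩ := key
  change ρ (Polynomial.eval₂ (ι.hom.app (op U)).hom zU p) ∈ 𝒮.deg U hU d
  rw [hw, map_add, map_mul, hρz, mul_zero, add_zero]
  exact (hι _).symm ▸ (DirectSum.decompose (𝒮.deg U hU) (p.coeff 0) d).2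

variable {pC : PC ⟶ Y}
  {chartC : ∀ (U : Y.Opens) (hU : IsAffineOpen U), (((pC ⁻¹ᵁ U : PC.Opens) : Scheme.{u}) ≅ Proj (𝒮h.deg U hU))}
  (hPC : IsRelProj 𝒮h pC chartC) {p : P ⟶ Y}
  {chart : ∀ (U : Y.Opens) (hU : IsAffineOpen U), (((p ⁻¹ᵁ U : P.Opens) : Scheme.{u}) ≅ Proj (𝒮.deg U hU))}
  (hP : IsRelProj 𝒮 p chart)
  {r : ((RelCone.pointedProjCone 𝒮 hz pC chartC : PC.Opens) : Scheme.{u}) ⟶ P} (hr : IsRetr hz chart r)

include hPC hP hr in
theorem retr_surjective : Surjective r :=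
  retr_of_charts hz hPC hP hr fun U hU d _ f hf => by
    obtain ⟨ρ, hρ⟩ := exists_graded_retraction hz U hU
    exact surjective_specMap_awayMap _ ρ hρ hf

include hr in
theorem comp_retr_eq_id (θ : 𝒮h.toQCAlg ⟶ 𝒮.toQCAlg) (hθ : IsGradedHom θ) (hθι : ι ≫ θ = 𝟙 _)
    (hirr : ∀ (U : Y.Opens) (hU : IsAffineOpen U), (𝒮.deg U hU)₊ ≤ ((𝒮h.deg U hU)₊).map (gradedHomAt θ hθ U hU))
    (j : P ⟶ PC) (hj : IsRelProjMap θ hθ hirr chartC chart j)
    (j' : P ⟶ ((RelCone.pointedProjCone 𝒮 hz pC chartC : PC.Opens) : Scheme.{u}))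
    (hj' : j' ≫ (RelCone.pointedProjCone 𝒮 hz pC chartC).ι = j) : j' ≫ r = 𝟙 P := by
  refine (cbCover chart).hom_ext _ _ fun k => ?_
  obtain ⟨⟨U, hU⟩, ⟨d, hd⟩, f, hf⟩ := k
  rw [Category.comp_id]
  change (Proj.awayι (𝒮.deg U hU) f hf hd ≫ emb p chart U hU) ≫ j' ≫ r =
    Proj.awayι (𝒮.deg U hU) f hf hd ≫ emb p chart U hU
  let φ := gradedHomAt ι hz.graded U hU
  let ρ := gradedHomAt θ hθ U hU
  have hρφ : ∀ a, ρ (φ a) = a := fun a =>
    congr($(congrArg (fun k : 𝒮.toQCAlg ⟶ 𝒮.toQCAlg => k.hom.app (op U)) hθι) a)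
  have hj2 : emb p chart U hU ≫ j = Proj.map ρ (hirr U hU) ≫ emb pC chartC U hU := by
    simp only [emb, Category.assoc, hj U hU, Iso.inv_hom_id_assoc]
    rfl
  suffices H : ∀ (s : 𝒮.presheaf.obj (op U)) (hs : s ∈ 𝒮.deg U hU d), s = ρ (φ f) →
      (Proj.awayι (𝒮.deg U hU) s hs hd ≫ emb p chart U hU) ≫ j' ≫ r =
        Proj.awayι (𝒮.deg U hU) s hs hd ≫ emb p chart U hU from H f hf (hρφ f).symm
  rintro s hs rfl
  have hfac : (Proj.awayι (𝒮.deg U hU) (ρ (φ f)) hs hd ≫ emb p chart U hU) ≫ j' =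
      Spec.map (CommRingCat.ofHom (Away.map ρ (φ f))) ≫ cchart hz U hU hd f hf := by
    rw [← cancel_mono (RelCone.pointedProjCone 𝒮 hz pC chartC).ι, Category.assoc, Category.assoc, Category.assoc,
      hj', hj2, cchart_ι, ← Category.assoc, ← Category.assoc]
    exact congrArg (· ≫ emb pC chartC U hU) (Proj.awayι_comp_map ρ (hirr U hU) hd (φ f) (φ.2 hf))
  rw [← Category.assoc, hfac, Category.assoc, hr U hU d hd f hf _ (cchart_ι hz U hU hd f hf),
    ← Spec.map_comp_assoc, ← CommRingCat.ofHom_comp, ← Category.assoc]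
  refine congrArg (· ≫ emb p chart U hU) ?_
  refine H11Proj.PConeLib.specMap_awayι_of_id hf hs hd (hρφ f) _ fun k a ha => ?_
  rw [RingHom.comp_apply, Away.map_mk φ f hf k a ha, Away.map_mk ρ (φ f) (φ.2 hf) k (φ a) (φ.2 ha)]
  apply val_injective
  simp [hρφ]

end Groth.Agent.H11QMap.ConeRetrRel
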