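import Groth.Agent.H11QMap.ConeAffineRel
import Mathlib.RingTheory.GradedAlgebra.Radical

/-!
# Functoriality of the pointed affine cone
-/

set_option autoImplicit false
set_option linter.style.haveILetI false
set_option linter.unusedSectionVars false

noncomputable section

universe u

open CategoryTheory CategoryTheory.Limits AlgebraicGeometry TopologicalSpace Opposite RelProj
open scoped HomogeneousIdeal

namespace Groth.Agent.H11QMap.ConeSpecMap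

variable {Y : Scheme.{u}} (𝒮 : QCGrAlg Y)

theorem ι_basic {U V : Y.Opens} (hU : IsAffineOpen U) (hV : IsAffineOpen V) (r : Γ(Y, U)) (e : V = Y.basicOpen r)
    (hle : V ≤ U) : Spec.map (𝒮.presheaf.map (homOfLE hle).op) ≫ 𝒮.toQCAlg.ι U hU = 𝒮.toQCAlg.ι V hV := by
  subst e
  let V' : Y.AffineZariskiSite := ⟨Y.basicOpen r, hV⟩
  let U' : Y.AffineZariskiSite := ⟨U, hU⟩
  have h : V' ≤ U' := ⟨r, rfl⟩
  exact RelSpec.QCAlg.ι_res 𝒮.toQCAlg (homOfLE h)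

/-- The pointed cone is cut out by the irrelevant ideal on every chart. -/
theorem ι_mem_pointedCone_iff (U : Y.Opens) (hU : IsAffineOpen U) (t : Spec (𝒮.presheaf.obj (op U))) :
    𝒮.toQCAlg.ι U hU t ∈ RelCone.pointedCone 𝒮 ↔ ∃ d, 0 < d ∧ ∃ f ∈ 𝒮.deg U hU d, f ∉ t.asIdeal := by
  constructor
  · intro h
    obtain ⟨U₀, hU₀, d, hd, f, t₀, hf, hft, e⟩ := (ConeRetrRel.mem_pointedCone_iff _).1 h
    let w := 𝒮.toQCAlg.ι U hU t
    have h1 : 𝒮.toQCAlg.π w ∈ U := (𝒮.toQCAlg.π_preimage U hU).ge ⟨t, rfl⟩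
    have h2 : 𝒮.toQCAlg.π w ∈ U₀ := (𝒮.toQCAlg.π_preimage U₀ hU₀).ge ⟨t₀, e⟩
    obtain ⟨r, s, hrs, hr⟩ := exists_basicOpen_le_affine_inter hU hU₀ _ ⟨h1, h2⟩
    have hD := hU.basicOpen r
    obtain ⟨v, hv⟩ := (𝒮.toQCAlg.π_preimage (Y.basicOpen r) hD).le hr
    have hle₀ : Y.basicOpen r ≤ U₀ := hrs.le.trans (Y.basicOpen_le s)
    have eU : Spec.map (𝒮.presheaf.map (homOfLE (Y.basicOpen_le r)).op) v = t := by
      refine (𝒮.toQCAlg.ι U hU).isOpenEmbedding.injective ?_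
      rw [← Scheme.Hom.comp_apply, ι_basic 𝒮 hU hD r rfl]
      exact hv
    have eU₀ : Spec.map (𝒮.presheaf.map (homOfLE hle₀).op) v = t₀ := by
      refine (𝒮.toQCAlg.ι U₀ hU₀).isOpenEmbedding.injective ?_
      rw [← Scheme.Hom.comp_apply, ι_basic 𝒮 hU₀ hD s hrs, e]
      exact hv
    by_contra hc
    push Not at hc
    have hirr : ((𝒮.deg U hU)₊).toIdeal ≤ t.asIdeal :=
      (HomogeneousIdeal.toIdeal_irrelevant_le (𝒮.deg U hU)).2 fun k hk a ha => hc k hk a ha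
    have hmap : ((𝒮.deg (Y.basicOpen r) hD)₊).toIdeal ≤ v.asIdeal := by
      refine le_trans (𝒮.irrelevant_le_map U hU r) (Ideal.map_le_iff_le_comap.2 fun a ha => ?_)
      have h3 := hirr ha
      rw [← eU] at h3
      exact h3
    refine hft ?_
    rw [← eU₀]
    exact hmap (HomogeneousIdeal.mem_irrelevant_of_mem _ hd
      ((𝒮.res hU₀ hD hle₀).2 hf))
  · rintro ⟨d, hd, f, hf, hft⟩
    exact (ConeRetrRel.mem_pointedCone_iff _).2 ⟨U, hU, d, hd, f, t, hf, hft, rfl⟩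

variable {𝒮} {Y' : Scheme.{u}} {q : Y' ⟶ Y} {𝒮' : QCGrAlg Y'} (u : RelSpec.QHom q 𝒮.toQCAlg 𝒮'.toQCAlg)
  (hgr : ∀ (U : Y.Opens) (hU : IsAffineOpen U) (U' : Y'.Opens) (hU' : IsAffineOpen U') (hle : U' ≤ q ⁻¹ᵁ U) (d : ℕ)
    (x : 𝒮.presheaf.obj (op U)), x ∈ 𝒮.deg U hU d → (u.appLE U U' hle).hom x ∈ 𝒮'.deg U' hU' d)
  {Φ : 𝒮'.toQCAlg.spec ⟶ 𝒮.toQCAlg.spec} (hΦ : RelSpec.IsSpecQMap u Φ)

theorem exists_charts (w : 𝒮'.toQCAlg.spec) :
    ∃ (U : Y.Opens) (hU : IsAffineOpen U) (W : Y'.Opens) (hW : IsAffineOpen W) (_ : W ≤ q ⁻¹ᵁ U)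
      (s : Spec (𝒮'.presheaf.obj (op W))), 𝒮'.toQCAlg.ι W hW s = w := by
  obtain ⟨⟨U, hU⟩, hxU⟩ := Opens.mem_iSup.1 ((iSup_affineOpens_eq_top Y).ge (Set.mem_univ (q (𝒮'.toQCAlg.π w))))
  obtain ⟨W, hW, hxW, hle⟩ := exists_isAffineOpen_mem_and_subset (U := q ⁻¹ᵁ U) hxU
  obtain ⟨s, hs⟩ := (𝒮'.toQCAlg.π_preimage W hW).le hxW
  exact ⟨U, hU, W, hW, hle, s, hs⟩

include hΦ in
theorem chart_apply (U : Y.Opens) (hU : IsAffineOpen U) (W : Y'.Opens) (hW : IsAffineOpen W) (hle : W ≤ q ⁻¹ᵁ U)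
    (s : Spec (𝒮'.presheaf.obj (op W))) :
    Φ (𝒮'.toQCAlg.ι W hW s) = 𝒮.toQCAlg.ι U hU (Spec.map (u.appLE U W hle) s) := by
  rw [← Scheme.Hom.comp_apply, hΦ U hU W hW hle]
  rfl

include hgr hΦ in
theorem preimage_le : Φ ⁻¹ᵁ RelCone.pointedCone 𝒮 ≤ RelCone.pointedCone 𝒮' := by
  intro w hw
  obtain ⟨U, hU, W, hW, hle, s, rfl⟩ := exists_charts (q := q) w
  change Φ (𝒮'.toQCAlg.ι W hW s) ∈ RelCone.pointedCone 𝒮 at hw
  rw [chart_apply u hΦ U hU W hW hle, ι_mem_pointedCone_iff] at hw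
  obtain ⟨d, hd, f, hf, hfs⟩ := hw
  exact (ι_mem_pointedCone_iff 𝒮' W hW s).2 ⟨d, hd, _, hgr U hU W hW hle d f hf, hfs⟩

include hgr hΦ in
theorem preimage_eq_iff
    (φ : ∀ (U : Y.Opens) (hU : IsAffineOpen U) (U' : Y'.Opens) (hU' : IsAffineOpen U') (_ : U' ≤ q ⁻¹ᵁ U),
      𝒮.deg U hU →+*ᵍ 𝒮'.deg U' hU')
    (hφ : ∀ U hU U' hU' hle x, φ U hU U' hU' hle x = (u.appLE U U' hle).hom x) :
    (∀ (U : Y.Opens) (hU : IsAffineOpen U) (U' : Y'.Opens) (hU' : IsAffineOpen U') (hle : U' ≤ q ⁻¹ᵁ U),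
        RelCone.domOpen (φ U hU U' hU' hle) = ⊤) ↔
      Φ ⁻¹ᵁ RelCone.pointedCone 𝒮 = RelCone.pointedCone 𝒮' := by
  constructor
  · intro h
    refine le_antisymm (preimage_le u hgr hΦ) fun w hw => ?_
    obtain ⟨U, hU, W, hW, hle, s, rfl⟩ := exists_charts (q := q) w
    obtain ⟨d, hd, b, hb, hbs⟩ := (ι_mem_pointedCone_iff 𝒮' W hW s).1 hw
    let P : Proj (𝒮'.deg W hW) := ⟨s.asIdeal.homogeneousCore (𝒮'.deg W hW), s.isPrime.homogeneousCore, fun hle' =>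
      hbs (Ideal.toIdeal_homogeneousCore_le _ _ (hle' (HomogeneousIdeal.mem_irrelevant_of_mem _ hd hb)))⟩
    obtain ⟨k, hk, f, hf, hfP⟩ := (mem_domOpen_iff _ P).1 ((h U hU W hW hle).ge (Set.mem_univ P))
    change Φ (𝒮'.toQCAlg.ι W hW s) ∈ RelCone.pointedCone 𝒮
    rw [chart_apply u hΦ U hU W hW hle, ι_mem_pointedCone_iff]
    refine ⟨k, hk, f, hf, fun hfs => hfP ?_⟩
    exact Ideal.mem_homogeneousCore_of_homogeneous_of_mem ⟨k, (φ U hU W hW hle).2 hf⟩ (by rw [hφ]; exact hfs)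
  · intro h U hU U' hU' hle
    refine eq_top_iff.2 fun P _ => (mem_domOpen_iff _ P).2 ?_
    let t : Spec (𝒮'.presheaf.obj (op U')) := ⟨P.asHomogeneousIdeal.toIdeal, P.isPrime⟩
    have ht : 𝒮'.toQCAlg.ι U' hU' t ∈ RelCone.pointedCone 𝒮' := by
      rw [ι_mem_pointedCone_iff]
      by_contra hc
      push Not at hc
      exact P.not_irrelevant_le ((HomogeneousIdeal.toIdeal_irrelevant_le (𝒮'.deg U' hU')).2
        fun k hk a ha => hc k hk a ha)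
    rw [← h] at ht
    change Φ (𝒮'.toQCAlg.ι U' hU' t) ∈ RelCone.pointedCone 𝒮 at ht
    rw [chart_apply u hΦ U hU U' hU' hle, ι_mem_pointedCone_iff] at ht
    obtain ⟨k, hk, f, hf, hft⟩ := ht
    refine ⟨k, hk, f, hf, ?_⟩
    intro hP
    refine hft ?_
    change (u.appLE U U' hle).hom f ∈ P.asHomogeneousIdeal.toIdeal
    rw [← hφ U hU U' hU' hle f]
    exact hP

end Groth.Agent.H11QMap.ConeSpecMap
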