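import Groth.Agent.H11QMap.ConeImm
import Mathlib.AlgebraicGeometry.Morphisms.ClosedImmersion

/-!
# The vertex of the cones
-/

set_option autoImplicit false
set_option linter.style.haveILetI false
set_option linter.unusedSectionVars false

noncomputable section

universe u

open CategoryTheory CategoryTheory.Limits AlgebraicGeometry TopologicalSpace Opposite RelProj
open HomogeneousLocalization
open scoped HomogeneousIdeal

namespace Groth.Agent.H11QMap.ConeVertex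

variable {Y : Scheme.{u}}

theorem isIso_unit_π (Y : Scheme.{u}) : IsIso (RelSpec.QCAlg.unit Y).π := by
  let A := RelSpec.QCAlg.unit Y
  let 𝒰 : Y.OpenCover := .mkOfCovers Y.affineOpens (fun U => Spec Γ(Y, U.1)) (fun U => U.2.fromSpec)
    (fun x => by
      obtain ⟨U, hU⟩ := Opens.mem_iSup.1 ((iSup_affineOpens_eq_top Y).ge (Set.mem_univ x))
      rw [← U.2.opensRange_fromSpec] at hU
      obtain ⟨y, hy⟩ := hU
      exact ⟨U, y, hy⟩)
    (fun U => inferInstance)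
  refine (IsZariskiLocalAtTarget.of_openCover (P := MorphismProperty.isomorphisms Scheme) 𝒰 fun U => ?_ :
    MorphismProperty.isomorphisms Scheme A.π)
  have : IsOpenImmersion (A.ι U.1 U.2) := inferInstanceAs (IsOpenImmersion (A.glueData.cover.f U))
  let F : Spec (A.presheaf.obj (op U.1)) ⟶ Y := U.2.fromSpec
  have : IsOpenImmersion F := inferInstanceAs (IsOpenImmersion U.2.fromSpec)
  have hπ : A.ι U.1 U.2 ≫ A.π = 𝟙 _ ≫ F :=
    (A.ι_π U.1 U.2).trans (congrArg (· ≫ U.2.fromSpec) (Spec.map_id _))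
  have h : IsPullback (𝟙 (Spec (A.presheaf.obj (op U.1)))) (A.ι U.1 U.2) F A.π := by
    apply IsOpenImmersion.isPullback
    · exact hπ
    · rw [show F.opensRange = U.1 from U.2.opensRange_fromSpec]
      exact A.π_preimage U.1 U.2
  have hj : MorphismProperty.isomorphisms Scheme (𝟙 (Spec (A.presheaf.obj (op U.1)))) := inferInstanceAs (IsIso _)
  rw [← h.flip.isoPullback_hom_snd] at hj
  exact ((MorphismProperty.isomorphisms Scheme).cancel_left_of_respectsIso _ _).1 hj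

variable {𝒮 : QCGrAlg Y}

theorem exists_vertex (aug : 𝒮.toQCAlg ⟶ RelSpec.QCAlg.unit Y) :
    ∃! ε : Y ⟶ 𝒮.toQCAlg.spec, RelCone.IsVertex 𝒮 aug ε := by
  have := isIso_unit_π Y
  let ε := inv (RelSpec.QCAlg.unit Y).π ≫ RelSpec.QCAlg.specMap aug
  have hch : ∀ (U : Y.Opens) (hU : IsAffineOpen U),
      hU.fromSpec ≫ ε = Spec.map (aug.hom.app (op U)) ≫ 𝒮.toQCAlg.ι U hU := fun U hU => by
    have e : hU.fromSpec ≫ inv (RelSpec.QCAlg.unit Y).π = (RelSpec.QCAlg.unit Y).ι U hU := by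
      refine (IsIso.comp_inv_eq _).2 ?_
      exact (((RelSpec.QCAlg.unit Y).ι_π U hU).trans
        ((congrArg (· ≫ hU.fromSpec) (Spec.map_id _)).trans (Category.id_comp _))).symm
    rw [← Category.assoc, e]
    exact RelSpec.QCAlg.ι_specMap U hU aug
  refine ⟨ε, ⟨?_, hch⟩, fun ε' hε' => ?_⟩
  · rw [Category.assoc, RelSpec.QCAlg.specMap_π, IsIso.inv_hom_id]
  refine (Scheme.Cover.mkOfCovers (P := @IsOpenImmersion) Y.affineOpens (fun U => Spec Γ(Y, U.1))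
    (fun U => U.2.fromSpec) (fun x => by
      obtain ⟨U, hU⟩ := Opens.mem_iSup.1 ((iSup_affineOpens_eq_top Y).ge (Set.mem_univ x))
      rw [← U.2.opensRange_fromSpec] at hU
      obtain ⟨y, hy⟩ := hU
      exact ⟨U, y, hy⟩) (fun U => inferInstance)).hom_ext _ _ fun U => ?_
  exact (hε'.chart U.1 U.2).trans (hch U.1 U.2).symm

theorem isClosedImmersion_vertex {aug : 𝒮.toQCAlg ⟶ RelSpec.QCAlg.unit Y} {ε : Y ⟶ 𝒮.toQCAlg.spec}
    (hε : RelCone.IsVertex 𝒮 aug ε) : IsClosedImmersion ε := by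
  have : IsClosedImmersion (ε ≫ 𝒮.toQCAlg.π) := by rw [hε.comp_π]; infer_instance
  exact IsClosedImmersion.of_comp ε 𝒮.toQCAlg.π

variable (h0 : RelCone.StrZeroBij 𝒮) {aug : 𝒮.toQCAlg ⟶ RelSpec.QCAlg.unit Y}
  (haug : RelCone.IsAugmentation 𝒮 aug)

include h0 haug in
theorem ker_aug (U : Y.Opens) (hU : IsAffineOpen U) :
    RingHom.ker (aug.hom.app (op U)).hom = ((𝒮.deg U hU)₊).toIdeal := by
  classical
  have hstr : ∀ r, (aug.hom.app (op U)).hom ((𝒮.str.app (op U)).hom r) = r := fun r =>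
    congr($(congrArg (fun k : Y.presheaf ⟶ Y.presheaf => k.app (op U)) aug.comm) r)
  have hpos : ∀ a ∈ ((𝒮.deg U hU)₊).toIdeal, (aug.hom.app (op U)).hom a = 0 := by
    intro a ha
    refine Eq.trans ?_ (Finset.sum_eq_zero (s := (DirectSum.decompose (𝒮.deg U hU) a).support)
      (f := fun i => (aug.hom.app (op U)).hom ((DirectSum.decompose (𝒮.deg U hU) a i : _))) fun i _ => ?_)
    · rw [← map_sum]
      exact congrArg _ (DirectSum.sum_support_decompose (𝒮.deg U hU) a).symm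
    rcases i with _ | i
    · rw [show (DirectSum.decompose (𝒮.deg U hU) a 0 : 𝒮.presheaf.obj (op U)) = 0 from
        (HomogeneousIdeal.mem_irrelevant_iff (𝒮.deg U hU) a).1 ha, map_zero]
    · exact haug U hU i _ (DirectSum.decompose (𝒮.deg U hU) a (i + 1)).2
  ext a
  refine ⟨fun ha => ?_, fun ha => hpos a ha⟩
  obtain ⟨r, hr⟩ := (h0 U hU).2 (DirectSum.decompose (𝒮.deg U hU) a 0)
  have hr' : (𝒮.str.app (op U)).hom r = (DirectSum.decompose (𝒮.deg U hU) a 0 : 𝒮.presheaf.obj (op U)) :=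
    congrArg Subtype.val hr
  have h1 : a - (DirectSum.decompose (𝒮.deg U hU) a 0 : 𝒮.presheaf.obj (op U)) ∈ ((𝒮.deg U hU)₊).toIdeal := by
    rw [HomogeneousIdeal.toIdeal, HomogeneousIdeal.mem_iff, HomogeneousIdeal.mem_irrelevant_iff,
      GradedRing.proj_apply, DirectSum.decompose_sub, DirectSum.sub_apply, AddSubgroupClass.coe_sub,
      DirectSum.decompose_of_mem_same _ (DirectSum.decompose (𝒮.deg U hU) a 0).2, sub_self]
  have h2 := hpos _ h1
  rw [RingHom.mem_ker] at ha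
  rw [map_sub, ha, ← hr', hstr, zero_sub, neg_eq_zero] at h2
  have h3 : (DirectSum.decompose (𝒮.deg U hU) a 0 : 𝒮.presheaf.obj (op U)) = 0 :=
    hr'.symm.trans ((congrArg (𝒮.str.app (op U)).hom h2).trans (map_zero _))
  rwa [h3, sub_zero] at h1

variable {ε : Y ⟶ 𝒮.toQCAlg.spec} (hε : RelCone.IsVertex 𝒮 aug ε)

include h0 haug hε in
theorem mem_range_vertex_iff (U : Y.Opens) (hU : IsAffineOpen U) (t : Spec (𝒮.presheaf.obj (op U))) :
    𝒮.toQCAlg.ι U hU t ∈ Set.range ε.base ↔ ((𝒮.deg U hU)₊).toIdeal ≤ t.asIdeal := by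
  have hs : Function.Surjective (aug.hom.app (op U)).hom := fun r =>
    ⟨(𝒮.str.app (op U)).hom r, congr($(congrArg (fun k : Y.presheaf ⟶ Y.presheaf => k.app (op U)) aug.comm) r)⟩
  rw [← ker_aug h0 haug U hU]
  have hr : Set.range (Spec.map (aug.hom.app (op U))).base =
      PrimeSpectrum.zeroLocus (RingHom.ker (aug.hom.app (op U)).hom : Set (𝒮.presheaf.obj (op U))) :=
    range_comap_of_surjective _ _ hs
  constructor
  · rintro ⟨y, hy⟩
    have hπt : 𝒮.toQCAlg.π (𝒮.toQCAlg.ι U hU t) ∈ U := (𝒮.toQCAlg.π_preimage U hU).ge ⟨t, rfl⟩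
    have hyU : y ∈ U := by
      rw [← hy, ← Scheme.Hom.comp_apply, hε.comp_π] at hπt
      exact hπt
    rw [← hU.opensRange_fromSpec] at hyU
    obtain ⟨w, rfl⟩ := hyU
    have hy' : 𝒮.toQCAlg.ι U hU (Spec.map (aug.hom.app (op U)) w) = 𝒮.toQCAlg.ι U hU t :=
      ((Scheme.Hom.comp_apply _ _ _).symm.trans (congrArg (fun k => k.base w) (hε.chart U hU).symm)).trans
        ((Scheme.Hom.comp_apply _ _ _).trans hy)
    have hw : Spec.map (aug.hom.app (op U)) w = t := (𝒮.toQCAlg.ι U hU).isOpenEmbedding.injective hy'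
    exact (PrimeSpectrum.mem_zeroLocus _ _).1 (hr.le ⟨w, hw⟩)
  · intro h
    obtain ⟨w, hw⟩ := hr.ge ((PrimeSpectrum.mem_zeroLocus _ _).2 h)
    refine ⟨hU.fromSpec w, ?_⟩
    exact ((Scheme.Hom.comp_apply _ _ _).symm.trans (congrArg (fun k => k.base w) (hε.chart U hU))).trans
      ((Scheme.Hom.comp_apply _ _ _).trans (congrArg (𝒮.toQCAlg.ι U hU) hw))

include h0 haug hε in
theorem pointedCone_eq_compl :
    ((RelCone.pointedCone 𝒮 : 𝒮.toQCAlg.spec.Opens) : Set 𝒮.toQCAlg.spec) = (Set.range ε.base)ᶜ := by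
  ext x
  rw [SetLike.mem_coe, Set.mem_compl_iff, ConeRetrRel.mem_pointedCone_iff]
  constructor
  · rintro ⟨U, hU, d, hd, f, t, hf, hft, rfl⟩ hmem
    exact hft ((mem_range_vertex_iff h0 haug hε U hU t).1 hmem (HomogeneousIdeal.mem_irrelevant_of_mem _ hd hf))
  · intro hx
    obtain ⟨U, hU⟩ := Opens.mem_iSup.1 ((iSup_affineOpens_eq_top Y).ge (Set.mem_univ (𝒮.toQCAlg.π x)))
    obtain ⟨t, rfl⟩ := (𝒮.toQCAlg.π_preimage U.1 U.2).le hU
    rw [mem_range_vertex_iff h0 haug hε U.1 U.2 t] at hx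
    obtain ⟨d, hd, f, hf, hft⟩ : ∃ d, 0 < d ∧ ∃ f ∈ 𝒮.deg U.1 U.2 d, f ∉ t.asIdeal := by
      by_contra hc
      push Not at hc
      exact hx ((HomogeneousIdeal.toIdeal_irrelevant_le (𝒮.deg U.1 U.2)).2 fun d hd a ha => hc d hd a ha)
    exact ⟨U.1, U.2, d, hd, f, t, hf, hft, rfl⟩

variable {PC : Scheme.{u}} {𝒮h : QCGrAlg Y} {ι : 𝒮.toQCAlg ⟶ 𝒮h.toQCAlg} {z : 𝒮h.presheaf.obj (op ⊤)}
  (hz : RelCone.IsPolyOver 𝒮 𝒮h ι z) {pC : PC ⟶ Y}
  {chartC : ∀ (U : Y.Opens) (hU : IsAffineOpen U), (((pC ⁻¹ᵁ U : PC.Opens) : Scheme.{u}) ≅ Proj (𝒮h.deg U hU))}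
  (hPC : IsRelProj 𝒮h pC chartC) {i : 𝒮.toQCAlg.spec ⟶ PC} (hi : RelCone.IsConeImm 𝒮 hz pC chartC i)

include hPC hi in
theorem coneImm_mem_pointed_iff (w : 𝒮.toQCAlg.spec) :
    i w ∈ RelCone.pointedProjCone 𝒮 hz pC chartC ↔ w ∈ RelCone.pointedCone 𝒮 := by
  refine ⟨fun h => ?_, fun h => ConeRetrRel.pointedCone_le hz hPC hi h⟩
  obtain ⟨U, hU, d, hd, f, hf, hx⟩ := (PolyCone.mem_pointed_iff hz chartC _).1 h
  obtain ⟨t, ht, rfl⟩ := (ConeRetrRel.coneImm_mem_cb_iff hz hPC hi U hU hd f hf w).1 hx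
  exact (ConeRetrRel.mem_pointedCone_iff _).2 ⟨U, hU, d, hd, f, t, hf, ht, rfl⟩

include hPC hi in
theorem mem_pointed_or_range (x : PC) : x ∈ RelCone.pointedProjCone 𝒮 hz pC chartC ∨ x ∈ Set.range i.base := by
  obtain ⟨⟨U, hU⟩, hxU⟩ := Opens.mem_iSup.1 ((iSup_affineOpens_eq_top Y).ge (Set.mem_univ (pC x)))
  by_cases hzx : x ∈ Set.range i.base
  · exact Or.inr hzx
  left
  obtain ⟨w, rfl⟩ := exists_emb_eq (chart := chartC) hU hxU
  rw [ConeImm.mem_cb_z_iff hz hi hPC _ U hU hxU, emb_mem_cb_iff] at hzx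
  obtain ⟨d, hd, a, ha, haw⟩ := PolyCone.exists_base_notMem hz U hU w (by
    by_contra h
    exact hzx h)
  exact (PolyCone.mem_pointed_iff hz chartC _).2 ⟨U, hU, d, hd, a, ha, w, haw, rfl⟩

include h0 haug hε hPC hi in
theorem pointedProjCone_eq_compl :
    ((RelCone.pointedProjCone 𝒮 hz pC chartC : PC.Opens) : Set PC) = (Set.range (ε ≫ i).base)ᶜ := by
  ext x
  rw [SetLike.mem_coe, Set.mem_compl_iff]
  constructor
  · rintro hx ⟨y, rfl⟩
    rw [Scheme.Hom.comp_apply, coneImm_mem_pointed_iff hz hPC hi, ← SetLike.mem_coe,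
      pointedCone_eq_compl h0 haug hε] at hx
    exact hx ⟨y, rfl⟩
  · intro hx
    rcases mem_pointed_or_range hz hPC hi x with h | ⟨w, rfl⟩
    · exact h
    rw [coneImm_mem_pointed_iff hz hPC hi, ← SetLike.mem_coe, pointedCone_eq_compl h0 haug hε]
    rintro ⟨y, rfl⟩
    exact hx ⟨y, (Scheme.Hom.comp_apply _ _ _)⟩

include hz in
theorem ker_retraction_le (θ : 𝒮h.toQCAlg ⟶ 𝒮.toQCAlg) (hιθ : ι ≫ θ = 𝟙 _)
    (hθz : (θ.hom.app (op ⊤)).hom z = 0) (U : Y.Opens) (hU : IsAffineOpen U) :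
    RingHom.ker (θ.hom.app (op U)).hom ≤ Ideal.span {RelCone.restrictTop 𝒮h z U} := by
  intro b hb
  obtain ⟨p, rfl⟩ := (hz.bij U hU).2 b
  have hι : ∀ a, (θ.hom.app (op U)).hom ((ι.hom.app (op U)).hom a) = a := fun a =>
    congr($(congrArg (fun k : 𝒮.toQCAlg ⟶ 𝒮.toQCAlg => k.hom.app (op U)) hιθ) a)
  have hzU : (θ.hom.app (op U)).hom (RelCone.restrictTop 𝒮h z U) = 0 := by
    refine (ConcreteCategory.congr_hom (θ.hom.naturality (homOfLE (le_top : U ≤ ⊤)).op) z).trans ?_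
    rw [CommRingCat.comp_apply, hθz]
    exact map_zero _
  have h1 := congrArg (Polynomial.eval₂RingHom (ι.hom.app (op U)).hom (RelCone.restrictTop 𝒮h z U))
    (Polynomial.divX_mul_X_add p)
  rw [map_add, map_mul] at h1
  simp only [Polynomial.coe_eval₂RingHom, Polynomial.eval₂_X, Polynomial.eval₂_C] at h1
  rw [RingHom.mem_ker, Polynomial.coe_eval₂RingHom, ← h1, map_add, map_mul, hzU, mul_zero, zero_add, hι] at hb
  rw [Polynomial.coe_eval₂RingHom, ← h1, hb, map_zero, add_zero]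
  exact Ideal.mul_mem_left _ _ (Ideal.subset_span rfl)

/-- A point containing the kernel of a surjective graded homomorphism comes from `Proj.map`. -/
theorem exists_map_eq {A B σ τ : Type u} [CommRing A] [SetLike σ A] [AddSubgroupClass σ A] [CommRing B]
    [SetLike τ B] [AddSubgroupClass τ B] {𝒜 : ℕ → σ} [GradedRing 𝒜] {ℬ : ℕ → τ} [GradedRing ℬ]
    (φ : 𝒜 →+*ᵍ ℬ) (hφ : ℬ₊ ≤ 𝒜₊.map φ) (hs : Function.Surjective φ) (x : Proj 𝒜)
    (hk : RingHom.ker φ.toRingHom ≤ x.asHomogeneousIdeal.toIdeal)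
    {d : ℕ} (hd : 0 < d) {a : A} (ha : φ a ∈ ℬ d) (hax : a ∉ x.asHomogeneousIdeal.toIdeal) :
    ∃ y : Proj ℬ, Proj.map φ hφ y = x := by
  let J := x.asHomogeneousIdeal.map φ
  have hcomap : J.toIdeal.comap φ.toRingHom = x.asHomogeneousIdeal.toIdeal := by
    exact (Ideal.comap_map_of_surjective φ.toRingHom hs _).trans (sup_eq_left.2 hk)
  have hp : J.toIdeal.IsPrime := Ideal.map_isPrime_of_surjective (f := φ.toRingHom) hs hk
  refine ⟨⟨J, hp, fun hle => hax ?_⟩, ProjectiveSpectrum.ext (HomogeneousIdeal.toIdeal_injective hcomap)⟩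
  rw [← hcomap]
  exact hle (HomogeneousIdeal.mem_irrelevant_of_mem ℬ hd ha)

include hz hPC hi in
theorem range_coneImm_eq_compl (θ : 𝒮h.toQCAlg ⟶ 𝒮.toQCAlg) (hθ : RelProj.IsGradedHom θ) (hιθ : ι ≫ θ = 𝟙 _)
    (hθz : (θ.hom.app (op ⊤)).hom z = 0)
    (hirr : ∀ (U : Y.Opens) (hU : IsAffineOpen U),
      (𝒮.deg U hU)₊ ≤ ((𝒮h.deg U hU)₊).map (RelProj.gradedHomAt θ hθ U hU))
    {P : Scheme.{u}} {p : P ⟶ Y}
    {chart : ∀ (U : Y.Opens) (hU : IsAffineOpen U), (((p ⁻¹ᵁ U : P.Opens) : Scheme.{u}) ≅ Proj (𝒮.deg U hU))}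
    (hP : RelProj.IsRelProj 𝒮 p chart) {j : P ⟶ PC} (hj : RelProj.IsRelProjMap θ hθ hirr chartC chart j) :
    Set.range i.base = (Set.range j.base)ᶜ := by
  have hj2 : ∀ (U : Y.Opens) (hU : IsAffineOpen U),
      emb p chart U hU ≫ j = Proj.map (gradedHomAt θ hθ U hU) (hirr U hU) ≫ emb pC chartC U hU := fun U hU => by
    simp only [emb, Category.assoc, hj U hU, Iso.inv_hom_id_assoc]
  have hzU : ∀ (U : Y.Opens) (hU : IsAffineOpen U),
      gradedHomAt θ hθ U hU (RelCone.restrictTop 𝒮h z U) = 0 := fun U hU => by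
    refine (ConcreteCategory.congr_hom (θ.hom.naturality (homOfLE (le_top : U ≤ ⊤)).op) z).trans ?_
    rw [CommRingCat.comp_apply, hθz]
    exact map_zero _
  ext x
  rw [Set.mem_compl_iff]
  constructor
  · rintro hx ⟨y, rfl⟩
    obtain ⟨⟨U, hU⟩, hyU⟩ := Opens.mem_iSup.1 ((iSup_affineOpens_eq_top Y).ge (Set.mem_univ (p y)))
    obtain ⟨w, rfl⟩ := exists_emb_eq (chart := chart) hU hyU
    rw [← Scheme.Hom.comp_apply, hj2 U hU, Scheme.Hom.comp_apply] at hx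
    have hxU : pC (emb pC chartC U hU (Proj.map (gradedHomAt θ hθ U hU) (hirr U hU) w)) ∈ U :=
      (opensRange_emb (p := pC) (chart := chartC) U hU).le ⟨_, rfl⟩
    rw [ConeImm.mem_cb_z_iff hz hi hPC _ U hU hxU, emb_mem_cb_iff] at hx
    exact hx (show gradedHomAt θ hθ U hU (RelCone.restrictTop 𝒮h z U) ∈ w.asHomogeneousIdeal.toIdeal by
      rw [hzU U hU]; exact zero_mem _)
  · intro hx
    by_contra hnot
    obtain ⟨⟨U, hU⟩, hxU⟩ := Opens.mem_iSup.1 ((iSup_affineOpens_eq_top Y).ge (Set.mem_univ (pC x)))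
    obtain ⟨w, rfl⟩ := exists_emb_eq (chart := chartC) hU hxU
    rw [ConeImm.mem_cb_z_iff hz hi hPC _ U hU hxU, emb_mem_cb_iff] at hnot
    have hzw : RelCone.restrictTop 𝒮h z U ∈ w.asHomogeneousIdeal := by
      by_contra h
      exact hnot h
    obtain ⟨d, hd, a, ha, haw⟩ := PolyCone.exists_base_notMem hz U hU w hzw
    have hι : ∀ b, gradedHomAt θ hθ U hU (gradedHomAt ι hz.graded U hU b) = b := fun b =>
      congr($(congrArg (fun k : 𝒮.toQCAlg ⟶ 𝒮.toQCAlg => k.hom.app (op U)) hιθ) b)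
    obtain ⟨y, hy⟩ := exists_map_eq (gradedHomAt θ hθ U hU) (hirr U hU) (fun b => ⟨_, hι b⟩) w
      ((ker_retraction_le hz θ hιθ hθz U hU).trans
        (Ideal.span_le.2 (Set.singleton_subset_iff.2 hzw))) hd ((hι a).symm ▸ ha) haw
    refine hx ⟨emb p chart U hU y, ?_⟩
    rw [← Scheme.Hom.comp_apply, hj2 U hU, Scheme.Hom.comp_apply, hy]

end Groth.Agent.H11QMap.ConeVertex
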