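import Groth.Agent.H11QMap.RelAmpleQ
import Groth.Agent.H11Sym.VeryAmple

/-!
# Embedding modules of sections give immersions into `Proj(Sym E)`
-/

set_option autoImplicit false
set_option linter.style.haveILetI false

noncomputable section

universe u

open CategoryTheory CategoryTheory.Limits AlgebraicGeometry TopologicalSpace Opposite RelProj
open HomogeneousLocalization
open scoped HomogeneousIdeal
open Groth.Agent.H11Sym Groth.Agent.H11Tilde Groth.Agent.H11Ample Groth.Agent.H11Proj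

namespace Groth.Agent.H11QMap

variable {X Y P PL : Scheme.{u}} {q : X ⟶ Y} {L : X.Modules} {E : Y.Modules} {𝒮 : QCGrAlg Y} {𝒮L : QCGrAlg X}
  {j : L ⟶ 𝒮L.toModule} (u : QGrHom q 𝒮 𝒮L) {jE : E ⟶ 𝒮.toModule}
  {w : E ⟶ (Scheme.Modules.pushforward q).obj L}
  {p : P ⟶ Y} {chart : ∀ (U : Y.Opens) (hU : IsAffineOpen U), (((p ⁻¹ᵁ U : P.Opens) : Scheme.{u}) ≅ Proj (𝒮.deg U hU))}
  {pL : PL ⟶ X}
  {chartL : ∀ (U : X.Opens) (hU : IsAffineOpen U), (((pL ⁻¹ᵁ U : PL.Opens) : Scheme.{u}) ≅ Proj (𝒮L.deg U hU))}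
  (hPL : IsRelProj 𝒮L pL chartL) (hL : PicF.IsInvertible L) (hLq : Coh.IsQCoh L) (hj : IsGrSymAlg L 𝒮L j)
  (hjE : ∀ (U : Y.Opens) (hU : IsAffineOpen U) (m : Γ(E, U)), (japp (B := 𝒮.toQCAlg) jE U m) ∈ 𝒮.deg U hU 1)
  (hw : ∀ (U : Y.Opens) (m : Γ(E, U)), (u.app U).hom (japp (B := 𝒮.toQCAlg) jE U m) = (j.app (q ⁻¹ᵁ U)) (w.app U m))

include hw in
theorem appLE_jE {U : Y.Opens} (m : Γ(E, U)) {V : X.Opens} (hV : V ≤ q ⁻¹ᵁ U) :
    (u.appLE U V hV).hom ((japp (B := 𝒮.toQCAlg) jE U m)) = japp (B := 𝒮L.toQCAlg) j V (resS L hV (uSec w m)) := by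
  refine Eq.trans ?_ (japp_res (B := 𝒮L.toQCAlg) j hV _).symm
  exact congrArg (ares 𝒮L.toQCAlg hV) (hw U m)

include hjE hw in
/-- Functions in the ratio ring are fractions of homogeneous elements. -/
theorem exists_frac_of_mem_ratioRing (g : GenPt w) {c : Γ(X, g.V)} (hc : c ∈ g.ratioRing) :
    ∃ (k : ℕ) (s : 𝒮.presheaf.obj (op g.U)), s ∈ 𝒮.deg g.U g.hU k ∧
      astr 𝒮L.toQCAlg g.V c * (japp (B := 𝒮L.toQCAlg) j g.V (resS L g.le (uSec w g.m))) ^ k =
        (u.appLE g.U g.V g.le).hom s := by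
  have hm := appLE_jE u hw g.m g.le
  induction hc using Subring.closure_induction with
  | mem d hd =>
    rcases hd with ⟨r, rfl⟩ | ⟨n, hn⟩
    · refine ⟨0, astr 𝒮.toQCAlg g.U r, 𝒮.str_mem g.U g.hU r, ?_⟩
      rw [pow_zero, mul_one]
      exact (ConcreteCategory.congr_hom (u.str_appLE g.U g.V g.le) r).symm
    · refine ⟨1, (japp (B := 𝒮.toQCAlg) jE g.U n), hjE _ _ n, ?_⟩
      rw [pow_one, appLE_jE u hw n g.le, ← japp_smul, hn]
  | zero => exact ⟨0, 0, zero_mem _, by rw [map_zero, zero_mul, map_zero]⟩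
  | one => exact ⟨0, 1, SetLike.GradedOne.one_mem, by rw [map_one, pow_zero, mul_one, map_one]⟩
  | add a b _ _ iha ihb =>
    obtain ⟨k, s, hs, hsa⟩ := iha
    obtain ⟨l, t, ht, htb⟩ := ihb
    refine ⟨k + l, s * (japp (B := 𝒮.toQCAlg) jE g.U g.m) ^ l + (japp (B := 𝒮.toQCAlg) jE g.U g.m) ^ k * t, add_mem ?_ ?_, ?_⟩
    · have := SetLike.mul_mem_graded hs (SetLike.pow_mem_graded l (hjE _ g.hU g.m))
      rwa [smul_eq_mul, mul_one] at this
    · have := SetLike.mul_mem_graded (SetLike.pow_mem_graded k (hjE _ g.hU g.m)) ht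
      rwa [smul_eq_mul, mul_one] at this
    · rw [map_add, map_add, map_mul, map_mul, map_pow, map_pow, ← hsa, ← htb, hm]
      ring
  | neg a _ iha =>
    obtain ⟨k, s, hs, hsa⟩ := iha
    exact ⟨k, -s, neg_mem hs, by rw [map_neg, map_neg, neg_mul, hsa]⟩
  | mul a b _ _ iha ihb =>
    obtain ⟨k, s, hs, hsa⟩ := iha
    obtain ⟨l, t, ht, htb⟩ := ihb
    exact ⟨k + l, s * t, SetLike.mul_mem_graded hs ht, by rw [map_mul, map_mul, ← hsa, ← htb]; ring⟩

variable (hP : IsRelProj 𝒮 p chart)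
variable {r : (domQ u pL chartL : Scheme.{u}) ⟶ P} (hr : IsProjQMapOn u p chart pL chartL (domQ u pL chartL) r)
include hPL hL hLq hj hjE hw

/-- The standard open of an embedding point. -/
theorem exists_tlocU_of_embPt {x : X} (a : EmbPt w x) :
    ∃ (d : ℕ) (_ : 0 < d) (f : 𝒮.presheaf.obj (op a.U)) (_ : f ∈ 𝒮.deg a.U a.hU d)
      (hW : IsAffineOpen (LocU.tlocU u a.U f d)),
      x ∈ LocU.tlocU u a.U f d ∧ LocU.fracSub u a.hU hW le_rfl (s := f) (n := d) = ⊤ := by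
  let g : GenPt w := gMax w a.hU a.m
  let G := g.V
  let jG := japp (B := 𝒮L.toQCAlg) j G (resS L g.le (uSec w g.m))
  have hGU : G ≤ q ⁻¹ᵁ a.U := g.le
  obtain ⟨k, s, hs, hst⟩ : ∃ (k : ℕ) (s : 𝒮.presheaf.obj (op a.U)), s ∈ 𝒮.deg a.U a.hU k ∧
      astr 𝒮L.toQCAlg G a.t * jG ^ k = (u.appLE a.U G hGU).hom s :=
    exists_frac_of_mem_ratioRing u hjE hw g a.ht
  let f : 𝒮.presheaf.obj (op a.U) := s * (japp (B := 𝒮.toQCAlg) jE a.U a.m)
  have hf : f ∈ 𝒮.deg a.U a.hU (k + 1) := SetLike.mul_mem_graded hs (hjE _ a.hU a.m)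
  have hfG : (u.appLE a.U G hGU).hom f = tval j (resS L g.le (uSec w g.m)) a.t (k + 1) := by
    rw [map_mul, appLE_jE u hw a.m hGU, tval, pow_succ, ← mul_assoc]
    exact congrArg (· * jG) hst.symm
  have hmem : LocU.tlocU u a.U f (k + 1) = X.basicOpen a.t := by
    ext y
    constructor
    · intro hy
      have hyU : y ∈ q ⁻¹ᵁ a.U := LocU.tlocU_le u le_rfl hy
      obtain ⟨B, e, hyB, hBU, hB, he⟩ := exists_trivial_nhd (L := L) hL hyU
      obtain ⟨cs, hcs⟩ := exists_eq_str_mul_pow hLq hj hB he (gmem (u.gradedAt a.U a.hU B hB hBU) hs)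
      obtain ⟨cm, hcm⟩ := Groth.Agent.H11Ample.exists_coeff he (resS L hBU (uSec w a.m))
      have hfB : ares 𝒮L.toQCAlg hBU ((u.app a.U).hom f) = tval j e (cs * cm) (k + 1) := by
        change (u.appLE a.U B hBU).hom (s * _) = _
        rw [map_mul, appLE_jE u hw a.m hBU, hcm, japp_smul, tval, map_mul, pow_succ]
        change u.gradedAt a.U a.hU B hB hBU s * _ = _
        rw [hcs]
        exact mul_mul_mul_comm _ _ _ _
      have h1 := (mem_tlocU_iff_basicOpen u hPL hL hLq hj a.hU k.succ_pos hf hB hBU he hfB hyB).1 hy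
      rw [Scheme.basicOpen_mul] at h1
      have hyG : y ∈ G := by
        refine le_genAt _ ((X.basicOpen_le cm).trans hBU) ?_ h1.2
        rw [← resS_resS L (X.basicOpen_le cm) hBU, hcm, resS_smul]
        exact (he.res (X.basicOpen_le cm)).smul (RingedSpace.isUnit_res_basicOpen _ cm)
      obtain ⟨V, hV, hyV, hVG'⟩ := exists_isAffineOpen_mem_and_subset (U := G) hyG
      have hVG : V ≤ G := hVG'
      have h2 := (mem_tlocU_iff_basicOpen u hPL hL hLq hj a.hU k.succ_pos hf hV (hVG.trans hGU) (g.gen.res hVG)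
        (c := resF hVG a.t) ?_ hyV).1 hy
      · rw [Scheme.basicOpen_res] at h2
        exact h2.2
      · exact ((ares_ares 𝒮L.toQCAlg hGU hVG _).symm.trans (congrArg (ares 𝒮L.toQCAlg hVG) hfG)).trans
          (ares_tval j hVG _ a.t (k + 1))
    · intro hy
      obtain ⟨V, hV, hyV, hVG'⟩ := exists_isAffineOpen_mem_and_subset (U := G) (X.basicOpen_le a.t hy)
      have hVG : V ≤ G := hVG'
      refine (mem_tlocU_iff_basicOpen u hPL hL hLq hj a.hU k.succ_pos hf hV (hVG.trans hGU) (g.gen.res hVG)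
        (c := resF hVG a.t) ?_ hyV).2 ?_
      · exact ((ares_ares 𝒮L.toQCAlg hGU hVG _).symm.trans (congrArg (ares 𝒮L.toQCAlg hVG) hfG)).trans
          (ares_tval j hVG _ a.t (k + 1))
      · rw [Scheme.basicOpen_res]
        exact ⟨hyV, hy⟩
  have hW : IsAffineOpen (LocU.tlocU u a.U f (k + 1)) := hmem ▸ a.aff
  refine ⟨k + 1, k.succ_pos, f, hf, hW, hmem.ge a.mem, ?_⟩
  let D : X.Opens := LocU.tlocU u a.U f (k + 1)
  have hDt : D ≤ X.basicOpen a.t := hmem.le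
  have hDG : D ≤ G := hDt.trans (X.basicOpen_le a.t)
  have hDU : D ≤ q ⁻¹ᵁ a.U := LocU.tlocU_le u le_rfl
  let eD : Γ(L, D) := resS L hDG (resS L g.le (uSec w g.m))
  have hfD : (u.appLE a.U D hDU).hom f = tval j eD (resF hDG a.t) (k + 1) := by
    change _ = tval j (L.presheaf.map (homOfLE hDG).op _) (X.presheaf.map (homOfLE hDG).op a.t) (k + 1)
    rw [← ares_tval, ← hfG]
    exact (ConcreteCategory.congr_hom (u.appLE_map hGU hDG) f).symm
  have hbase : ∀ r, resF hDG ((q.appLE a.U G hGU).hom r) ∈ LocU.fracSub u a.hU hW le_rfl (s := f) (n := k + 1) := by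
    intro r
    rw [resF, ← RingHom.comp_apply, ← CommRingCat.hom_comp, Scheme.Hom.appLE_map]
    exact LocU.appLE_mem_fracSub u a.hU hPL hL hLq hj k.succ_pos hW le_rfl hf r
  have hring : ∀ c ∈ g.ratioRing, resF hDG c ∈ LocU.fracSub u a.hU hW le_rfl (s := f) (n := k + 1) := by
    refine fun c hc => (Subring.closure_le
      (t := (LocU.fracSub u a.hU hW le_rfl (s := f) (n := k + 1)).comap (resF hDG))).2 ?_ hc
    rintro d (⟨r, rfl⟩ | ⟨(n : Γ(E, a.U)), (hn : d • resS L hGU (uSec w a.m) = resS L hGU (uSec w n))⟩)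
    · exact hbase r
    · refine (LocU.mem_fracSub_iff u a.hU hPL hL hLq hj k.succ_pos hW le_rfl hf _).2
        ⟨1, (japp (B := 𝒮.toQCAlg) jE a.U n) * s, by
          rw [one_smul, Nat.succ_eq_add_one, add_comm k 1]
          exact SetLike.mul_mem_graded (hjE _ a.hU n) hs, ?_⟩
      change astr 𝒮L.toQCAlg D (resF hDG d) * ((u.appLE a.U D hDU).hom f) ^ 1 =
        (u.appLE a.U D hDU).hom (japp (B := 𝒮.toQCAlg) jE a.U n * s)
      rw [pow_one, hfD, map_mul (u.appLE a.U D hDU).hom, appLE_jE u hw n hDU,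
        show resS L hDU (uSec w n) = resF hDG d • eD from
          ((resS_resS L hDG hGU _).symm.trans (congrArg (resS L hDG) hn.symm)).trans (resS_smul L hDG d _), japp_smul,
        show (u.appLE a.U D hDU).hom s =
            astr 𝒮L.toQCAlg D (resF hDG a.t) * japp (B := 𝒮L.toQCAlg) j D eD ^ k from by
          rw [← ConcreteCategory.congr_hom (u.appLE_map hGU hDG) s]
          change ares 𝒮L.toQCAlg hDG ((u.appLE a.U G hGU).hom s) = _
          rw [← hst]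
          exact ares_tval j hDG _ a.t k]
      change astr 𝒮L.toQCAlg D (resF hDG d) * (astr 𝒮L.toQCAlg D _ * _) = _
      rw [pow_succ]
      ring
  have hu : IsUnit (resF hDG a.t) := by
    have h1 : IsUnit (resF (X.basicOpen_le a.t) a.t) := RingedSpace.isUnit_res_basicOpen _ a.t
    rw [← resF_resF hDt (X.basicOpen_le a.t)]
    exact h1.map _
  obtain ⟨v, hv⟩ := hu
  have hinv : (↑v⁻¹ : Γ(X, D)) ∈ LocU.fracSub u a.hU hW le_rfl (s := f) (n := k + 1) := by
    refine (LocU.mem_fracSub_iff u a.hU hPL hL hLq hj k.succ_pos hW le_rfl hf _).2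
      ⟨1, (japp (B := 𝒮.toQCAlg) jE a.U a.m) ^ (k + 1), by
        rw [one_smul]
        have := SetLike.pow_mem_graded (k + 1) (hjE _ a.hU a.m)
        rwa [smul_eq_mul, mul_one] at this, ?_⟩
    change astr 𝒮L.toQCAlg D ↑v⁻¹ * ((u.appLE a.U D hDU).hom f) ^ 1 =
      (u.appLE a.U D hDU).hom (japp (B := 𝒮.toQCAlg) jE a.U a.m ^ (k + 1))
    rw [pow_one, map_pow, appLE_jE u hw a.m hDU, hfD, tval, ← mul_assoc, ← hv]
    change astr 𝒮L.toQCAlg D ↑v⁻¹ * astr 𝒮L.toQCAlg D ↑v * _ = _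
    rw [← map_mul, Units.inv_mul, map_one, one_mul]
    exact congrArg (· ^ (k + 1)) (congrArg (japp (B := 𝒮L.toQCAlg) j D) (resS_resS L hDG hGU _))
  refine eq_top_iff.2 fun z _ => ?_
  obtain ⟨N, α, hα, e⟩ := a.surj (resF hmem.ge z)
  have h := congrArg (resF hmem.le) e
  simp only [map_mul, map_pow, resF_resF, resF_self] at h
  have hz : z = resF hDG α * (↑v⁻¹ : Γ(X, D)) ^ N := by
    rw [← h, mul_assoc, ← mul_pow, ← hv, Units.mul_inv, one_pow, mul_one]
  rw [hz]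
  exact mul_mem (hring α hα) (pow_mem hinv N)

include hP hr in
/-- An embedding module of sections makes `r` everywhere defined and an immersion. -/
theorem domQ_top_and_isImmersion_of_emb (h : Emb w) : domQ u pL chartL = ⊤ ∧ IsImmersion r := by
  have hloc : ∀ x : X, ∃ (U : Y.Opens) (hU : IsAffineOpen U) (d : ℕ) (_ : 0 < d) (f : 𝒮.presheaf.obj (op U))
      (_ : f ∈ 𝒮.deg U hU d) (hW : IsAffineOpen (LocU.tlocU u U f d)),
      x ∈ LocU.tlocU u U f d ∧ LocU.fracSub u hU hW le_rfl (s := f) (n := d) = ⊤ := fun x => by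
    obtain ⟨a⟩ := h x
    obtain ⟨d, hd, f, hf, hW, hx, hfr⟩ := exists_tlocU_of_embPt u hPL hL hLq hj hjE hw a
    exact ⟨a.U, a.hU, d, hd, f, hf, hW, hx, hfr⟩
  choose U hU d hd f hf hW hxf hfr using hloc
  refine ⟨eq_top_iff.2 fun z _ => ?_, H11Sym.isImmersion_of_local r (fun x => cb chart (U x) (hU x) (f x)) (fun z => ?_)
    fun x => ?_⟩
  · obtain ⟨⟨V, hle, hgen⟩, hzV⟩ := Opens.mem_iSup.1 (hxf (pL z))
    exact mem_domQ_of_genOn u chartL hPL hL hLq hj _ (hU (pL z)) (hd _) _ (hf (pL z)) V hle hgen hzV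
  · refine ⟨pL ((domQ u pL chartL).ι z), ?_⟩
    obtain ⟨⟨V, hle, hgen⟩, hzV⟩ := Opens.mem_iSup.1 (hxf (pL ((domQ u pL chartL).ι z)))
    exact (mem_preimage_cb_iff u chart chartL hPL hL hLq hj hP hr z _ (hU _) (hd _) _ (hf _)).2 ⟨V, hle, hzV, hgen⟩
  · exact (LocU.isClosedImmersion_cb_iff u (hU x) hPL hL hLq hj (hd x) hP hr (hf x)).2 ⟨hW x, hfr x⟩

end Groth.Agent.H11QMap
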