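import Groth.Agent.H11QMap.ClosedSubRelProj
import Groth.Agent.H11QMap.FTQ
import Groth.Agent.H11Sym.DegPiece
import Groth.Agent.H17.QCAlgSub
import Groth.Agent.H10Coh.FinType
import Groth.Agent.H10Coh.FinType2
import Groth.Agent.H11Tilde.ModLoc
import Groth.Agent.LeadDev.Stalks

/-!
# Closed subschemes of finite presentation of a relative Proj are cut out by a finite type module in one degree
-/

set_option autoImplicit false
set_option linter.style.haveILetI false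
set_option linter.unusedSectionVars false

noncomputable section

universe u

open CategoryTheory CategoryTheory.Limits AlgebraicGeometry TopologicalSpace Opposite RelProj
open HomogeneousLocalization
open scoped HomogeneousIdeal
open Groth.Agent.H11Proj Groth.Agent.H11Sym

namespace Groth.Agent.H11QMap

variable {S : Scheme.{u}}

theorem exists_kernel_app' {G H : S.Modules} (η : G ⟶ H) (V : S.Opens) (m : Γ(G, V))
    (hm : η.app V m = 0) : ∃ k, (kernel.ι η).app V k = m := by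
  have hK : (ShortComplex.mk (kernel.ι η) (Abelian.factorThruImage η) (by
      rw [← cancel_mono (Abelian.image.ι η), Category.assoc, Abelian.image.fac, kernel.condition,
        zero_comp])).ShortExact := by
    refine ShortComplex.ShortExact.mk' (ShortComplex.exact_of_f_is_kernel _ ?_) inferInstance inferInstance
    refine KernelFork.IsLimit.ofι' (kernel.ι η) _ fun {W} g hg => ⟨kernel.lift η g ?_, kernel.lift_ι _ _ _⟩
    refine Eq.trans (congrArg (g ≫ ·) (Abelian.image.fac η).symm) ?_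
    show g ≫ Abelian.factorThruImage η ≫ Abelian.image.ι η = 0
    rw [← Category.assoc, hg, zero_comp]
  exact Groth.Agent.H10Coh.exists_app_eq_of_exact hK V m (by
    refine Groth.Agent.H10Coh.injective_app_of_mono' (Abelian.image.ι η) V (Eq.trans ?_ (map_zero _).symm)
    refine Eq.trans ?_ hm
    exact congr($(congr(Scheme.Modules.Hom.app $(Abelian.image.fac η) V)) m))

section span

variable {𝒜 : QCGrAlg S} {F : S.Modules} (ι : F ⟶ 𝒜.toModule) {d : ℕ}
  (hι : ∀ (U : S.Opens) (hU : IsAffineOpen U) (x : Γ(F, U)), (ι.app U) x ∈ 𝒜.deg U hU d)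

/-- The ideal spanned by the values of `ι`. -/
abbrev spanI (U : S.Opens) : Ideal (𝒜.presheaf.obj (op U)) :=
  Ideal.span (Set.range (japp (B := 𝒜.toQCAlg) ι U))

include hι in
theorem spanI_hom (U : S.Opens) (hU : IsAffineOpen U) : (spanI ι U).IsHomogeneous (𝒜.deg U hU) :=
  Ideal.homogeneous_span _ _ (by rintro _ ⟨x, rfl⟩; exact ⟨d, hι U hU x⟩)

theorem res_mem_spanI {U V : S.Opens} (i : V ≤ U) {a : 𝒜.presheaf.obj (op U)} (ha : a ∈ spanI ι U) :
    resT 𝒜.presheaf i a ∈ spanI ι V := by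
  have := Ideal.mem_map_of_mem (resT 𝒜.presheaf i) ha
  rw [Ideal.map_span] at this
  refine Ideal.span_mono ?_ this
  rintro _ ⟨_, ⟨x, rfl⟩, rfl⟩
  exact ⟨F.presheaf.map (homOfLE i).op x, japp_res (B := 𝒜.toQCAlg) ι i x⟩

theorem clear_spanI (hF : Coh.IsQCoh F) (U : S.Opens) (hU : IsAffineOpen U) (r : Γ(S, U))
    (z : 𝒜.presheaf.obj (op (S.basicOpen r))) (hz : z ∈ spanI ι (S.basicOpen r)) :
    ∃ (m : ℕ) (q : 𝒜.presheaf.obj (op U)), q ∈ spanI ι U ∧
      resT 𝒜.presheaf (S.basicOpen_le r) q =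
        resT 𝒜.presheaf (S.basicOpen_le r) (strT 𝒜.str U r) ^ m * z := by
  haveI : F.IsQuasicoherent := hF
  let ρ := resT 𝒜.presheaf (S.basicOpen_le r)
  induction hz using Submodule.span_induction with
  | mem z hz =>
    obtain ⟨x, rfl⟩ := hz
    obtain ⟨m, y, hy⟩ := H10Coh.exists_pow_smul_eq_res F hU r x
    refine ⟨m, japp (B := 𝒜.toQCAlg) ι U y, Ideal.subset_span ⟨y, rfl⟩, ?_⟩
    refine (japp_res (B := 𝒜.toQCAlg) ι (S.basicOpen_le r) y).symm.trans ?_
    rw [hy, japp_smul]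
    congr 1
    rw [← map_pow, ← map_pow]
    exact (resT_str 𝒜.presheaf 𝒜.str (S.basicOpen_le r) (r ^ m)).symm
  | zero => exact ⟨0, 0, zero_mem _, by simp⟩
  | add a b _ _ ha hb =>
    obtain ⟨m, q, hq, e⟩ := ha
    obtain ⟨m', q', hq', e'⟩ := hb
    refine ⟨m + m', strT 𝒜.str U r ^ m' * q + strT 𝒜.str U r ^ m * q',
      add_mem (Ideal.mul_mem_left _ _ hq) (Ideal.mul_mem_left _ _ hq'), ?_⟩
    rw [map_add, map_mul, map_mul, map_pow, map_pow, e, e', pow_add]
    ring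
  | smul c a _ ha =>
    obtain ⟨m, q, hq, e⟩ := ha
    letI := (𝒜.presheaf.map (homOfLE (S.basicOpen_le r)).op).hom.toAlgebra
    haveI : IsLocalization.Away (strT 𝒜.str U r) (𝒜.presheaf.obj (op (S.basicOpen r))) := 𝒜.isQC U hU r
    obtain ⟨⟨c₀, _, k, rfl⟩, hc⟩ := IsLocalization.surj (Submonoid.powers (strT 𝒜.str U r)) c
    refine ⟨k + m, c₀ * q, Ideal.mul_mem_left _ _ hq, ?_⟩
    have hc' : c * ρ (strT 𝒜.str U r) ^ k = ρ c₀ := by rw [← map_pow]; exact hc
    change ρ (c₀ * q) = ρ (strT 𝒜.str U r) ^ (k + m) * (c • a)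
    rw [map_mul, e, ← hc', smul_eq_mul, pow_add]
    ring

include hι in
/-- The system of ideals generated by `ι`. -/
def spanSys (hF : Coh.IsQCoh F) : IdSys 𝒜 where
  I U _ := spanI ι U
  hom U hU n _ ha := spanI_hom ι hι U hU n ha
  res_mem _ _ i _ ha := res_mem_spanI ι i ha
  clear U hU r z hz := clear_spanI ι hF U hU r z hz

end span

variable {P Z : Scheme.{u}} {𝒜 : QCGrAlg S} {p : P ⟶ S}
  {chart : ∀ (U : S.Opens) (hU : IsAffineOpen U), (((p ⁻¹ᵁ U : P.Opens) : Scheme.{u}) ≅ Proj (𝒜.deg U hU))}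
  (hP : IsRelProj 𝒜 p chart) (i : Z ⟶ P)

include hP in
/-- The closed subscheme defined by a system of homogeneous ideals. -/
theorem exists_quot (Y : IdSys 𝒜) :
    ∃ (PB : Scheme.{u}) (pB : PB ⟶ S)
      (chartB : ∀ (U : S.Opens) (hU : IsAffineOpen U), (((pB ⁻¹ᵁ U : PB.Opens) : Scheme.{u}) ≅ Proj (Y.alg.deg U hU)))
      (h : PB ⟶ P),
      IsClosedImmersion h ∧ RelProj.IsRelProj Y.alg pB chartB ∧
        RelProj.IsProjQMap (RelProj.QGrHom.ofHom Y.quo Y.isGradedHom_quo) p chart pB chartB h ∧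
        ∀ (U : S.Opens) (hU : IsAffineOpen U) (d : ℕ) (hd : 0 < d) (f : 𝒜.presheaf.obj (op U))
          (hf : f ∈ 𝒜.deg U hU d) (m : ℕ) (y : 𝒜.presheaf.obj (op U)) (hy : y ∈ 𝒜.deg U hU (m • d)),
          Away.mk (𝒜.deg U hU) hf m y hy ∈ jk h (Proj.awayι (𝒜.deg U hU) f hf hd ≫ emb p chart U hU) ↔
            ∃ N : ℕ, f ^ N * y ∈ Y.I U hU := by
  classical
  obtain ⟨PB, pB, chartB, hB⟩ := exists_isRelProj Y.alg
  have hs : ∀ k, 0 ≤ k → ∀ (U : S.Opens) (hU : IsAffineOpen U),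
      Set.SurjOn (RelProj.gradedHomAt Y.quo Y.isGradedHom_quo U hU) (𝒜.deg U hU k) (Y.alg.deg U hU k) :=
    fun k _ U hU b hb => by
      obtain ⟨a, rfl⟩ := Y.quo_surjective hU b
      refine ⟨_, (DirectSum.decompose (𝒜.deg U hU) a k).2, ?_⟩
      rw [decompose_map_hom]
      exact DirectSum.decompose_of_mem_same _ hb
  have hdom := domQ_eq_top_of_surjOn (chartB := chartB) Y.quo Y.isGradedHom_quo hs
  obtain ⟨h, hh⟩ := exists_isProjQMap _ chart chartB hP hB hdom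
  have himm : IsClosedImmersion h := property_of_on _ chart chartB hh (Q := @IsClosedImmersion) fun r hr =>
    qmap_of_charts Y.quo Y.isGradedHom_quo hP hB hr (Q := @IsClosedImmersion) fun U hU d hd f hf =>
      IsClosedImmersion.spec_of_surjective _
        (away_map_surjective_of_surjOn _ (surjOn_ofHom Y.quo Y.isGradedHom_quo hs U hU) hd hf)
  refine ⟨PB, pB, chartB, h, himm, hB, hh, fun U hU d hd f hf m y hy => ?_⟩
  let u := RelProj.QGrHom.ofHom Y.quo Y.isGradedHom_quo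
  haveI := isIso_domQ_ι u chartB hdom
  have hr := isProjQMapOn_of_isProjQMap u chart chartB hh
  have H0 := isPullback_chart u chart chartB hP hB hr U hU U hU le_rfl le_rfl hd f hf
  have H : IsPullback (Spec.map (CommRingCat.ofHom (Away.map (u.gradedAt U hU U hU le_rfl) f)))
      (lchart u chartB ⟨⟨U, hU⟩, ⟨U, hU⟩, le_rfl, d, hd, f, hf⟩ ≫ (domQ u pB chartB).ι)
      (Proj.awayι (𝒜.deg U hU) f hf hd ≫ emb p chart U hU) h :=
    H0.of_iso (Iso.refl _) (Iso.refl _) (asIso (domQ u pB chartB).ι) (Iso.refl _)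
      (by simp) (by simp) (by simp) (by simp)
  rw [jk_eq_ker h _ _ _ H]
  have hq : ∀ a : 𝒜.presheaf.obj (op U),
      u.gradedAt U hU U hU le_rfl a = 0 ↔ a ∈ Y.I U hU := fun a => by
    rw [ofHom_gradedAt_eq]
    exact Iff.trans RingHom.mem_ker.symm (SetLike.ext_iff.1 (Y.ker_quo hU) a)
  rw [RingHom.mem_ker]
  change Away.map (u.gradedAt U hU U hU le_rfl) f (Away.mk (𝒜.deg U hU) hf m y hy) = 0 ↔ _
  rw [Away.map_mk, ← (HomogeneousLocalization.val_injective _).eq_iff, HomogeneousLocalization.val_zero,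
    Away.val_mk, mk_eq_zero_iff_exists_pow]
  exact exists_congr fun N => by rw [← map_pow, ← map_mul, hq]

/-- The functions vanishing on a closed immersion of finite presentation form a finitely generated ideal. -/
theorem fg_jk [IsClosedImmersion i] [LocallyOfFinitePresentation i] {R : CommRingCat.{u}} (ψ : Spec R ⟶ P) :
    (jk i ψ).FG := by
  haveI : IsClosedImmersion (pullback.snd i ψ) := MorphismProperty.pullback_snd _ _ inferInstance
  haveI : LocallyOfFinitePresentation (pullback.snd i ψ) := MorphismProperty.pullback_snd _ _ inferInstance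
  haveI : IsAffine (pullback i ψ) := isAffine_of_isAffineHom (pullback.snd i ψ)
  have hs : Function.Surjective (pullback.snd i ψ).appTop :=
    (isClosedImmersion_iff_isAffineHom.1 inferInstance).2 ⊤ (isAffineOpen_top _)
  have hfp : (pullback.snd i ψ).appTop.hom.FinitePresentation :=
    HasRingHomProperty.appTop @LocallyOfFinitePresentation (pullback.snd i ψ) inferInstance
  have hb := ConcreteCategory.bijective_of_isIso (Scheme.ΓSpecIso R).inv
  have hfp' : (jmap i ψ).hom.FinitePresentation := hfp.comp (RingHom.FinitePresentation.of_bijective hb)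
  have hs' : Function.Surjective (jmap i ψ).hom := hs.comp hb.2
  letI := (jmap i ψ).hom.toAlgebra
  haveI : Algebra.FinitePresentation R Γ(pullback i ψ, ⊤) := hfp'
  exact Algebra.FinitePresentation.ker_fG_of_surjective (Algebra.ofId R Γ(pullback i ψ, ⊤)) hs'

/-- The ideal is everything where the closed subscheme is empty. -/
theorem cIdeal_eq_top (U : S.Opens) (hU : IsAffineOpen U) (hUZ : Disjoint (U : Set S) (Set.range (i ≫ p).base)) :
    CIdeal chart i U hU = ⊤ := by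
  refine eq_top_iff.2 fun a _ d hd f hf => ?_
  have hJ : CI.J (𝒜.deg U hU) i (emb p chart U hU) hd hf = ⊤ := by
    haveI : IsEmpty ↥(pullback i (Proj.awayι (𝒜.deg U hU) f hf hd ≫ emb p chart U hU)) := by
      refine ⟨fun z => ?_⟩
      have h1 : i (pullback.fst i (Proj.awayι (𝒜.deg U hU) f hf hd ≫ emb p chart U hU) z) ∈ p ⁻¹ᵁ U := by
        rw [← Scheme.Hom.comp_apply, pullback.condition, Scheme.Hom.comp_apply]
        exact (H11Tilde.opensRange_emb p chart U hU).le ⟨_, (Scheme.Hom.comp_apply _ _ _).symm⟩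
      exact Set.disjoint_left.1 hUZ h1 ⟨_, rfl⟩
    refine eq_top_iff.2 fun x _ => (mem_jk _ _).2 (Subsingleton.elim _ _)
  refine ⟨1, Ideal.mul_mem_right _ _ (Ideal.subset_span ⟨1, by simpa using hf, ?_⟩)⟩
  rw [hJ]
  trivial

include hP in
theorem ker_eq_ker {Q : Scheme.{u}} (h : Q ⟶ P) [QuasiCompact h] [QuasiCompact i] {L : Type*}
    (U : L → S.affineOpens) (hUcov : ∀ s : S, ∃ l, s ∈ (U l).1)
    (κ : L → Type*) (g : ∀ l, κ l → 𝒜.presheaf.obj (op (U l).1)) (dg : ∀ l, κ l → ℕ)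
    (hdg : ∀ l j, 0 < dg l j) (hg : ∀ l j, g l j ∈ 𝒜.deg (U l).1 (U l).2 (dg l j))
    (hcov : ∀ l, ∀ x : Proj (𝒜.deg (U l).1 (U l).2), ∃ j, g l j ∉ x.asHomogeneousIdeal)
    (hjk : ∀ l j, jk h (Proj.awayι _ (g l j) (hg l j) (hdg l j) ≫ emb p chart (U l).1 (U l).2) =
      jk i (Proj.awayι _ (g l j) (hg l j) (hdg l j) ≫ emb p chart (U l).1 (U l).2)) :
    i.ker = h.ker := by
  refine Scheme.IdealSheafData.ext_of_iSup_eq_top
    (fun j : Σ l, κ l =>
      (⟨cb chart (U j.1).1 (U j.1).2 (g j.1 j.2), isAffineOpen_cb (U j.1).1 (U j.1).2 (hdg j.1 j.2) _ (hg j.1 j.2)⟩ :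
        P.affineOpens))
    (top_le_iff.1 fun z _ => ?_) fun j => ?_
  · obtain ⟨l, hl⟩ := hUcov (p z)
    obtain ⟨w, hw⟩ : z ∈ (emb p chart (U l).1 (U l).2).opensRange :=
      (H11Tilde.opensRange_emb p chart (U l).1 (U l).2).ge hl
    obtain ⟨j, hj⟩ := hcov l w
    refine Opens.mem_iSup.2 ⟨⟨l, j⟩, ?_⟩
    change z ∈ cb chart (U l).1 (U l).2 (g l j)
    exact ⟨w, hj, hw⟩
  · rw [Scheme.Hom.ker_apply, Scheme.Hom.ker_apply]
    ext s
    exact (app_eq_zero_iff_of_jk i h _ (hjk j.1 j.2) (opensRange_awayι_emb _ _ (hdg j.1 j.2) _ (hg j.1 j.2)) s).symm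

include hP in
/-- A closed subscheme of finite presentation is cut out by a finite type module in one degree, which may be
asked to contain prescribed elements of that degree vanishing on it. -/
theorem exists_fgen_quot [CompactSpace S] [QuasiSeparatedSpace S] [QuasiCompact p] [IsClosedImmersion i]
    [LocallyOfFinitePresentation i] {K : Type u} [Finite K] (W : K → S.affineOpens)
    (T : ∀ (k : K) (n : ℕ), Finset (𝒜.presheaf.obj (op (W k).1)))
    (hT : ∀ k n, ∀ t ∈ T k n, t ∈ 𝒜.deg (W k).1 (W k).2 n ∧ t ∈ CIdeal chart i (W k).1 (W k).2) :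
    ∃ (d : ℕ) (_ : 0 < d) (F : S.Modules) (hF : Coh.IsQCoh F) (_ : CohB1.IsFT F) (ι : F ⟶ 𝒜.toModule)
      (hι : ∀ (U : S.Opens) (hU : IsAffineOpen U) (x : Γ(F, U)), (ι.app U) x ∈ 𝒜.deg U hU d)
      (PB : Scheme.{u}) (pB : PB ⟶ S)
      (chartB : ∀ (U : S.Opens) (hU : IsAffineOpen U),
        (((pB ⁻¹ᵁ U : PB.Opens) : Scheme.{u}) ≅ Proj ((spanSys ι hι hF).alg.deg U hU)))
      (h : PB ⟶ P) (e : PB ≅ Z),
      RelProj.IsRelProj (spanSys ι hι hF).alg pB chartB ∧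
        RelProj.IsProjQMap (RelProj.QGrHom.ofHom (spanSys ι hι hF).quo (spanSys ι hι hF).isGradedHom_quo)
          p chart pB chartB h ∧
        e.hom ≫ i = h ∧ ∀ k, ∀ t ∈ T k d, t ∈ Set.range (japp (B := 𝒜.toQCAlg) ι (W k).1) := by
  classical
  -- a finite affine cover of the base and finite covers of the charts
  obtain ⟨Λ, hΛ⟩ := isCompact_univ.elim_finite_subcover (fun U : S.affineOpens => (U.1 : Set S))
    (fun U => U.1.isOpen) (fun s _ => Set.mem_iUnion.2 (Opens.mem_iSup.1 ((iSup_affineOpens_eq_top S).ge (Set.mem_univ s))))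
  choose κ hκ g dg hdg hg hcov using fun U : {U : S.affineOpens // U ∈ Λ} =>
    exists_finite_cover (chart := chart) U.1.1 U.1.2
  have hgen : ∀ (l : {U : S.affineOpens // U ∈ Λ}) (j : κ l), ∃ G : Finset (Away (𝒜.deg l.1.1 l.1.2) (g l j)),
      Ideal.span (G : Set (Away (𝒜.deg l.1.1 l.1.2) (g l j))) =
        jk i (Proj.awayι _ (g l j) (hg l j) (hdg l j) ≫ emb p chart l.1.1 l.1.2) := fun l j =>
    fg_jk i (Proj.awayι _ (g l j) (hg l j) (hdg l j) ≫ emb p chart l.1.1 l.1.2)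
  choose G hG using hgen
  haveI : ∀ l, Fintype (κ l) := fun l => @Fintype.ofFinite _ (hκ l)
  let Idx := Σ (l : {U : S.affineOpens // U ∈ Λ}) (j : κ l), {x // x ∈ G l j}
  have hrep0 : ∀ (l : {U : S.affineOpens // U ∈ Λ}) (j : κ l) (x : Away (𝒜.deg l.1.1 l.1.2) (g l j)),
      x ∈ jk i (Proj.awayι _ (g l j) (hg l j) (hdg l j) ≫ emb p chart l.1.1 l.1.2) →
      ∃ (m : ℕ) (y : 𝒜.presheaf.obj (op l.1.1)) (hy : y ∈ 𝒜.deg l.1.1 l.1.2 (m • dg l j)),
        x = Away.mk (𝒜.deg l.1.1 l.1.2) (hg l j) m y hy ∧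
          y ∈ CI.T (𝒜.deg l.1.1 l.1.2) i (emb p chart l.1.1 l.1.2) (hdg l j) (hg l j) :=
    fun l j x hx => by
      obtain ⟨m, y, hy, rfl⟩ := Away.mk_surjective (𝒜.deg l.1.1 l.1.2) (hg l j) x
      exact ⟨m, y, hy, rfl, CI.mem_T_of_mem_gens (hdg l j) (hg l j) ⟨m, hy, hx⟩⟩
  have hrep : ∀ x : Idx, ∃ (m : ℕ) (y : 𝒜.presheaf.obj (op x.1.1.1)) (hy : y ∈ 𝒜.deg x.1.1.1 x.1.1.2 (m • dg x.1 x.2.1)),
      x.2.2.1 = Away.mk (𝒜.deg x.1.1.1 x.1.1.2) (hg x.1 x.2.1) m y hy ∧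
        y ∈ CI.T (𝒜.deg x.1.1.1 x.1.1.2) i (emb p chart x.1.1.1 x.1.1.2) (hdg x.1 x.2.1) (hg x.1 x.2.1) :=
    fun x => hrep0 x.1 x.2.1 x.2.2.1 ((hG x.1 x.2.1).le (Ideal.subset_span x.2.2.2))
  choose m y hy hxy hyT using hrep
  have hpow : ∀ x : Idx, ∃ N, g x.1 x.2.1 ^ N * y x ∈ CIdeal chart i x.1.1.1 x.1.1.2 := fun x => by
    have hT := hyT x
    exact CI.exists_pow_mul_mem_idealI (hdg x.1 x.2.1) (hg x.1 x.2.1) (g x.1) (dg x.1) (hdg x.1) (hg x.1) (hcov x.1) hT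
  choose N hN using hpow
  -- the common degree
  let D : ℕ := ∏ lj : (Σ l : {U : S.affineOpens // U ∈ Λ}, κ l), dg lj.1 lj.2
  have hD : 0 < D := Finset.prod_pos fun lj _ => hdg lj.1 lj.2
  let M : ℕ := Finset.univ.sup (fun x : Idx => m x + N x) + 1
  let d := D * M
  have hd : 0 < d := Nat.mul_pos hD (Nat.succ_pos _)
  have hexp : ∀ x : Idx, ∃ e, m x + N x ≤ e ∧ e • dg x.1 x.2.1 = d := by
    intro x
    obtain ⟨c, hc⟩ : dg x.1 x.2.1 ∣ D := Finset.dvd_prod_of_mem (fun lj : (Σ l : {U : S.affineOpens // U ∈ Λ}, κ l) => dg lj.1 lj.2)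
      (a := ⟨x.1, x.2.1⟩) (Finset.mem_univ _)
    have hc0 : 0 < c := Nat.pos_of_ne_zero fun h0 => by rw [h0, mul_zero] at hc; omega
    refine ⟨c * M, ?_, ?_⟩
    · have h1 : m x + N x ≤ Finset.univ.sup (fun x : Idx => m x + N x) :=
        Finset.le_sup (f := fun x : Idx => m x + N x) (Finset.mem_univ x)
      have h2 : M ≤ c * M := Nat.le_mul_of_pos_left M hc0
      omega
    · simp only [d, hc, smul_eq_mul]; ring
  choose ex hex hexd using hexp
  let q : ∀ x : Idx, 𝒜.presheaf.obj (op x.1.1.1) := fun x => g x.1 x.2.1 ^ (ex x - m x) * y x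
  have hqd : ∀ x, q x ∈ 𝒜.deg x.1.1.1 x.1.1.2 (ex x • dg x.1 x.2.1) := fun x => by
    have h := SetLike.mul_mem_graded (SetLike.pow_mem_graded (ex x - m x) (hg x.1 x.2.1)) (hy x)
    rwa [← add_smul, Nat.sub_add_cancel (le_trans (Nat.le_add_right _ _) (hex x))] at h
  have hqI : ∀ x, q x ∈ CIdeal chart i x.1.1.1 x.1.1.2 := fun x => by
    have h : q x = g x.1 x.2.1 ^ (ex x - m x - N x) * (g x.1 x.2.1 ^ N x * y x) := by
      rw [← mul_assoc, ← pow_add, Nat.sub_add_cancel (Nat.le_sub_of_add_le (by have := hex x; omega))]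
    rw [h]
    exact Ideal.mul_mem_left _ _ (hN x)
  -- the degree `d` part of the ideal as a module
  obtain ⟨Y, -, -, -, -, -, hYI, -, -, -⟩ := exists_closedSub hP i
  let η := degIncl 𝒜 d ≫ RelSpec.QCAlg.Hom.toModuleMap Y.quo
  haveI : (degModule 𝒜 d).IsQuasicoherent := isQCoh_degModule 𝒜 d
  haveI : Y.alg.toModule.IsQuasicoherent := H17.QCAlgSub.isQCoh_toModule Y.alg.toQCAlg
  have hKq : Coh.IsQCoh (kernel η) := H10Coh.isQuasicoherent_kernel η
  have hlift : ∀ (U : S.Opens) (hU : IsAffineOpen U) (a : 𝒜.presheaf.obj (op U)), a ∈ 𝒜.deg U hU d →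
      a ∈ CIdeal chart i U hU → ∃ z : Γ(kernel η, U), japp (B := 𝒜.toQCAlg) (kernel.ι η ≫ degIncl 𝒜 d) U z = a := by
    intro U hU a ha haI
    obtain ⟨x, hx⟩ := exists_degIncl_eq 𝒜 d hU ha
    obtain ⟨z, hz⟩ := exists_kernel_app' η U x (by
      change (Y.quo.hom.app (op U)).hom (japp (degIncl 𝒜 d) U x) = 0
      rw [hx, ← RingHom.mem_ker, Y.ker_quo hU, hYI U hU]
      exact haI)
    refine ⟨z, ?_⟩
    change japp (degIncl 𝒜 d) U ((kernel.ι η).app U z) = a
    rw [hz, hx]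
  haveI := Fintype.ofFinite K
  choose zq hzq using fun x : Idx => hlift x.1.1.1 x.1.1.2 (q x) ((hexd x) ▸ hqd x) (hqI x)
  choose zt hzt using fun x : (Σ k : K, {t // t ∈ T k d}) =>
    hlift (W x.1).1 (W x.1).2 x.2.1 (hT x.1 d x.2.1 x.2.2).1 (hT x.1 d x.2.1 x.2.2).2
  obtain ⟨F, hF, hFft, a, -, hmem⟩ := exists_ft_submodule (kernel η) hKq
    (((Finset.univ : Finset Idx).toList.map fun x => ⟨x.1.1, zq x⟩) ++
      (Finset.univ : Finset (Σ k : K, {t // t ∈ T k d})).toList.map fun x => ⟨W x.1, zt x⟩)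
  let ι := a ≫ kernel.ι η ≫ degIncl 𝒜 d
  have hι : ∀ (U : S.Opens) (hU : IsAffineOpen U) (x : Γ(F, U)), (ι.app U) x ∈ 𝒜.deg U hU d :=
    fun U hU x => degIncl_mem 𝒜 d hU ((kernel.ι η).app U (a.app U x))
  have hqJ : ∀ x : Idx, q x ∈ Set.range (japp (B := 𝒜.toQCAlg) ι x.1.1.1) := fun x => by
    obtain ⟨w, hw⟩ := hmem ⟨x.1.1, zq x⟩
      (List.mem_append_left _ (List.mem_map.2 ⟨x, Finset.mem_toList.2 (Finset.mem_univ x), rfl⟩))
    exact ⟨w, (congrArg (japp (B := 𝒜.toQCAlg) (kernel.ι η ≫ degIncl 𝒜 d) x.1.1.1) hw).trans (hzq x)⟩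
  have htJ : ∀ k, ∀ t ∈ T k d, t ∈ Set.range (japp (B := 𝒜.toQCAlg) ι (W k).1) := fun k t ht => by
    obtain ⟨w, hw⟩ := hmem ⟨W k, zt ⟨k, t, ht⟩⟩
      (List.mem_append_right _ (List.mem_map.2 ⟨⟨k, t, ht⟩, Finset.mem_toList.2 (Finset.mem_univ _), rfl⟩))
    exact ⟨w, (congrArg (japp (B := 𝒜.toQCAlg) (kernel.ι η ≫ degIncl 𝒜 d) (W k).1) hw).trans (hzt ⟨k, t, ht⟩)⟩
  obtain ⟨PB, pB, chartB, h, himm, hB, hh, hformula⟩ := exists_quot hP (spanSys ι hι hF)
  haveI := himm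
  have hle : ∀ (V : S.Opens) (hV : IsAffineOpen V), spanI ι V ≤ CIdeal chart i V hV := fun V hV => by
    refine Ideal.span_le.2 ?_
    rintro _ ⟨x, rfl⟩
    rw [SetLike.mem_coe, ← hYI V hV, ← Y.ker_quo hV, RingHom.mem_ker]
    have := congr($(congr(Scheme.Modules.Hom.app $(kernel.condition η) V)) (a.app V x))
    exact this
  have hjk : ∀ (l : {U : S.affineOpens // U ∈ Λ}) (j : κ l),
      jk h (Proj.awayι _ (g l j) (hg l j) (hdg l j) ≫ emb p chart l.1.1 l.1.2) =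
        jk i (Proj.awayι _ (g l j) (hg l j) (hdg l j) ≫ emb p chart l.1.1 l.1.2) := by
    intro l j
    refine le_antisymm (fun x hx => ?_) ((hG l j).symm.le.trans (Ideal.span_le.2 fun x hx => ?_))
    · obtain ⟨m₀, y₀, hy₀, rfl⟩ := Away.mk_surjective (𝒜.deg l.1.1 l.1.2) (hg l j) x
      obtain ⟨N₀, hN₀⟩ := (hformula _ l.1.2 _ (hdg l j) _ (hg l j) m₀ y₀ hy₀).1 hx
      exact CI.mk_mem_J_of_mem_T (hdg l j) (hg l j) hy₀ (CI.mem_T_of_pow_mul (hdg l j) (hg l j)
        (hle _ l.1.2 hN₀ _ (hdg l j) _ (hg l j)))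
    · let X : Idx := ⟨l, j, x, hx⟩
      have hx' : x = Away.mk (𝒜.deg l.1.1 l.1.2) (hg l j) (ex X) (q X) (hqd X) := by
        refine (hxy X).trans ((HomogeneousLocalization.val_injective _) ?_)
        rw [Away.val_mk, Away.val_mk, Localization.mk_eq_mk_iff, Localization.r_iff_exists]
        refine ⟨1, ?_⟩
        change (1 : 𝒜.presheaf.obj (op l.1.1)) * (g l j ^ ex X * y X) = 1 * (g l j ^ m X * q X)
        rw [one_mul, one_mul, ← mul_assoc, ← pow_add,
          Nat.add_sub_cancel' (le_trans (Nat.le_add_right _ _) (hex X))]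
      rw [SetLike.mem_coe, hx', hformula]
      exact ⟨0, by rw [pow_zero, one_mul]; exact Ideal.subset_span (hqJ X)⟩
  have hker : i.ker = h.ker := ker_eq_ker hP i h (fun l : {U : S.affineOpens // U ∈ Λ} => l.1)
    (fun s => by
      obtain ⟨U, hU, hs⟩ := Set.mem_iUnion₂.1 (hΛ (Set.mem_univ s))
      exact ⟨⟨U, hU⟩, hs⟩) κ g dg hdg hg hcov hjk
  haveI := IsClosedImmersion.isIso_lift i h hker
  exact ⟨d, hd, F, hF, hFft, ι, hι, PB, pB, chartB, h, asIso (IsClosedImmersion.lift i h hker.le), hB, hh,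
    IsClosedImmersion.lift_fac _ _ _, htJ⟩

end Groth.Agent.H11QMap
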