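import Groth.Agent.H11QMap.FGenQuot

/-!
# A finite type submodule of a graded piece exhausting it on a compact open
-/

set_option autoImplicit false
set_option linter.style.haveILetI false
set_option linter.unusedSectionVars false

noncomputable section

universe u

open CategoryTheory CategoryTheory.Limits AlgebraicGeometry TopologicalSpace Opposite RelProj
open Groth.Agent.H11Proj Groth.Agent.H11Sym

namespace Groth.Agent.H11QMap

variable {S : Scheme.{u}} {𝒜 : QCGrAlg S} {F : S.Modules} (hF : Coh.IsQCoh F) (ι : F ⟶ 𝒜.toModule) {d : ℕ}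
  (hι : ∀ (U : S.Opens) (hU : IsAffineOpen U) (x : Γ(F, U)), (ι.app U) x ∈ 𝒜.deg U hU d)

/-- Exhausting a graded piece passes to basic opens. -/
theorem mem_range_basicOpen {U : S.Opens} (hU : IsAffineOpen U) (r : Γ(S, U))
    (h : ∀ a ∈ 𝒜.deg U hU d, a ∈ Set.range (japp (B := 𝒜.toQCAlg) ι U)) :
    ∀ a ∈ 𝒜.deg (S.basicOpen r) (hU.basicOpen r) d, a ∈ Set.range (japp (B := 𝒜.toQCAlg) ι (S.basicOpen r)) := by
  classical
  intro a ha
  let D := S.basicOpen r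
  let rD := S.presheaf.map (homOfLE (S.basicOpen_le r)).op r
  obtain ⟨⟨q₀, _, m, rfl⟩, e⟩ : ∃ x : 𝒜.presheaf.obj (op U) × Submonoid.powers (strT 𝒜.str U r),
      a * resT 𝒜.presheaf (S.basicOpen_le r) x.2.1 = resT 𝒜.presheaf (S.basicOpen_le r) x.1 := by
    letI := (𝒜.presheaf.map (homOfLE (S.basicOpen_le r)).op).hom.toAlgebra
    haveI : IsLocalization.Away (strT 𝒜.str U r) (𝒜.presheaf.obj (op (S.basicOpen r))) := 𝒜.isQC U hU r
    exact IsLocalization.surj (Submonoid.powers (strT 𝒜.str U r)) a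
  have hres : resT 𝒜.presheaf (S.basicOpen_le r) (strT 𝒜.str U r ^ m) = strT 𝒜.str D (rD ^ m) := by
    rw [map_pow, map_pow, resT_str]
  change a * resT 𝒜.presheaf _ (strT 𝒜.str U r ^ m) = _ at e
  rw [hres] at e
  have hm : a * strT 𝒜.str D (rD ^ m) ∈ 𝒜.deg D (hU.basicOpen r) d := by
    simpa only [add_zero] using SetLike.mul_mem_graded ha (𝒜.str_mem D (hU.basicOpen r) (rD ^ m))
  obtain ⟨w, hw⟩ := h _ (DirectSum.decompose (𝒜.deg U hU) q₀ d).2
  have h1 : japp (B := 𝒜.toQCAlg) ι D (F.presheaf.map (homOfLE (S.basicOpen_le r)).op w) =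
      a * strT 𝒜.str D (rD ^ m) := by
    rw [japp_res, hw]
    refine (IdSys.res_decompose hU (hU.basicOpen r) (S.basicOpen_le r) d q₀).trans ?_
    rw [← e, DirectSum.decompose_of_mem_same _ hm]
  have hu : IsUnit (rD ^ m) := (RingedSpace.isUnit_res_basicOpen _ r).pow m
  obtain ⟨c, hc⟩ := hu.exists_left_inv
  refine ⟨c • F.presheaf.map (homOfLE (S.basicOpen_le r)).op w, ?_⟩
  rw [japp_smul, h1]
  change strT 𝒜.str D c * (a * strT 𝒜.str D (rD ^ m)) = a
  rw [mul_left_comm, ← map_mul, hc, map_one, mul_one]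

include hF in
/-- Exhausting a graded piece is local. -/
theorem mem_range_of_local {U : S.Opens} (hU : IsAffineOpen U) (a : 𝒜.presheaf.obj (op U))
    (h : ∀ s : U, ∃ g : Γ(S, U), s.1 ∈ S.basicOpen g ∧
      resT 𝒜.presheaf (S.basicOpen_le g) a ∈ Set.range (japp (B := 𝒜.toQCAlg) ι (S.basicOpen g))) :
    a ∈ Set.range (japp (B := 𝒜.toQCAlg) ι U) := by
  haveI : F.IsQuasicoherent := hF
  choose g hsg x hx using h
  let R : Ideal Γ(S, U) :=
    { carrier := {c | strT 𝒜.str U c * a ∈ Set.range (japp (B := 𝒜.toQCAlg) ι U)}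
      add_mem' := by
        rintro b c ⟨y, hy⟩ ⟨z, hz⟩
        exact ⟨y + z, by rw [japp_add, hy, hz, map_add, add_mul]⟩
      zero_mem' := ⟨0, (map_zero (ι.app U).hom).trans (by rw [map_zero, zero_mul]; rfl)⟩
      smul_mem' := by
        rintro b c ⟨y, hy⟩
        refine ⟨b • y, ?_⟩
        rw [japp_smul, hy, smul_eq_mul, map_mul, mul_assoc] }
  suffices hR : R = ⊤ by
    obtain ⟨y, hy⟩ : (1 : Γ(S, U)) ∈ R := hR ▸ trivial
    exact ⟨y, by rw [hy, map_one, one_mul]⟩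
  have hgR : ∀ s, g s ∈ R.radical := fun s => by
    obtain ⟨m, y, hy⟩ := H10Coh.exists_pow_smul_eq_res F hU (g s) (x s)
    have e : resT 𝒜.presheaf (S.basicOpen_le (g s)) (japp (B := 𝒜.toQCAlg) ι U y) =
        resT 𝒜.presheaf (S.basicOpen_le (g s)) (strT 𝒜.str U (g s ^ m) * a) := by
      refine (japp_res (B := 𝒜.toQCAlg) ι (S.basicOpen_le (g s)) y).symm.trans ?_
      rw [hy, japp_smul, map_mul, resT_str, hx]
    obtain ⟨k, hk⟩ := IdSys.eq_pow_res hU (g s) _ _ e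
    refine ⟨k + m, g s ^ k • y, ?_⟩
    rw [japp_smul, pow_add, map_mul, mul_assoc, map_pow]
    exact hk
  refine Ideal.radical_eq_top.1 (top_le_iff.1 (le_trans (ge_of_eq ?_) (Ideal.span_le.2
    (Set.range_subset_iff.2 hgR))))
  rw [← hU.iSup_basicOpen_eq_self_iff]
  refine le_antisymm (iSup_le fun a => S.basicOpen_le _) fun s hs => ?_
  exact Opens.mem_iSup.2 ⟨⟨_, ⟨⟨s, hs⟩, rfl⟩⟩, hsg ⟨s, hs⟩⟩

include hF in
theorem mem_range_of_cover {V : S.Opens} {K : Type*} (W : K → S.affineOpens)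
    (hcov : ∀ s ∈ V, ∃ k, s ∈ (W k).1)
    (h : ∀ k, ∀ a ∈ 𝒜.deg (W k).1 (W k).2 d, a ∈ Set.range (japp (B := 𝒜.toQCAlg) ι (W k).1))
    (U : S.Opens) (hU : IsAffineOpen U) (hle : U ≤ V) :
    ∀ a ∈ 𝒜.deg U hU d, a ∈ Set.range (japp (B := 𝒜.toQCAlg) ι U) := by
  intro a ha
  refine mem_range_of_local hF ι hU a fun s => ?_
  obtain ⟨k, hk⟩ := hcov s.1 (hle s.2)
  obtain ⟨r, r', e, hs⟩ := exists_basicOpen_le_affine_inter hU (W k).2 s.1 ⟨s.2, hk⟩
  refine ⟨r, hs, ?_⟩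
  have key : ∀ (D : S.Opens) (hD : IsAffineOpen D) (_ : D = S.basicOpen r') (b : 𝒜.presheaf.obj (op D)),
      b ∈ 𝒜.deg D hD d → b ∈ Set.range (japp (B := 𝒜.toQCAlg) ι D) := by
    rintro D hD rfl b hb
    exact mem_range_basicOpen ι (W k).2 r' (h k) b hb
  exact key _ (hU.basicOpen r) e _ (𝒜.map_mem hU (hU.basicOpen r) (S.basicOpen_le r) ha)

theorem mem_range_of_span {U : S.Opens} (T : Finset (𝒜.presheaf.obj (op U)))
    (hT : ∀ t ∈ T, t ∈ Set.range (japp (B := 𝒜.toQCAlg) ι U)) (c : (𝒜.presheaf.obj (op U)) → Γ(S, U)) :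
    ∑ t ∈ T, (𝒜.str.app (op U)).hom (c t) * t ∈ Set.range (japp (B := 𝒜.toQCAlg) ι U) := by
  have hsum : ∑ t ∈ T, (𝒜.str.app (op U)).hom (c t) * t ∈ (ι.app U).hom.range :=
    sum_mem fun t ht => by
      obtain ⟨y, hy⟩ := hT t ht
      exact ⟨c t • y, (japp_smul (B := 𝒜.toQCAlg) ι U (c t) y).trans (by rw [hy])⟩
  exact hsum

end Groth.Agent.H11QMap
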