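import Groth.Agent.H11Ample.RelCounit
import Groth.Agent.H11QMap.FTQ
import Groth.Agent.H10Coh.FinType2
import Groth.Agent.H17.AmpleSep
import Groth.Agent.H11Sym.BundleAmple

/-!
# Twists are eventually quotients of inverse images of finite type modules
-/

set_option autoImplicit false
set_option linter.style.haveILetI false

noncomputable section

universe u

open CategoryTheory CategoryTheory.Limits AlgebraicGeometry Opposite TopologicalSpace
open Groth.Agent.H11Tilde Groth.Agent.H11Ample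

namespace Groth.Agent.H11QMap

variable {X Y : Scheme.{u}}

/-- Adjuncts of a map hitting spanning sections are epimorphisms. -/
theorem epi_homEquiv_symm_of_range_span (g : X ⟶ Y) {P : X.Modules} {G : Y.Modules}
    (v : G ⟶ (Scheme.Modules.pushforward g).obj P)
    (h : ∀ (W : X.Opens) (t : Γ(P, W)), ∀ x ∈ W, ∃ (B : X.Opens) (hB : B ≤ W) (V : Y.Opens) (hBV : B ≤ g ⁻¹ᵁ V),
      x ∈ B ∧ P.presheaf.map (homOfLE hB).op t ∈ Submodule.span Γ(X, B)
        (Set.range fun s : Γ(G, V) => P.presheaf.map (homOfLE hBV).op (show Γ(P, g ⁻¹ᵁ V) from v.app V s))) :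
    Epi (((Scheme.Modules.pullbackPushforwardAdjunction g).homEquiv G P).symm v) := by
  refine epi_of_locally_surjective _ fun W t x hx => ?_
  obtain ⟨B, hB, V, hBV, hxB, ht⟩ := h W t x hx
  refine ⟨B, hB, hxB, ?_⟩
  let φ := ((Scheme.Modules.pullbackPushforwardAdjunction g).homEquiv G P).symm v
  have hv : ∀ s : Γ(G, V), φ.app (g ⁻¹ᵁ V) (OmegaSh.pullSect g G V s) = (show Γ(P, g ⁻¹ᵁ V) from v.app V s) :=
    fun s => congr($(congrArg (fun k => Scheme.Modules.Hom.app k V)
      (((Scheme.Modules.pullbackPushforwardAdjunction g).homEquiv_unit (f := φ)).symm.trans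
        (((Scheme.Modules.pullbackPushforwardAdjunction g).homEquiv G P).apply_symm_apply v))) s)
  change ∃ s, φ.app B s = P.presheaf.map (homOfLE hB).op t
  generalize P.presheaf.map (homOfLE hB).op t = t' at ht ⊢
  induction ht using Submodule.span_induction with
  | mem y hy =>
    obtain ⟨s, rfl⟩ := hy
    refine ⟨((Scheme.Modules.pullback g).obj G).presheaf.map (homOfLE hBV).op (OmegaSh.pullSect g G V s), ?_⟩
    exact (app_map_apply φ hBV _).trans (congrArg _ (hv s))
  | zero => exact ⟨0, map_zero _⟩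
  | add y z _ _ hy hz =>
    obtain ⟨y', rfl⟩ := hy
    obtain ⟨z', rfl⟩ := hz
    exact ⟨y' + z', map_add _ _ _⟩
  | smul r y _ hy =>
    obtain ⟨y', rfl⟩ := hy
    exact ⟨r • y', Scheme.Modules.Hom.app_smul _ _ _⟩

/-- Near a point, finitely many of the spanning sections span a module of finite type. -/
theorem exists_finset_span (P : X.Modules) [P.IsQuasicoherent] (hP : CohB1.IsFT P) {O : X.Opens}
    (h : ∀ (W : X.Opens) (t : Γ(P, W)), ∀ x ∈ W, x ∈ O → ∃ (B : X.Opens) (hB : B ≤ W) (hBO : B ≤ O), x ∈ B ∧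
      P.presheaf.map (homOfLE hB).op t ∈ Submodule.span Γ(X, B)
        (Set.range fun s : Γ(P, O) => P.presheaf.map (homOfLE hBO).op s))
    {x : X} (hx : x ∈ O) :
    ∃ (A : X.Opens) (_ : x ∈ A) (hAO : A ≤ O) (s : Finset Γ(P, O)),
      ∀ (W : X.Opens) (t : Γ(P, W)), ∀ y ∈ W, y ∈ A → ∃ (B : X.Opens) (hB : B ≤ W) (hBA : B ≤ A), y ∈ B ∧
        P.presheaf.map (homOfLE hB).op t ∈ Submodule.span Γ(X, B)
          ((fun s : Γ(P, O) => P.presheaf.map (homOfLE (hBA.trans hAO)).op s) '' (s : Set Γ(P, O))) := by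
  classical
  obtain ⟨V₀, hV₀, hxV₀, hV₀O⟩ := exists_isAffineOpen_mem_and_subset (U := O) hx
  obtain ⟨k, m, hm⟩ := Submodule.fg_iff_exists_fin_generating_family.1 (H10Coh.finite_sections P hP hV₀).fg_top
  choose B hB hBO hxB hmem using fun i : Fin k => h V₀ (m i) x hxV₀ hx
  choose s hs hspan using fun i : Fin k => Submodule.mem_span_finite_of_mem_span (hmem i)
  choose s' hs' using fun i : Fin k => Finset.subset_set_image_iff.1 (show (s i : Set _) ⊆
    (fun z : Γ(P, O) => P.presheaf.map (homOfLE (hBO i)).op z) '' Set.univ by rw [Set.image_univ]; exact hs i)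
  have hN : IsOpen (⋂ i, (B i : Set X)) := isOpen_iInter_of_finite fun i => (B i).2
  obtain ⟨a, haN, hxa⟩ := hV₀.exists_basicOpen_le
    (V := ⟨_, hN⟩) ⟨x, Set.mem_iInter.2 hxB⟩ hxV₀
  let A := X.basicOpen a
  have hAV : A ≤ V₀ := X.basicOpen_le a
  have hAO : A ≤ O := hAV.trans hV₀O
  have hAB : ∀ i, A ≤ B i := fun i y hy => Set.mem_iInter.1 (haN hy) i
  refine ⟨A, hxa, hAO, Finset.univ.biUnion s', fun W t y hyW hyA => ?_⟩
  obtain ⟨c, hc, hyc⟩ := hV₀.exists_basicOpen_le (V := W ⊓ A) ⟨y, hyW, hyA⟩ (hAV hyA)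
  refine ⟨X.basicOpen c, hc.trans inf_le_left, hc.trans inf_le_right, hyc, ?_⟩
  obtain ⟨p, u, hu⟩ := H10Coh.exists_pow_smul_eq_res P hV₀ c
    (P.presheaf.map (homOfLE (hc.trans inf_le_left)).op t)
  have hunit : IsUnit (X.presheaf.map (homOfLE (X.basicOpen_le c)).op c) :=
    X.toRingedSpace.isUnit_res_basicOpen c
  obtain ⟨d, hd⟩ := (hunit.pow p).exists_left_inv
  rw [← one_smul Γ(X, X.basicOpen c) (P.presheaf.map (homOfLE (hc.trans inf_le_left)).op t), ← hd, mul_smul,
    ← map_pow]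
  refine Submodule.smul_mem _ _ ?_
  erw [← hu]
  have hmemu : u ∈ Submodule.span Γ(X, V₀) (Set.range m) := hm.symm ▸ Submodule.mem_top
  clear hu
  induction hmemu using Submodule.span_induction with
  | mem w hw =>
    obtain ⟨i, rfl⟩ := hw
    let S' := Submodule.span Γ(X, X.basicOpen c)
      ((fun z : Γ(P, O) => P.presheaf.map (homOfLE ((hc.trans inf_le_right).trans hAO)).op z) ''
        ((Finset.univ.biUnion s' : Finset Γ(P, O)) : Set Γ(P, O)))
    change P.presheaf.map (homOfLE (X.basicOpen_le c)).op (m i) ∈ S'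
    have hcB : X.basicOpen c ≤ B i := (hc.trans inf_le_right).trans (hAB i)
    have key : ∀ z ∈ Submodule.span Γ(X, B i) ((s i : Finset Γ(P, B i)) : Set Γ(P, B i)),
        P.presheaf.map (homOfLE hcB).op z ∈ S' := by
      intro z hz
      induction hz using Submodule.span_induction with
      | mem w hw =>
        rw [← (hs' i).2] at hw
        obtain ⟨v, hv, rfl⟩ := Finset.mem_image.1 (Finset.mem_coe.1 hw)
        rw [H10Coh.mres_mres]
        exact Submodule.subset_span ⟨v, Finset.mem_coe.2 (Finset.mem_biUnion.2 ⟨i, Finset.mem_univ _, hv⟩), rfl⟩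
      | zero => rw [map_zero]; exact Submodule.zero_mem _
      | add w w' _ _ hw hw' => rw [map_add]; exact Submodule.add_mem _ hw hw'
      | smul r w _ hw => rw [Scheme.Modules.map_smul]; exact Submodule.smul_mem _ _ hw
    have h1 := key _ (hspan i)
    rw [H10Coh.mres_mres] at h1
    exact h1
  | zero => rw [map_zero]; exact Submodule.zero_mem _
  | add w w' _ _ hw hw' => rw [map_add]; exact Submodule.add_mem _ hw hw'
  | smul r w _ hw => rw [Scheme.Modules.map_smul]; exact Submodule.smul_mem _ _ hw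

/-- For `L` ample relative to `g`, every large twist of a module of finite type is a quotient of the inverse image
of a module of finite type. -/
theorem eventually_exists_epi_pullback [CompactSpace Y] [QuasiSeparatedSpace Y] (g : X ⟶ Y) [QuasiCompact g]
    {L E : X.Modules} (hL : RelAmple.IsRelAmple g L) (hE : Coh.IsQCoh E) (hEft : CohB1.IsFT E) :
    ∃ m₀ : ℕ, ∀ m : ℕ, m₀ ≤ m → ∃ (F : Y.Modules)
      (φ : (Scheme.Modules.pullback g).obj F ⟶ CohB1.tensorMod E (CohB1.tensorPow L m)),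
        Coh.IsQCoh F ∧ CohB1.IsFT F ∧ Epi φ := by
  classical
  haveI : CompactSpace X := QuasiCompact.compactSpace_of_compactSpace g
  haveI : IsSeparated g := H17.AmpleSep.isSeparated_of_isRelAmple g L hL
  have hLi := isInvertible_of_isRelAmple hL
  have hEc : Coh.IsCoh E := ⟨hE, hEft⟩
  choose V hV hxV using fun x : X => exists_isAffineOpen_mem (g x)
  obtain ⟨T, hT⟩ := CompactSpace.elim_nhds_subcover (fun x => ((g ⁻¹ᵁ V x : X.Opens) : Set X))
    (fun x => (g ⁻¹ᵁ V x).isOpen.mem_nhds (hxV x))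
  choose n₀ hn₀ using fun x => eventually_span_of_ampleOn ((isRelAmple_iff.1 hL).2 (V x) (hV x)) hLi hEc
  refine ⟨T.sup n₀, fun n hn => ?_⟩
  let P := CohB1.tensorMod E (CohB1.tensorPow L n)
  have hPc : Coh.IsCoh P := isCoh_tensor hEc (isInvertible_tensorPow hLi n)
  haveI : P.IsQuasicoherent := hPc.1
  have hloc : ∀ y : X, ∃ (z : X) (A : X.Opens) (_ : y ∈ A) (hAO : A ≤ g ⁻¹ᵁ V z) (s : Finset Γ(P, g ⁻¹ᵁ V z)),
      ∀ (W : X.Opens) (t : Γ(P, W)), ∀ x ∈ W, x ∈ A → ∃ (B : X.Opens) (hB : B ≤ W) (hBA : B ≤ A), x ∈ B ∧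
        P.presheaf.map (homOfLE hB).op t ∈ Submodule.span Γ(X, B)
          ((fun s : Γ(P, g ⁻¹ᵁ V z) => P.presheaf.map (homOfLE (hBA.trans hAO)).op s) '' (s : Set _)) := by
    intro y
    obtain ⟨z, hz, hyz⟩ := Set.mem_iUnion₂.1 (hT.ge (Set.mem_univ y))
    exact ⟨z, exists_finset_span P hPc.2 (hn₀ z n ((Finset.le_sup hz).trans hn)) hyz⟩
  choose z A hyA hAO s hs using hloc
  obtain ⟨T', hT'⟩ := CompactSpace.elim_nhds_subcover (fun y => (A y : Set X))
    (fun y => (A y).isOpen.mem_nhds (hyA y))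
  haveI := H10Coh.isQuasicoherent_pushforward g P
  let l : List (Σ U : Y.affineOpens, Γ((Scheme.Modules.pushforward g).obj P, U.1)) :=
    T'.toList.flatMap fun y => (s y).toList.map fun a => ⟨⟨V (z y), hV (z y)⟩, a⟩
  obtain ⟨G, hGq, hGf, v, -, hmem⟩ := exists_ft_submodule ((Scheme.Modules.pushforward g).obj P) inferInstance l
  refine ⟨G, _, hGq, hGf, epi_homEquiv_symm_of_range_span g v fun W t x hx => ?_⟩
  obtain ⟨y, hy, hxy⟩ := Set.mem_iUnion₂.1 (hT'.ge (Set.mem_univ x))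
  obtain ⟨B, hB, hBA, hxB, hspan⟩ := hs y W t x hx hxy
  refine ⟨B, hB, V (z y), hBA.trans (hAO y), hxB, Submodule.span_mono ?_ hspan⟩
  rintro _ ⟨a, ha, rfl⟩
  obtain ⟨a', ha'⟩ := hmem ⟨⟨V (z y), hV (z y)⟩, a⟩
    (List.mem_flatMap.2 ⟨y, Finset.mem_toList.2 hy, List.mem_map.2 ⟨a, Finset.mem_toList.2 (Finset.mem_coe.1 ha), rfl⟩⟩)
  exact ⟨a', congrArg (P.presheaf.map _) ha'⟩

end Groth.Agent.H11QMap
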