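import Groth.Agent.H11QMap.FTQ

/-!
# An everywhere defined immersion `r_{L,ψ}` is seen by finitely many elements of one degree
-/

set_option autoImplicit false
set_option linter.style.haveILetI false
set_option linter.unusedSectionVars false

noncomputable section

universe u

open CategoryTheory CategoryTheory.Limits AlgebraicGeometry TopologicalSpace Opposite RelProj
open HomogeneousLocalization
open scoped HomogeneousIdeal
open Groth.Agent.H11Sym Groth.Agent.H11Tilde Groth.Agent.H11Proj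

namespace Groth.Agent.H11QMap

variable {X Y : Scheme.{u}} {q : X ⟶ Y} {𝒮 : QCGrAlg Y} {𝒮L : QCGrAlg X}
variable {P PL : Scheme.{u}} {L : X.Modules} {j : L ⟶ 𝒮L.toModule} (u : QGrHom q 𝒮 𝒮L)
  {p : P ⟶ Y} {chart : ∀ (U : Y.Opens) (hU : IsAffineOpen U), (((p ⁻¹ᵁ U : P.Opens) : Scheme.{u}) ≅ Proj (𝒮.deg U hU))}
  {pL : PL ⟶ X}
  {chartL : ∀ (U : X.Opens) (hU : IsAffineOpen U), (((pL ⁻¹ᵁ U : PL.Opens) : Scheme.{u}) ≅ Proj (𝒮L.deg U hU))}
  (hPL : IsRelProj 𝒮L pL chartL) (hL : PicF.IsInvertible L) (hLq : Coh.IsQCoh L) (hj : IsGrSymAlg L 𝒮L j)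
  (hP : IsRelProj 𝒮 p chart)
  {r : (domQ u pL chartL : Scheme.{u}) ⟶ P} (hr : IsProjQMapOn u p chart pL chartL (domQ u pL chartL) r)

include hPL hL hLq hj hP hr

/-- Powers have the same locus of non-vanishing. -/
theorem tlocU_pow {U : Y.Opens} (hU : IsAffineOpen U) {d : ℕ} (hd : 0 < d) {f : 𝒮.presheaf.obj (op U)}
    (hf : f ∈ 𝒮.deg U hU d) {k : ℕ} (hk : 0 < k) :
    LocU.tlocU u U (f ^ k) (k * d) = LocU.tlocU u U f d := by
  haveI := isIso_pL hPL hL hLq hj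
  have hfk : f ^ k ∈ 𝒮.deg U hU (k * d) := by simpa using SetLike.pow_mem_graded k hf
  have hb : Proj.basicOpen (𝒮.deg U hU) (f ^ k) = Proj.basicOpen (𝒮.deg U hU) f := by
    ext x
    exact not_congr ⟨fun h => x.isPrime.mem_of_pow_mem k h, fun h => x.asHomogeneousIdeal.toIdeal.pow_mem_of_mem h k hk⟩
  have hcb : cb chart U hU (f ^ k) = cb chart U hU f := by
    show emb p chart U hU ''ᵁ _ = emb p chart U hU ''ᵁ _
    rw [hb]
  have h1 := LocU.image_preimage_eq u hU hPL hL hLq hj (Nat.mul_pos hk hd) hP hr hfk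
  rw [hcb, LocU.image_preimage_eq u hU hPL hL hLq hj hd hP hr hf] at h1
  ext x
  obtain ⟨z, rfl⟩ := pL.surjective x
  exact (SetLike.ext_iff.1 h1 z).symm

/-- An everywhere defined immersion is seen by finitely many homogeneous elements of one degree. -/
theorem exists_finite_data_deg [CompactSpace Y] [QuasiCompact q] [LocallyOfFiniteType q]
    (htop : domQ u pL chartL = ⊤) [IsImmersion r] :
    ∃ (n : ℕ) (_ : 0 < n) (l : List (Σ U : Y.affineOpens, 𝒮.presheaf.obj (op U.1))),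
      (∀ e ∈ l, e.2 ∈ 𝒮.deg e.1.1 e.1.2 n) ∧
      (∀ x : X, ∃ e ∈ l, x ∈ LocU.tlocU u e.1.1 e.2 n) ∧
      ∀ {𝒯 : QCGrAlg Y} (u' : QGrHom q 𝒯 𝒮L),
        (∀ e ∈ l, ∃ y ∈ 𝒯.deg e.1.1 e.1.2 n, (u'.app e.1.1).hom y = (u.app e.1.1).hom e.2) →
        ∀ {P' : Scheme.{u}} (p' : P' ⟶ Y)
          (chart' : ∀ (U : Y.Opens) (hU : IsAffineOpen U), (((p' ⁻¹ᵁ U : P'.Opens) : Scheme.{u}) ≅ Proj (𝒯.deg U hU)))
          (_ : IsRelProj 𝒯 p' chart')
          (r' : (domQ u' pL chartL : Scheme.{u}) ⟶ P')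
          (_ : IsProjQMapOn u' p' chart' pL chartL (domQ u' pL chartL) r'),
          domQ u' pL chartL = ⊤ ∧ IsImmersion r' := by
  classical
  have hloc : ∀ x : X, ∃ (U : Y.affineOpens) (d : ℕ) (_ : 0 < d) (f : 𝒮.presheaf.obj (op U.1)),
      f ∈ 𝒮.deg U.1 U.2 d ∧ cb chart U.1 U.2 f ≤ r.coborderRange ∧ x ∈ LocU.tlocU u U.1 f d := by
    intro x
    obtain ⟨⟨U, hU⟩, hxU⟩ := Opens.mem_iSup.1 ((iSup_affineOpens_eq_top Y).ge (Set.mem_univ (q x)))
    obtain ⟨d, hd, f, hf, hle, hx⟩ := LocU.exists_tloc_mem u hU hPL hL hLq hj hP hr htop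
      (O := r.coborderRange) (fun z => subset_coborder ⟨z, rfl⟩) hxU
    exact ⟨⟨U, hU⟩, d, hd, f, hf, hle, hx⟩
  choose U d hd f hf hle hxW using hloc
  let W : X → X.Opens := fun x => LocU.tlocU u (U x).1 (f x) (d x)
  haveI : CompactSpace X := QuasiCompact.compactSpace_of_compactSpace q
  obtain ⟨F, hF⟩ := isCompact_univ.elim_finite_subcover (fun x : X => (W x : Set X))
    (fun x => Opens.isOpen _) (fun x _ => Set.mem_iUnion.2 ⟨x, hxW x⟩)
  have hW : ∀ x, ∃ hW : IsAffineOpen (W x), LocU.fracSub u (U x).2 hW le_rfl (s := f x) (n := d x) = ⊤ := fun x =>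
    (LocU.isClosedImmersion_cb_iff u (U x).2 hPL hL hLq hj (hd x) hP hr (hf x)).1
      (isClosedImmersion_restrict_of_le_coborderRange r (hle x))
  choose hWa hfrac using hW
  have hgen : ∀ x, ∃ T : Finset Γ(X, W x), ∀ S : Subring Γ(X, W x),
      (∀ a, (q.appLE (U x).1 (W x) (LocU.tlocU_le u le_rfl)).hom a ∈ S) → (∀ b ∈ T, b ∈ S) → S = ⊤ := by
    intro x
    letI := (q.appLE (U x).1 (W x) (LocU.tlocU_le u le_rfl)).hom.toAlgebra
    have hft : Algebra.FiniteType Γ(Y, (U x).1) Γ(X, W x) :=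
      HasRingHomProperty.appLE @LocallyOfFiniteType q inferInstance (U x) ⟨_, hWa x⟩ _
    obtain ⟨T, hT⟩ := hft.out
    refine ⟨T, fun S h1 h2 => ?_⟩
    have h3 : (Algebra.adjoin Γ(Y, (U x).1) (T : Set Γ(X, W x))).toSubring ≤ S := by
      rw [Algebra.adjoin_eq_ring_closure, Subring.closure_le]
      rintro b (⟨a, rfl⟩ | hb)
      exacts [h1 a, h2 b hb]
    rw [hT] at h3
    exact eq_top_iff.2 fun b _ => h3 trivial
  choose T hT using hgen
  choose m a ha hma using fun (x : X) (b : Γ(X, W x)) =>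
    (LocU.mem_fracSub_iff u (U x).2 hPL hL hLq hj (hd x) (hWa x) le_rfl (hf x) b).1 ((hfrac x).ge (Subring.mem_top b))
  -- the common degree
  let D : ℕ := ∏ x ∈ F, d x
  have hD : 0 < D := Finset.prod_pos fun x _ => hd x
  let M : ℕ := F.sup (fun x => (T x).sup (m x)) + 1
  have hex : ∀ x : {x // x ∈ F}, ∃ k, 0 < k ∧ (∀ b ∈ T x.1, m x.1 b ≤ k) ∧ k * d x.1 = D * M := by
    rintro ⟨x, hx⟩
    obtain ⟨c, hc⟩ : d x ∣ D := Finset.dvd_prod_of_mem d hx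
    have hc0 : 0 < c := Nat.pos_of_ne_zero fun h0 => by rw [h0, mul_zero] at hc; omega
    refine ⟨c * M, Nat.mul_pos hc0 (Nat.succ_pos _), fun b hb => ?_, by dsimp only; rw [hc]; ring⟩
    have h1 : m x b ≤ F.sup (fun x => (T x).sup (m x)) :=
      le_trans (Finset.le_sup (f := m x) hb) (Finset.le_sup (f := fun x => (T x).sup (m x)) hx)
    have h2 : M ≤ c * M := Nat.le_mul_of_pos_left M hc0
    change m x b ≤ c * M
    omega
  choose k hk hmk hkn using hex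
  have hg : ∀ x : {x // x ∈ F}, f x.1 ^ k x ∈ 𝒮.deg (U x.1).1 (U x.1).2 (D * M) := fun x => by
    have := SetLike.pow_mem_graded (k x) (hf x.1)
    rwa [smul_eq_mul, hkn] at this
  have hc : ∀ (x : {x // x ∈ F}) (b : Γ(X, W x.1)), b ∈ T x.1 →
      a x.1 b * f x.1 ^ (k x - m x.1 b) ∈ 𝒮.deg (U x.1).1 (U x.1).2 (D * M) := fun x b hb => by
    have := SetLike.mul_mem_graded (ha x.1 b) (SetLike.pow_mem_graded (k x - m x.1 b) (hf x.1))
    rwa [smul_eq_mul, smul_eq_mul, ← add_mul, Nat.add_sub_cancel' (hmk x b hb), hkn] at this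
  have hWg : ∀ x : {x // x ∈ F}, LocU.tlocU u (U x.1).1 (f x.1 ^ k x) (D * M) = W x.1 := fun x => by
    rw [← hkn x]
    exact tlocU_pow u hPL hL hLq hj hP hr (U x.1).2 (hd x.1) (hf x.1) (hk x)
  refine ⟨D * M, Nat.mul_pos hD (Nat.succ_pos _), F.attach.toList.flatMap fun x =>
    ⟨U x.1, f x.1 ^ k x⟩ :: (T x.1).toList.map fun b => ⟨U x.1, a x.1 b * f x.1 ^ (k x - m x.1 b)⟩,
    fun e he => ?_, fun z => ?_, fun {𝒯} u' hu' {P'} p' chart' hP' r' hr' => ?_⟩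
  · obtain ⟨x, -, he⟩ := List.mem_flatMap.1 he
    rcases List.mem_cons.1 he with rfl | he
    · exact hg x
    · obtain ⟨b, hb, rfl⟩ := List.mem_map.1 he
      exact hc x b (Finset.mem_toList.1 hb)
  · obtain ⟨x, hx, hz⟩ := Set.mem_iUnion₂.1 (hF (Set.mem_univ z))
    exact ⟨⟨U x, f x ^ k ⟨x, hx⟩⟩, List.mem_flatMap.2 ⟨⟨x, hx⟩, Finset.mem_toList.2 (Finset.mem_attach _ _), List.mem_cons_self⟩,
      (hWg ⟨x, hx⟩).ge hz⟩
  have hn : 0 < D * M := Nat.mul_pos hD (Nat.succ_pos _)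
  choose y hydeg hyf using fun (x : {x // x ∈ F}) =>
    hu' ⟨U x.1, f x.1 ^ k x⟩ (List.mem_flatMap.2 ⟨x, Finset.mem_toList.2 (Finset.mem_attach _ _), List.mem_cons_self⟩)
  have happ : ∀ (x : {x // x ∈ F}) (V : X.Opens) (hV : V ≤ q ⁻¹ᵁ (U x.1).1),
      (u'.appLE (U x.1).1 V hV).hom (y x) = (u.appLE (U x.1).1 V hV).hom (f x.1 ^ k x) :=
    fun x V hV => congrArg (ares 𝒮L.toQCAlg hV) (hyf x)
  have hyW : ∀ x : {x // x ∈ F}, LocU.tlocU u' (U x.1).1 (y x) (D * M) = W x.1 := by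
    intro x
    have hgn : ∀ V : X.affineOpens, (∃ h, GenOn u' (U x.1).1 (y x) (D * M) V h) ↔
        ∃ h, GenOn u (U x.1).1 (f x.1 ^ k x) (D * M) V h := fun V => by simp only [GenOn, happ]
    rw [← hWg x]
    refine le_antisymm (iSup_le fun V => ?_) (iSup_le fun V => ?_)
    · exact le_iSup_of_le (⟨V.1, (hgn V.1).1 V.2⟩ : {V : X.affineOpens // ∃ h, GenOn u (U x.1).1 (f x.1 ^ k x) (D * M) V h}) le_rfl
    · exact le_iSup_of_le (⟨V.1, (hgn V.1).2 V.2⟩ : {V : X.affineOpens // ∃ h, GenOn u' (U x.1).1 (y x) (D * M) V h}) le_rfl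
  have hcov : ∀ z : X, ∃ x : {x // x ∈ F}, z ∈ LocU.tlocU u' (U x.1).1 (y x) (D * M) := fun z => by
    obtain ⟨x, hx, hz⟩ := Set.mem_iUnion₂.1 (hF (Set.mem_univ z))
    exact ⟨⟨x, hx⟩, (hyW ⟨x, hx⟩).ge hz⟩
  refine ⟨eq_top_iff.2 fun z _ => ?_, H11Sym.isImmersion_of_local r'
    (fun x : {x // x ∈ F} => cb chart' (U x.1).1 (U x.1).2 (y x)) (fun z => ?_) fun x => ?_⟩
  · obtain ⟨x, hx⟩ := hcov (pL z)
    obtain ⟨⟨V, hle, hgen⟩, hzV⟩ := Opens.mem_iSup.1 hx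
    exact mem_domQ_of_genOn u' chartL hPL hL hLq hj _ (U x.1).2 hn _ (hydeg x) V hle hgen hzV
  · obtain ⟨x, hx⟩ := hcov (pL ((domQ u' pL chartL).ι z))
    obtain ⟨⟨V, hle, hgen⟩, hzV⟩ := Opens.mem_iSup.1 hx
    exact ⟨x, (mem_preimage_cb_iff u' chart' chartL hPL hL hLq hj hP' hr' z _ (U x.1).2 hn _ (hydeg x)).2
      ⟨V, hle, hzV, hgen⟩⟩
  · refine (LocU.isClosedImmersion_cb_iff u' (U x.1).2 hPL hL hLq hj hn hP' hr' (hydeg x)).2
      ⟨(hyW x).symm ▸ hWa x.1, ?_⟩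
    have trans : ∀ (W' : X.Opens) (_ : W' = W x.1) (hW : IsAffineOpen W')
        (hWs : W' ≤ LocU.tlocU u' (U x.1).1 (y x) (D * M)),
        LocU.fracSub u' (U x.1).2 hW hWs (s := y x) (n := D * M) = ⊤ := by
      rintro W' rfl hW hWs
      refine hT x.1 _ (fun c => LocU.appLE_mem_fracSub u' (U x.1).2 hPL hL hLq hj hn hW hWs (hydeg x) c)
        fun b hb => ?_
      obtain ⟨y', hy', hya⟩ := hu' ⟨U x.1, a x.1 b * f x.1 ^ (k x - m x.1 b)⟩
        (List.mem_flatMap.2 ⟨x, Finset.mem_toList.2 (Finset.mem_attach _ _),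
          List.mem_cons_of_mem _ (List.mem_map.2 ⟨b, Finset.mem_toList.2 hb, rfl⟩)⟩)
      refine (LocU.mem_fracSub_iff u' (U x.1).2 hPL hL hLq hj hn hW hWs (hydeg x) b).2
        ⟨1, y', by rw [one_smul]; exact hy', ?_⟩
      rw [happ x, pow_one, map_pow]
      refine Eq.trans ?_ (congrArg (ares 𝒮L.toQCAlg (LocU.tlocU_le u' hWs)) hya).symm
      have e := hma x.1 b
      change _ = (u.appLE (U x.1).1 (W x.1) _).hom (a x.1 b * f x.1 ^ (k x - m x.1 b))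
      rw [map_mul, map_pow, ← e, mul_assoc, ← pow_add, Nat.add_sub_cancel' (hmk x b hb)]
    exact trans _ (hyW x) _ le_rfl

end Groth.Agent.H11QMap
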