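import Groth.Agent.H17.QCAlgSub
import Groth.Agent.H11Tilde.GammaStar.Module
import Groth.Agent.H10Coh.FinType2
import Mathlib

/-!
# The graded subalgebra generated by a finite type module of one degree
-/

set_option autoImplicit false
set_option linter.style.haveILetI false
set_option linter.unusedSectionVars false

noncomputable section

universe u

open CategoryTheory CategoryTheory.Limits AlgebraicGeometry TopologicalSpace Opposite RelProj
open Groth.Agent.H17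

namespace Groth.Agent.H11QMap.GenSubAlg

variable {S : Scheme.{u}} (𝒮 : QCGrAlg S) {n : ℕ} (hn : 0 < n) {E : S.Modules} (hE : E.IsQuasicoherent)
  (ι : E ⟶ 𝒮.toModule) (hι : ∀ (U : S.Opens) (hU : IsAffineOpen U) (x : Γ(E, U)), (ι.app U) x ∈ 𝒮.deg U hU n)

include hn hι in
/-- The monomials in the generators. -/
theorem monomial_spec (U : S.Opens) (hU : IsAffineOpen U) {x : 𝒮.presheaf.obj (op U)}
    (hx : x ∈ Submonoid.closure (Set.range (QCAlgSub.bstr 𝒮.toQCAlg U) ∪ Set.range (QCAlgSub.japp 𝒮.toQCAlg ι U))) :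
    ∃ k, x ∈ 𝒮.deg U hU (k * n) ∧ (k = 0 → x ∈ Set.range (QCAlgSub.bstr 𝒮.toQCAlg U)) ∧
      (k = 1 → x ∈ Set.range (QCAlgSub.japp 𝒮.toQCAlg ι U)) := by
  induction hx using Submonoid.closure_induction with
  | mem x hx =>
    rcases hx with ⟨r, rfl⟩ | ⟨e, rfl⟩
    · exact ⟨0, by rw [Nat.zero_mul]; exact 𝒮.str_mem U hU r, fun _ => ⟨r, rfl⟩, fun h => absurd h (by omega)⟩
    · exact ⟨1, by rw [Nat.one_mul]; exact hι U hU e, fun h => absurd h (by omega), fun _ => ⟨e, rfl⟩⟩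
  | one =>
    exact ⟨0, by rw [Nat.zero_mul]; exact SetLike.one_mem_graded (𝒮.deg U hU), fun _ => ⟨1, map_one _⟩,
      fun h => absurd h (by omega)⟩
  | mul x y _ _ hx hy =>
    obtain ⟨k, hk, hk0, hk1⟩ := hx
    obtain ⟨l, hl, hl0, hl1⟩ := hy
    refine ⟨k + l, by rw [add_mul]; exact SetLike.mul_mem_graded hk hl, fun h => ?_, fun h => ?_⟩
    · obtain ⟨a, rfl⟩ := hk0 (by omega)
      obtain ⟨b, rfl⟩ := hl0 (by omega)
      exact ⟨a * b, map_mul _ _ _⟩
    · rcases (show (k = 0 ∧ l = 1) ∨ (k = 1 ∧ l = 0) by omega) with ⟨h1, h2⟩ | ⟨h1, h2⟩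
      · obtain ⟨a, rfl⟩ := hk0 h1
        obtain ⟨b, rfl⟩ := hl1 h2
        exact ⟨a • b, QCAlgSub.japp_smul 𝒮.toQCAlg ι U a b⟩
      · obtain ⟨a, rfl⟩ := hk1 h1
        obtain ⟨b, rfl⟩ := hl0 h2
        exact ⟨b • a, (QCAlgSub.japp_smul 𝒮.toQCAlg ι U b a).trans (mul_comm _ _)⟩

include hn hι in
/-- Components of elements of the generated subring. -/
theorem proj_spec (U : S.Opens) (hU : IsAffineOpen U) {x : 𝒮.presheaf.obj (op U)}
    (hx : x ∈ QCAlgSub.genSub 𝒮.toQCAlg ι U) (e : ℕ) :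
    ((DirectSum.decompose (𝒮.deg U hU) x e : 𝒮.deg U hU e) : 𝒮.presheaf.obj (op U)) ∈ QCAlgSub.genSub 𝒮.toQCAlg ι U ∧
      (e = 0 → ((DirectSum.decompose (𝒮.deg U hU) x e : 𝒮.deg U hU e) : 𝒮.presheaf.obj (op U)) ∈
        (QCAlgSub.bstr 𝒮.toQCAlg U).range) ∧
      (e = n → ((DirectSum.decompose (𝒮.deg U hU) x e : 𝒮.deg U hU e) : 𝒮.presheaf.obj (op U)) ∈
        (QCAlgSub.japp 𝒮.toQCAlg ι U).range) := by
  classical
  rw [QCAlgSub.genSub, Subring.mem_closure_iff] at hx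
  induction hx using AddSubgroup.closure_induction with
  | mem x hx =>
    obtain ⟨k, hk, hk0, hk1⟩ := monomial_spec 𝒮 hn ι hι U hU hx
    rcases eq_or_ne e (k * n) with rfl | hne
    · rw [DirectSum.decompose_of_mem_same _ hk]
      refine ⟨Subring.mem_closure_iff.2 (AddSubgroup.subset_closure hx), fun h => ?_, fun h => ?_⟩
      · exact hk0 (by rcases Nat.mul_eq_zero.1 h with h | h <;> omega)
      · exact hk1 (Nat.eq_of_mul_eq_mul_right hn (h.trans (one_mul n).symm))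
    · rw [DirectSum.decompose_of_mem_ne _ hk hne.symm]
      exact ⟨zero_mem _, fun _ => zero_mem _, fun _ => zero_mem _⟩
  | zero => simp
  | add x y _ _ hx hy =>
    rw [DirectSum.decompose_add, DirectSum.add_apply, AddSubgroup.coe_add]
    exact ⟨add_mem hx.1 hy.1, fun h => add_mem (hx.2.1 h) (hy.2.1 h), fun h => add_mem (hx.2.2 h) (hy.2.2 h)⟩
  | neg x _ hx =>
    rw [DirectSum.decompose_neg, show (-(DirectSum.decompose (𝒮.deg U hU) x)) e = -(DirectSum.decompose (𝒮.deg U hU) x e) from rfl,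
      AddSubgroup.coe_neg]
    exact ⟨neg_mem hx.1, fun h => neg_mem (hx.2.1 h), fun h => neg_mem (hx.2.2 h)⟩

include hn hι hE in
theorem exists_genSubAlg (hEt : CohB1.IsFT E) :
    ∃ (𝒮' : QCGrAlg S) (j' : 𝒮'.toQCAlg ⟶ 𝒮.toQCAlg), IsGradedHom j' ∧
      (∀ U : S.Opens, IsAffineOpen U → Function.Injective (j'.hom.app (op U)).hom) ∧
      (∀ (U : S.Opens) (hU : IsAffineOpen U),
        ((𝒮'.deg U hU 0 : AddSubgroup (𝒮'.presheaf.obj (op U))) : Set (𝒮'.presheaf.obj (op U))) =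
          Set.range (𝒮'.str.app (op U)).hom) ∧
      (∀ (U : S.Opens) (hU : IsAffineOpen U),
        Subring.closure (((𝒮'.deg U hU 0 : AddSubgroup (𝒮'.presheaf.obj (op U))) : Set (𝒮'.presheaf.obj (op U))) ∪
          ((𝒮'.deg U hU n : AddSubgroup (𝒮'.presheaf.obj (op U))) : Set (𝒮'.presheaf.obj (op U)))) = ⊤) ∧
      𝒮'.IsFTDeg n ∧
      ∀ (U : S.Opens) (hU : IsAffineOpen U) (x : Γ(E, U)),
        ∃ y ∈ 𝒮'.deg U hU n, (j'.hom.app (op U)).hom y = (ι.app U) x := by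
  classical
  let Y := QCAlgSub.sys 𝒮.toQCAlg ι hE
  let B' := QCAlgSub.subAlg 𝒮.toQCAlg ι hE
  let dg : ∀ (U : S.Opens), IsAffineOpen U → ℕ → AddSubgroup (B'.presheaf.obj (op U)) := fun U hU d =>
    (𝒮.deg U hU d).comap (Y.sub U).subtype.toAddMonoidHom
  have hmem : ∀ (U : S.Opens) (hU : IsAffineOpen U) (x : B'.presheaf.obj (op U)),
      x.1 ∈ QCAlgSub.genSub 𝒮.toQCAlg ι U := fun U hU x => Y.mem_of_mem_sub 𝒮.isSheaf hU x.2
  let π : ∀ (U : S.Opens), IsAffineOpen U → ℕ → B'.presheaf.obj (op U) →+ B'.presheaf.obj (op U) := fun U hU d =>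
    AddMonoidHom.mk' (fun x => (⟨((DirectSum.decompose (𝒮.deg U hU) x.1 d : 𝒮.deg U hU d) : 𝒮.presheaf.obj (op U)),
      Y.mem_sub_of_mem hU (proj_spec 𝒮 hn ι hι U hU (hmem U hU x) d).1⟩ : Y.sub U)) fun a b => Subtype.ext (by
        change ((DirectSum.decompose (𝒮.deg U hU) (a.1 + b.1) d : 𝒮.deg U hU d) : 𝒮.presheaf.obj (op U)) = _
        rw [DirectSum.decompose_add, DirectSum.add_apply, AddSubgroup.coe_add]
        rfl)
  have hgr : ∀ (U : S.Opens) (hU : IsAffineOpen U), Nonempty (GradedRing (dg U hU)) := fun U hU => by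
    refine ⟨{ one_mem := (SetLike.one_mem_graded (𝒮.deg U hU) : (1 : 𝒮.presheaf.obj (op U)) ∈ 𝒮.deg U hU 0)
              mul_mem := fun i k a b ha hb => SetLike.mul_mem_graded (A := 𝒮.deg U hU) ha hb
              toDecomposition := H11Tilde.decompositionOfProj (dg U hU) (π U hU)
                (fun d x => (DirectSum.decompose (𝒮.deg U hU) x.1 d).2)
                (fun d x hx => Subtype.ext (DirectSum.decompose_of_mem_same _ hx))
                (fun d k h x hx => Subtype.ext (DirectSum.decompose_of_mem_ne _ hx h.symm))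
                (fun x => ⟨(DirectSum.decompose (𝒮.deg U hU) x.1).support, Subtype.ext ?_⟩) }⟩
    refine (map_sum (Y.sub U).subtype _ _).trans ?_
    exact DirectSum.sum_support_decompose (𝒮.deg U hU) x.1
  let 𝒮' : QCGrAlg S :=
    { B' with
      deg := dg
      graded := fun U hU => (hgr U hU).some
      map_mem := fun hU hV i _ _ hx => 𝒮.map_mem hU hV i hx
      str_mem := fun U hU r => 𝒮.str_mem U hU r }
  refine ⟨𝒮', QCAlgSub.subAlgHom 𝒮.toQCAlg ι hE, fun U hU d x hx => hx,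
    fun U _ => QCAlgSub.subAlgHom_injective 𝒮.toQCAlg ι hE U, fun U hU => ?_, fun U hU => ?_, fun U hU => ?_,
    fun U hU x => ⟨⟨_, Y.mem_sub_of_mem hU (QCAlgSub.japp_mem 𝒮.toQCAlg ι U x)⟩, hι U hU x, rfl⟩⟩
  · ext x
    constructor
    · intro hx
      obtain ⟨r, hr⟩ := (proj_spec 𝒮 hn ι hι U hU (hmem U hU x) 0).2.1 rfl
      exact ⟨r, Subtype.ext (hr.trans (DirectSum.decompose_of_mem_same (𝒮.deg U hU) (x := x.1) hx))⟩
    · rintro ⟨r, rfl⟩
      exact 𝒮.str_mem U hU r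
  · refine eq_top_iff.2 fun x _ => ?_
    let C : Subring (𝒮'.presheaf.obj (op U)) :=
      Subring.closure (((𝒮'.deg U hU 0 : AddSubgroup (𝒮'.presheaf.obj (op U))) : Set (𝒮'.presheaf.obj (op U))) ∪
        ((𝒮'.deg U hU n : AddSubgroup (𝒮'.presheaf.obj (op U))) : Set (𝒮'.presheaf.obj (op U))))
    have hle : QCAlgSub.genSub 𝒮.toQCAlg ι U ≤ C.map (Y.sub U).subtype := by
      refine Subring.closure_le.2 ?_
      rintro _ (⟨r, rfl⟩ | ⟨e, rfl⟩)
      · exact ⟨⟨_, Y.str_mem_sub U r⟩, Subring.subset_closure (Or.inl (𝒮.str_mem U hU r)), rfl⟩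
      · exact ⟨⟨_, Y.mem_sub_of_mem hU (QCAlgSub.japp_mem 𝒮.toQCAlg ι U e)⟩,
          Subring.subset_closure (Or.inr (hι U hU e)), rfl⟩
    obtain ⟨y, hy, hyx⟩ := hle (hmem U hU x)
    exact (Subtype.ext hyx : y = x) ▸ hy
  · haveI := hE
    obtain ⟨T, hT⟩ := (H10Coh.finite_sections E hEt hU).fg_top
    let t : Γ(E, U) → 𝒮'.presheaf.obj (op U) := fun e =>
      ⟨QCAlgSub.japp 𝒮.toQCAlg ι U e, Y.mem_sub_of_mem hU (QCAlgSub.japp_mem 𝒮.toQCAlg ι U e)⟩
    refine ⟨T.image t, fun z hz => ?_, fun x hx => ?_⟩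
    · obtain ⟨e, -, rfl⟩ := Finset.mem_image.1 hz
      exact hι U hU e
    · obtain ⟨e, he⟩ := (proj_spec 𝒮 hn ι hι U hU (hmem U hU x) n).2.2 rfl
      have hx' : x = t e := Subtype.ext ((DirectSum.decompose_of_mem_same (𝒮.deg U hU) (x := x.1) hx).symm.trans he.symm)
      subst hx'
      letI : Algebra Γ(S, U) (𝒮'.presheaf.obj (op U)) := (𝒮'.str.app (op U)).hom.toAlgebra
      let tl : Γ(E, U) →ₗ[Γ(S, U)] 𝒮'.presheaf.obj (op U) :=
        { toFun := t
          map_add' := fun a b => Subtype.ext (map_add (QCAlgSub.japp 𝒮.toQCAlg ι U) a b)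
          map_smul' := fun c a => Subtype.ext (QCAlgSub.japp_smul 𝒮.toQCAlg ι U c a) }
      have he' : t e ∈ Submodule.span Γ(S, U) ((T.image t : Finset _) : Set (𝒮'.presheaf.obj (op U))) := by
        rw [Finset.coe_image, show t = ⇑tl from rfl, ← Submodule.map_span, hT]
        exact ⟨e, Submodule.mem_top, rfl⟩
      obtain ⟨c, hc⟩ := Submodule.mem_span_finset.1 he'
      exact ⟨c, hc.2.symm⟩

end Groth.Agent.H11QMap.GenSubAlg
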