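import Mathlib.AlgebraicGeometry.ProjectiveSpectrum.Functor
import Groth.Prelude.Def_RelSpec2

/-!
# Away rings under graded homomorphisms
-/

set_option autoImplicit false

noncomputable section

universe u

open CategoryTheory AlgebraicGeometry HomogeneousLocalization DirectSum
open scoped HomogeneousIdeal

namespace Groth.Agent.H11QMap

variable {A B A' B' σA σB σA' σB' : Type u} [CommRing A] [SetLike σA A] [AddSubgroupClass σA A]
  [CommRing B] [SetLike σB B] [AddSubgroupClass σB B]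
  [CommRing A'] [SetLike σA' A'] [AddSubgroupClass σA' A']
  [CommRing B'] [SetLike σB' B'] [AddSubgroupClass σB' B']
variable {𝒜 : ℕ → σA} [GradedRing 𝒜] {ℬ : ℕ → σB} [GradedRing ℬ] {𝒜' : ℕ → σA'} [GradedRing 𝒜']
  {ℬ' : ℕ → σB'} [GradedRing ℬ']

theorem gmem (φ : 𝒜 →+*ᵍ ℬ) {d : ℕ} {a : A} (ha : a ∈ 𝒜 d) : φ a ∈ ℬ d := φ.2 ha

theorem away_square (u : 𝒜 →+*ᵍ ℬ) (ra : 𝒜 →+*ᵍ 𝒜') (rb : ℬ →+*ᵍ ℬ') (u' : 𝒜' →+*ᵍ ℬ')
    (h : ∀ a, rb (u a) = u' (ra a)) {d e : ℕ} {f : A} (hf : f ∈ 𝒜 d) {b : A'} (hb : b ∈ 𝒜' e) {x : A'}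
    (hx : x = ra f * b) (hy : u' x = rb (u f) * u' b) :
    ((awayMap ℬ' (u'.2 hb) hy).comp (Away.map rb (u f))).comp (Away.map u f) =
      ((Away.map u' x).comp (awayMap 𝒜' hb hx)).comp (Away.map ra f) := by
  refine RingHom.ext fun z => ?_
  obtain ⟨n, a, ha, rfl⟩ := Away.mk_surjective 𝒜 hf z
  simp only [RingHom.comp_apply]
  rw [Away.map_mk u f hf n a ha, Away.map_mk rb (u f) (u.2 hf) n (u a) (u.2 ha), awayMap_mk,
    Away.map_mk ra f hf n a ha, awayMap_mk,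
    Away.map_mk u' x (hx ▸ SetLike.mul_mem_graded (ra.2 hf) hb) n]
  apply val_injective
  simp [h]

/-- The projection to `D₊(y)` from `D₊(f')` through a multiple. -/
theorem specMap_restrict (rb : ℬ →+*ᵍ ℬ') (hrb : ℬ'₊ ≤ (ℬ₊).map rb) {d e : ℕ} (hd : 0 < d) {f : B} (hf : f ∈ ℬ d)
    {g : B'} (hg : g ∈ ℬ' e) {y : B'} (hy : y = rb f * g) (hy' : y ∈ ℬ' (d + e)) :
    (Spec.map (CommRingCat.ofHom (awayMap ℬ' hg hy)) ≫ Spec.map (CommRingCat.ofHom (Away.map rb f))) ≫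
        Proj.awayι ℬ f hf hd =
      Proj.awayι ℬ' y hy' (Nat.add_pos_left hd e) ≫ Proj.map rb hrb := by
  rw [Category.assoc, ← Proj.awayι_comp_map rb hrb hd f hf, ← Category.assoc]
  exact congrArg (· ≫ Proj.map rb hrb) (Proj.SpecMap_awayMap_awayι ℬ' (rb.2 hf) hd hg hy)

theorem mem_domOpen_iff (ψ : 𝒜 →+*ᵍ ℬ) (x : Proj ℬ) :
    x ∈ RelCone.domOpen ψ ↔ ∃ d, 0 < d ∧ ∃ f ∈ 𝒜 d, x ∈ Proj.basicOpen ℬ (ψ f) := by
  classical
  rw [RelCone.mem_domOpen]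
  constructor
  · rintro ⟨f, hf, hfx⟩
    by_contra hc
    push Not at hc
    apply hfx
    rw [← DirectSum.sum_support_decompose 𝒜 f, map_sum]
    refine sum_mem fun k hk => ?_
    rcases Nat.eq_zero_or_pos k with rfl | hk0
    · have h0 : (decompose 𝒜 f 0 : A) = 0 := (HomogeneousIdeal.mem_irrelevant_iff _ _).1 hf
      rw [h0, map_zero]
      exact zero_mem _
    · by_contra hn
      exact hc k hk0 _ (decompose 𝒜 f k).2 ((ProjectiveSpectrum.mem_basicOpen _ _ _).2 hn)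
  · rintro ⟨d, hd, f, hf, hx⟩
    exact ⟨f, HomogeneousIdeal.mem_irrelevant_of_mem _ hd hf, (ProjectiveSpectrum.mem_basicOpen _ _ _).1 hx⟩

end Groth.Agent.H11QMap
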