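import Groth.Agent.H11QMap.Chart
import Groth.Agent.H11QMap.Ring

/-!
# Existence of `Proj(u)` on its open of definition, for a graded morphism over a morphism of bases
-/

set_option autoImplicit false

noncomputable section

universe u

open CategoryTheory CategoryTheory.Limits AlgebraicGeometry TopologicalSpace Opposite RelProj
open HomogeneousLocalization
open scoped HomogeneousIdeal

namespace Groth.Agent.H11QMap

variable {S S' P P' : Scheme.{u}} {g : S' ⟶ S} {𝒮 : QCGrAlg S} {𝒮' : QCGrAlg S'} (u : QGrHom g 𝒮 𝒮')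
  {p : P ⟶ S} (chart : ∀ (U : S.Opens) (hU : IsAffineOpen U), (((p ⁻¹ᵁ U : P.Opens) : Scheme.{u}) ≅ Proj (𝒮.deg U hU)))
  {p' : P' ⟶ S'}
  (chart' : ∀ (U' : S'.Opens) (hU' : IsAffineOpen U'), (((p' ⁻¹ᵁ U' : P'.Opens) : Scheme.{u}) ≅ Proj (𝒮'.deg U' hU')))

theorem gradedAt_res {U V : S.Opens} {U' W : S'.Opens} (hU : IsAffineOpen U) (hV : IsAffineOpen V)
    (hU' : IsAffineOpen U') (hW : IsAffineOpen W) (hle : U' ≤ g ⁻¹ᵁ U) (hle' : W ≤ g ⁻¹ᵁ V) (i : V ≤ U) (i' : W ≤ U')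
    (a : 𝒮.presheaf.obj (op U)) :
    𝒮'.res hU' hW i' (u.gradedAt U hU U' hU' hle a) = u.gradedAt V hV W hW hle' (𝒮.res hU hV i a) := by
  simp only [QCGrAlg.res_apply, QGrHom.gradedAt_apply]
  rw [← CommRingCat.comp_apply, ← CommRingCat.comp_apply, u.appLE_map, u.map_appLE]

/-- The target map on a standard chart. -/
def tMap (U : S.Opens) (hU : IsAffineOpen U) (U' : S'.Opens) (hU' : IsAffineOpen U') (hle : U' ≤ g ⁻¹ᵁ U)
    {d : ℕ} (hd : 0 < d) (f : 𝒮.presheaf.obj (op U)) (hf : f ∈ 𝒮.deg U hU d) :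
    Spec (CommRingCat.of (Away (𝒮'.deg U' hU') (u.gradedAt U hU U' hU' hle f))) ⟶ P :=
  Spec.map (CommRingCat.ofHom (Away.map (u.gradedAt U hU U' hU' hle) f)) ≫
    Proj.awayι (𝒮.deg U hU) f hf hd ≫ emb p chart U hU

instance isOpenImmersion_awayEmb (U : S.Opens) (hU : IsAffineOpen U) (U' : S'.Opens) (hU' : IsAffineOpen U')
    (hle : U' ≤ g ⁻¹ᵁ U) {d : ℕ} (hd : 0 < d) (f : 𝒮.presheaf.obj (op U)) (hf : f ∈ 𝒮.deg U hU d) :
    IsOpenImmersion (awayEmb u p' chart' U hU U' hU' hle hd f hf) := by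
  unfold awayEmb
  infer_instance

theorem opensRange_awayEmb (U : S.Opens) (hU : IsAffineOpen U) (U' : S'.Opens) (hU' : IsAffineOpen U')
    (hle : U' ≤ g ⁻¹ᵁ U) {d : ℕ} (hd : 0 < d) (f : 𝒮.presheaf.obj (op U)) (hf : f ∈ 𝒮.deg U hU d) :
    (awayEmb u p' chart' U hU U' hU' hle hd f hf).opensRange =
      cb chart' U' hU' (u.gradedAt U hU U' hU' hle f) :=
  opensRange_awayι_emb U' hU' hd _ ((u.gradedAt U hU U' hU' hle).2 hf)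

theorem range_awayEmb (U : S.Opens) (hU : IsAffineOpen U) (U' : S'.Opens) (hU' : IsAffineOpen U')
    (hle : U' ≤ g ⁻¹ᵁ U) {d : ℕ} (hd : 0 < d) (f : 𝒮.presheaf.obj (op U)) (hf : f ∈ 𝒮.deg U hU d) :
    Set.range (awayEmb u p' chart' U hU U' hU' hle hd f hf).base =
      (cb chart' U' hU' (u.gradedAt U hU U' hU' hle f) : Set P') :=
  congrArg (fun O : P'.Opens => (O : Set P')) (opensRange_awayEmb u chart' U hU U' hU' hle hd f hf)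

theorem mem_domQ_iff (z : P') :
    z ∈ domQ u p' chart' ↔ ∃ (U : S.Opens) (hU : IsAffineOpen U) (U' : S'.Opens) (hU' : IsAffineOpen U')
      (hle : U' ≤ g ⁻¹ᵁ U) (d : ℕ) (_ : 0 < d) (f : 𝒮.presheaf.obj (op U)),
      f ∈ 𝒮.deg U hU d ∧ z ∈ cb chart' U' hU' (u.gradedAt U hU U' hU' hle f) := by
  rw [domQ, Opens.mem_iSup]
  constructor
  · rintro ⟨⟨⟨⟨U, hU⟩, ⟨U', hU'⟩⟩, hle⟩, w, hw, rfl⟩
    obtain ⟨d, hd, f, hf, hwf⟩ := (mem_domOpen_iff _ _).1 hw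
    exact ⟨U, hU, U', hU', hle, d, hd, f, hf, w, hwf, rfl⟩
  · rintro ⟨U, hU, U', hU', hle, d, hd, f, hf, w, hw, rfl⟩
    exact ⟨⟨⟨⟨U, hU⟩, ⟨U', hU'⟩⟩, hle⟩, w, (mem_domOpen_iff _ _).2 ⟨d, hd, f, hf, hw⟩, rfl⟩

theorem cb_le_domQ (U : S.Opens) (hU : IsAffineOpen U) (U' : S'.Opens) (hU' : IsAffineOpen U')
    (hle : U' ≤ g ⁻¹ᵁ U) {d : ℕ} (hd : 0 < d) (f : 𝒮.presheaf.obj (op U)) (hf : f ∈ 𝒮.deg U hU d) :
    cb chart' U' hU' (u.gradedAt U hU U' hU' hle f) ≤ domQ u p' chart' :=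
  fun z hz => (mem_domQ_iff u chart' z).2 ⟨U, hU, U', hU', hle, d, hd, f, hf, hz⟩

variable (hP : IsRelProj 𝒮 p chart) (hP' : IsRelProj 𝒮' p' chart')
include hP hP'

/-- A standard chart over basic opens and a multiple of `f` factors through the one of `f`. -/
theorem exists_refine (U : S.Opens) (hU : IsAffineOpen U) (U' : S'.Opens) (hU' : IsAffineOpen U')
    (hle : U' ≤ g ⁻¹ᵁ U) {d : ℕ} (hd : 0 < d) (f : 𝒮.presheaf.obj (op U)) (hf : f ∈ 𝒮.deg U hU d)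
    (V : S.Opens) (hV : IsAffineOpen V) (r : Γ(S, U)) (hr : V = S.basicOpen r) (hVU : V ≤ U)
    (W : S'.Opens) (hW : IsAffineOpen W) (s : Γ(S', U')) (hs : W = S'.basicOpen s) (hWU : W ≤ U')
    (hle' : W ≤ g ⁻¹ᵁ V) {m : ℕ} (hm : 0 < m) (x : 𝒮.presheaf.obj (op V)) (hx : x ∈ 𝒮.deg V hV m)
    {e : ℕ} (b : 𝒮.presheaf.obj (op V)) (hb : b ∈ 𝒮.deg V hV e) (hxb : x = 𝒮.res hU hV hVU f * b) :
    ∃ σ, σ ≫ awayEmb u p' chart' U hU U' hU' hle hd f hf = awayEmb u p' chart' V hV W hW hle' hm x hx ∧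
      σ ≫ tMap u chart U hU U' hU' hle hd f hf = tMap u chart V hV W hW hle' hm x hx := by
  subst hr hs
  have hsq := gradedAt_res u hU hV hU' hW hle hle' hVU hWU
  have hy : u.gradedAt _ hV _ hW hle' x =
      𝒮'.res hU' hW hWU (u.gradedAt U hU U' hU' hle f) * u.gradedAt _ hV _ hW hle' b := by
    rw [hxb, map_mul, hsq]
  have hx' : x ∈ 𝒮.deg _ hV (d + e) := hxb ▸ SetLike.mul_mem_graded ((𝒮.res hU hV hVU).2 hf) hb
  refine ⟨Spec.map (CommRingCat.ofHom (awayMap _ ((u.gradedAt _ hV _ hW hle').2 hb) hy)) ≫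
    Spec.map (CommRingCat.ofHom (Away.map (𝒮'.res hU' hW hWU) (u.gradedAt U hU U' hU' hle f))), ?_, ?_⟩
  · have h1 := specMap_restrict (𝒮'.res hU' hW hWU) (𝒮'.irrelevant_le_map U' hU' s) hd
      ((u.gradedAt U hU U' hU' hle).2 hf) ((u.gradedAt _ hV _ hW hle').2 hb) hy
      ((u.gradedAt _ hV _ hW hle').2 hx')
    unfold awayEmb
    exact ((Category.assoc _ _ _).symm.trans (congrArg (· ≫ emb p' chart' U' hU') h1)).trans
      ((Category.assoc _ _ _).trans (congrArg (_ ≫ ·) (map_res_emb hP' U' hU' s)))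
  · have h1 := specMap_restrict (𝒮.res hU hV hVU) (𝒮.irrelevant_le_map U hU r) hd hf hb hxb hx'
    have h2 := away_square (u.gradedAt U hU U' hU' hle) (𝒮.res hU hV hVU) (𝒮'.res hU' hW hWU)
      (u.gradedAt _ hV _ hW hle') hsq hf hb hxb hy
    unfold tMap
    have h3 : (Spec.map (CommRingCat.ofHom (awayMap _ ((u.gradedAt _ hV _ hW hle').2 hb) hy)) ≫
        Spec.map (CommRingCat.ofHom (Away.map (𝒮'.res hU' hW hWU) (u.gradedAt U hU U' hU' hle f)))) ≫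
        Spec.map (CommRingCat.ofHom (Away.map (u.gradedAt U hU U' hU' hle) f)) =
        Spec.map (CommRingCat.ofHom (Away.map (u.gradedAt _ hV _ hW hle') x)) ≫
          Spec.map (CommRingCat.ofHom (awayMap _ hb hxb)) ≫
            Spec.map (CommRingCat.ofHom (Away.map (𝒮.res hU hV hVU) f)) := by
      simp only [← Spec.map_comp, ← CommRingCat.ofHom_comp]
      exact congrArg (fun k => Spec.map (CommRingCat.ofHom k)) h2
    have h4 := (congrArg (· ≫ emb p chart U hU) h1).trans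
      ((Category.assoc _ _ _).trans (congrArg (_ ≫ ·) (map_res_emb hP U hU r)))
    refine ((Category.assoc _ _ _).symm.trans (congrArg (· ≫ (Proj.awayι (𝒮.deg U hU) f hf hd ≫ emb p chart U hU)) h3)).trans ?_
    refine (Category.assoc _ _ _).trans (congrArg (_ ≫ ·) ?_)
    exact (Category.assoc _ _ _).symm.trans h4

/-- Two standard charts agree near every common point. -/
theorem exists_common {z : P'} (U₁ : S.Opens) (hU₁ : IsAffineOpen U₁) (U₁' : S'.Opens) (hU₁' : IsAffineOpen U₁')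
    (hle₁ : U₁' ≤ g ⁻¹ᵁ U₁) {d₁ : ℕ} (hd₁ : 0 < d₁) (f₁ : 𝒮.presheaf.obj (op U₁)) (hf₁ : f₁ ∈ 𝒮.deg U₁ hU₁ d₁)
    (U₂ : S.Opens) (hU₂ : IsAffineOpen U₂) (U₂' : S'.Opens) (hU₂' : IsAffineOpen U₂')
    (hle₂ : U₂' ≤ g ⁻¹ᵁ U₂) {d₂ : ℕ} (hd₂ : 0 < d₂) (f₂ : 𝒮.presheaf.obj (op U₂)) (hf₂ : f₂ ∈ 𝒮.deg U₂ hU₂ d₂)
    (hz₁ : z ∈ cb chart' U₁' hU₁' (u.gradedAt U₁ hU₁ U₁' hU₁' hle₁ f₁))
    (hz₂ : z ∈ cb chart' U₂' hU₂' (u.gradedAt U₂ hU₂ U₂' hU₂' hle₂ f₂)) :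
    ∃ (T : Scheme.{u}) (c : T ⟶ P') (_ : IsOpenImmersion c) (σ₁ : T ⟶ _) (σ₂ : T ⟶ _),
      σ₁ ≫ awayEmb u p' chart' U₁ hU₁ U₁' hU₁' hle₁ hd₁ f₁ hf₁ = c ∧
      σ₂ ≫ awayEmb u p' chart' U₂ hU₂ U₂' hU₂' hle₂ hd₂ f₂ hf₂ = c ∧
      σ₁ ≫ tMap u chart U₁ hU₁ U₁' hU₁' hle₁ hd₁ f₁ hf₁ = σ₂ ≫ tMap u chart U₂ hU₂ U₂' hU₂' hle₂ hd₂ f₂ hf₂ ∧
      z ∈ c.opensRange := by
  have hz1 : p' z ∈ U₁' := cb_le U₁' hU₁' _ hz₁
  have hz2 : p' z ∈ U₂' := cb_le U₂' hU₂' _ hz₂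
  obtain ⟨r, r', hrr', hzr⟩ := exists_basicOpen_le_affine_inter hU₁ hU₂ (g (p' z)) ⟨hle₁ hz1, hle₂ hz2⟩
  obtain ⟨a, a', haa', hza⟩ := exists_basicOpen_le_affine_inter hU₁' hU₂' (p' z) ⟨hz1, hz2⟩
  obtain ⟨t, ht, hzt⟩ := (hU₁'.basicOpen a).exists_basicOpen_le
    (V := g ⁻¹ᵁ S.basicOpen r) ⟨p' z, hzr⟩ hza
  obtain ⟨s, hs⟩ := hU₁'.basicOpen_basicOpen_is_basicOpen a t
  obtain ⟨t', ht'⟩ : ∃ t' : Γ(S', S'.basicOpen a'), S'.basicOpen t' = S'.basicOpen t := by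
    have key : ∀ O : S'.Opens, S'.basicOpen a = O →
        ∃ t' : Γ(S', O), S'.basicOpen t' = S'.basicOpen t := by
      rintro O rfl
      exact ⟨t, rfl⟩
    exact key _ haa'
  obtain ⟨s', hs'⟩ := hU₂'.basicOpen_basicOpen_is_basicOpen a' t'
  let V := S.basicOpen r
  let W := S'.basicOpen s
  have hV : IsAffineOpen V := hU₁.basicOpen r
  have hW : IsAffineOpen W := hU₁'.basicOpen s
  have hWV : W ≤ g ⁻¹ᵁ V := hs.trans_le ht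
  have hzW : p' z ∈ W := hs.ge hzt
  have hV1 : V ≤ U₁ := S.basicOpen_le r
  have hV2 : V ≤ U₂ := hrr'.trans_le (S.basicOpen_le r')
  have hW2eq : W = S'.basicOpen s' := hs.trans (hs'.trans ht').symm
  have hW2 : W ≤ U₂' := hW2eq.trans_le (S'.basicOpen_le s')
  have hxdeg : 𝒮.res hU₁ hV hV1 f₁ * 𝒮.res hU₂ hV hV2 f₂ ∈ 𝒮.deg V hV (d₁ + d₂) :=
    SetLike.mul_mem_graded ((𝒮.res hU₁ hV hV1).2 hf₁) ((𝒮.res hU₂ hV hV2).2 hf₂)
  obtain ⟨σ₁, h1c, h1t⟩ := exists_refine u chart chart' hP hP' U₁ hU₁ U₁' hU₁' hle₁ hd₁ f₁ hf₁ V hV r rfl hV1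
    W hW s rfl (S'.basicOpen_le s) hWV (Nat.add_pos_left hd₁ d₂) _ hxdeg _ ((𝒮.res hU₂ hV hV2).2 hf₂) rfl
  obtain ⟨σ₂, h2c, h2t⟩ := exists_refine u chart chart' hP hP' U₂ hU₂ U₂' hU₂' hle₂ hd₂ f₂ hf₂ V hV r' hrr' hV2
    W hW s' hW2eq hW2 hWV (Nat.add_pos_left hd₁ d₂) _ hxdeg _ ((𝒮.res hU₁ hV hV1).2 hf₁) (mul_comm _ _)
  refine ⟨_, _, inferInstance, σ₁, σ₂, h1c, h2c, h1t.trans h2t.symm, ?_⟩
  rw [opensRange_awayEmb, map_mul, cb_mul]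
  refine ⟨?_, ?_⟩
  · rw [← gradedAt_res u hU₁ hV hU₁' hW hle₁ hWV hV1 (S'.basicOpen_le s)]
    exact (mem_cb_res hP' hU₁' hW (S'.basicOpen_le s) _ hzW).2 hz₁
  · rw [← gradedAt_res u hU₂ hV hU₂' hW hle₂ hWV hV2 hW2]
    exact (mem_cb_res hP' hU₂' hW hW2 _ hzW).2 hz₂

end Groth.Agent.H11QMap
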