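import Groth.Agent.H11QMap.Props
import Groth.Agent.H11Sym.BundleRankOne
import Groth.Agent.H11Ample.Twist

/-!
# The relative Proj of the symmetric algebra of an invertible module
-/

set_option autoImplicit false
set_option linter.style.haveILetI false

noncomputable section

universe u

open CategoryTheory CategoryTheory.Limits AlgebraicGeometry TopologicalSpace Opposite RelProj
open HomogeneousLocalization
open scoped HomogeneousIdeal
open Groth.Agent.H11Tilde Groth.Agent.H11Ample Groth.Agent.H11Sym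

namespace Groth.Agent.H11QMap

variable {X : Scheme.{u}} {L : X.Modules} {𝒜 : QCGrAlg X} {j : L ⟶ 𝒜.toModule}

/-- In degree `k` the algebra is free on the `k`-th power of a generator. -/
theorem exists_eq_str_mul_pow (hLq : Coh.IsQCoh L) (hj : IsGrSymAlg L 𝒜 j) {V : X.Opens} (hV : IsAffineOpen V)
    {e : Γ(L, V)} (he : IsGen L e) {k : ℕ} {a : 𝒜.presheaf.obj (op V)} (ha : a ∈ 𝒜.deg V hV k) :
    ∃ c : Γ(X, V), a = (𝒜.str.app (op V)).hom c * japp (B := 𝒜.toQCAlg) j V e ^ k := by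
  classical
  letI := algOn 𝒜.toQCAlg V
  have hs := hj.1.isAffSym hLq V hV
  have hspan : ∀ m : Γ(L, V), ∃ c : Γ(X, V), c • e = m := fun m => by
    obtain ⟨c, hc⟩ := (he.bijective le_rfl).2 m
    exact ⟨c, (congrArg (c • ·) (H10Coh.mres_self L _ e)).symm.trans hc⟩
  rw [deg_eq_piece hLq hj V hV k] at ha
  obtain ⟨c, hc⟩ := exists_coeff_eq hs e hspan a k
  rw [(mem_piece hs).1 ha, Polynomial.coeff_monomial, if_pos rfl] at hc
  exact ⟨c, hc⟩

theorem str_mul_pow_eq_zero (hLq : Coh.IsQCoh L) (hj : IsGrSymAlg L 𝒜 j) {V : X.Opens} (hV : IsAffineOpen V)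
    {e : Γ(L, V)} (he : IsGen L e) {k : ℕ} {c : Γ(X, V)}
    (h : (𝒜.str.app (op V)).hom c * japp (B := 𝒜.toQCAlg) j V e ^ k = 0) : c = 0 := by
  letI := algOn 𝒜.toQCAlg V
  have hs := hj.1.isAffSym hLq V hV
  have hbij : Function.Bijective fun r : Γ(X, V) => r • e := by
    have h1 := he.bijective (le_refl V)
    simpa only [H10Coh.mres_self] using h1
  let coef : Γ(L, V) ≃ₗ[Γ(X, V)] Γ(X, V) :=
    (LinearEquiv.ofBijective (LinearMap.toSpanSingleton Γ(X, V) Γ(L, V) e) hbij).symm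
  let φ : 𝒜.presheaf.obj (op V) →ₐ[Γ(X, V)] Γ(X, V) := hs.lift coef.toLinearMap
  have hcoef : coef e = 1 := by
    rw [LinearEquiv.symm_apply_eq]
    exact (one_smul _ _).symm
  have h1 : φ (japp (B := 𝒜.toQCAlg) j V e) = 1 := (IsSymmetricAlgebra.lift_eq hs _ e).trans hcoef
  have h2 := congrArg φ h
  rw [map_mul, map_pow, h1, one_pow, mul_one, map_zero] at h2
  exact (φ.commutes c).symm.trans h2

theorem bijective_str_fromZero (hLq : Coh.IsQCoh L) (hj : IsGrSymAlg L 𝒜 j) {V : X.Opens} (hV : IsAffineOpen V)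
    {e : Γ(L, V)} (he : IsGen L e) :
    Function.Bijective ((fromZeroRingHom (𝒜.deg V hV) (Submonoid.powers (japp (B := 𝒜.toQCAlg) j V e))).comp
      (𝒜.strZero V hV).hom) := by
  have hT : japp (B := 𝒜.toQCAlg) j V e ∈ 𝒜.deg V hV 1 := hj.2 V hV e
  refine ⟨(injective_iff_map_eq_zero _).2 fun c hc => ?_, fun z => ?_⟩
  · have h0 := congrArg HomogeneousLocalization.val hc
    simp only [RingHom.comp_apply, fromZeroRingHom, RingHom.coe_mk, MonoidHom.coe_mk, OneHom.coe_mk, val_mk,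
      val_zero] at h0
    rw [← Localization.mk_zero 1, Localization.mk_eq_mk_iff, Localization.r_iff_exists] at h0
    obtain ⟨⟨_, l, rfl⟩, hl⟩ := h0
    simp only [QCGrAlg.strZero_apply_coe, mul_zero] at hl
    refine str_mul_pow_eq_zero hLq hj hV he (k := l) ?_
    rw [mul_comm]
    simp only [OneMemClass.coe_one, one_mul, mul_one] at hl ⊢
    exact hl
  · obtain ⟨n, a, ha, rfl⟩ := Away.mk_surjective (𝒜.deg V hV) hT z
    rw [smul_eq_mul, mul_one] at ha
    obtain ⟨c, hc⟩ := exists_eq_str_mul_pow hLq hj hV he ha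
    refine ⟨c, val_injective _ ?_⟩
    simp only [RingHom.comp_apply, fromZeroRingHom, RingHom.coe_mk, MonoidHom.coe_mk, OneHom.coe_mk, val_mk,
      Away.val_mk, QCGrAlg.strZero_apply_coe]
    rw [Localization.mk_eq_mk_iff, Localization.r_iff_exists]
    refine ⟨1, ?_⟩
    simp [hc, mul_comm]
    rfl

variable {PL : Scheme.{u}} {pL : PL ⟶ X}
  {chartL : ∀ (U : X.Opens) (hU : IsAffineOpen U), (((pL ⁻¹ᵁ U : PL.Opens) : Scheme.{u}) ≅ Proj (𝒜.deg U hU))}

theorem cb_gen (hLq : Coh.IsQCoh L) (hj : IsGrSymAlg L 𝒜 j) {V : X.Opens} (hV : IsAffineOpen V)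
    {e : Γ(L, V)} (he : IsGen L e) :
    cb chartL V hV (japp (B := 𝒜.toQCAlg) j V e) = pL ⁻¹ᵁ V := by
  refine le_antisymm (cb_le V hV _) fun z hz => ?_
  obtain ⟨d, hd, a, ha, hza⟩ := exists_mem_cb (chart := chartL) hV hz
  obtain ⟨c, rfl⟩ := exists_eq_str_mul_pow hLq hj hV he ha
  rw [cb_mul, cb_pow V hV _ hd] at hza
  exact hza.2

variable (hP : IsRelProj 𝒜 pL chartL)
include hP

/-- `D₊(c T^n)` is the part over `D(c)`. -/
theorem cb_str_mul_pow (hLq : Coh.IsQCoh L) (hj : IsGrSymAlg L 𝒜 j) {V : X.Opens} (hV : IsAffineOpen V)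
    {e : Γ(L, V)} (he : IsGen L e) (c : Γ(X, V)) {n : ℕ} (hn : 0 < n) :
    cb chartL V hV ((𝒜.str.app (op V)).hom c * japp (B := 𝒜.toQCAlg) j V e ^ n) = pL ⁻¹ᵁ X.basicOpen c := by
  have hT : japp (B := 𝒜.toQCAlg) j V e ∈ 𝒜.deg V hV 1 := hj.2 V hV e
  have hcT : (𝒜.str.app (op V)).hom c * japp (B := 𝒜.toQCAlg) j V e ∈ 𝒜.deg V hV 1 := by
    have := SetLike.mul_mem_graded (𝒜.str_mem V hV c) hT
    rwa [zero_add] at this
  rw [cb_mul, cb_pow V hV _ hn, ← cb_mul]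
  have hdef : (pL ⁻¹ᵁ X.basicOpen c : PL.Opens) ≤ pL ⁻¹ᵁ V := pL.preimage_mono (X.basicOpen_le c)
  have hrange := (opensRange_awayι_emb (chart := chartL) V hV one_pos _ hT).trans (cb_gen hLq hj hV he)
  ext z
  by_cases hz : z ∈ pL ⁻¹ᵁ V
  · obtain ⟨y, rfl⟩ := hrange.ge hz
    rw [Scheme.Hom.comp_apply]
    refine (emb_mem_cb_iff V hV _ _).trans ?_
    change y ∈ Proj.awayι _ _ hT one_pos ⁻¹ᵁ Proj.basicOpen _ _ ↔
      pL ((Proj.awayι (𝒜.deg V hV) _ hT one_pos ≫ emb pL chartL V hV) y) ∈ X.basicOpen c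
    rw [Proj.awayι_preimage_basicOpen (𝒜.deg V hV) hT one_pos hcT one_pos]
    rw [← Scheme.Hom.comp_apply, Category.assoc, awayι_emb_p chartL hP V hV one_pos _ hT, Scheme.Hom.comp_apply]
    change _ ↔ Spec.map _ y ∈ hV.fromSpec ⁻¹ᵁ X.basicOpen c
    rw [hV.fromSpec_preimage_basicOpen c]
    have h : Away.isLocalizationElem hT hcT =
        fromZeroRingHom (𝒜.deg V hV) _ ((𝒜.strZero V hV).hom c) := by
      apply val_injective
      simp only [Away.isLocalizationElem, Away.val_mk, fromZeroRingHom, RingHom.coe_mk, MonoidHom.coe_mk,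
        OneHom.coe_mk, val_mk, QCGrAlg.strZero_apply_coe]
      rw [Localization.mk_eq_mk_iff, Localization.r_iff_exists]
      exact ⟨1, by simp [mul_comm]; rfl⟩
    rw [h]
    exact Iff.rfl
  · exact ⟨fun h => absurd (cb_le V hV _ h) hz, fun h => absurd (hdef h) hz⟩

theorem isIso_morphismRestrict (hLq : Coh.IsQCoh L) (hj : IsGrSymAlg L 𝒜 j) {V : X.Opens} (hV : IsAffineOpen V)
    {e : Γ(L, V)} (he : IsGen L e) : IsIso (pL ∣_ V) := by
  have hT : japp (B := 𝒜.toQCAlg) j V e ∈ 𝒜.deg V hV 1 := hj.2 V hV e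
  have hrange := (opensRange_awayι_emb (chart := chartL) V hV one_pos _ hT).trans (cb_gen hLq hj hV he)
  let c := Proj.awayι (𝒜.deg V hV) _ hT one_pos ≫ emb pL chartL V hV
  haveI : IsIso (CommRingCat.ofHom ((fromZeroRingHom (𝒜.deg V hV)
      (Submonoid.powers (japp (B := 𝒜.toQCAlg) j V e))).comp (𝒜.strZero V hV).hom)) :=
    (ConcreteCategory.isIso_iff_bijective _).2 (bijective_str_fromZero hLq hj hV he)
  let k := Spec.map (CommRingCat.ofHom ((fromZeroRingHom (𝒜.deg V hV)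
      (Submonoid.powers (japp (B := 𝒜.toQCAlg) j V e))).comp (𝒜.strZero V hV).hom))
  have hc : c ≫ pL = k ≫ hV.fromSpec := (Category.assoc _ _ _).trans (awayι_emb_p chartL hP V hV one_pos _ hT)
  have hr1 : Set.range (pL ⁻¹ᵁ V).ι = Set.range c := by
    rw [Scheme.Opens.range_ι]
    exact congrArg (fun O : PL.Opens => (O : Set PL)) hrange.symm
  let a := IsOpenImmersion.isoOfRangeEq (pL ⁻¹ᵁ V).ι c hr1
  have hr2 : Set.range hV.fromSpec = Set.range V.ι := by
    rw [IsAffineOpen.range_fromSpec, Scheme.Opens.range_ι]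
  let b := IsOpenImmersion.isoOfRangeEq hV.fromSpec V.ι hr2
  have h : pL ∣_ V = a.hom ≫ k ≫ b.hom := by
    rw [← cancel_mono V.ι, morphismRestrict_ι, Category.assoc, Category.assoc,
      IsOpenImmersion.isoOfRangeEq_hom_fac, ← hc, IsOpenImmersion.isoOfRangeEq_hom_fac_assoc]
  rw [h]
  infer_instance

/-- `Proj` of the symmetric algebra of an invertible module is the base. -/
theorem isIso_pL (hL : PicF.IsInvertible L) (hLq : Coh.IsQCoh L) (hj : IsGrSymAlg L 𝒜 j) : IsIso pL := by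
  obtain ⟨U, e, hcov, hU, he⟩ := exists_affine_gen_cover hL
  exact (IsZariskiLocalAtTarget.iff_of_iSup_eq_top (P := MorphismProperty.isomorphisms Scheme.{u}) U
    hcov.iSup_eq_top).2 fun x => isIso_morphismRestrict hP hLq hj (hU x) (he x)

omit hP in
theorem exists_trivial_nhd (hL : PicF.IsInvertible L) {V : X.Opens} {x : X} (hx : x ∈ V) :
    ∃ (W : X.Opens) (e : Γ(L, W)), x ∈ W ∧ W ≤ V ∧ IsAffineOpen W ∧ IsGen L e := by
  obtain ⟨U, e, hcov, hU, he⟩ := exists_affine_gen_cover hL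
  obtain ⟨i, hi⟩ := hcov.exists_mem x
  obtain ⟨W, hW, hxW, hle⟩ := exists_isAffineOpen_mem_and_subset (U := U i ⊓ V) (x := x) ⟨hi, hx⟩
  exact ⟨W, _, hxW, fun w hw => (hle hw).2, hW, (he i).res (show W ≤ U i from fun w hw => (hle hw).1)⟩

/-- Where an element of degree `n` generates, its standard open is everything. -/
theorem cb_eq_of_span (hL : PicF.IsInvertible L) (hLq : Coh.IsQCoh L) (hj : IsGrSymAlg L 𝒜 j) {V : X.Opens}
    (hV : IsAffineOpen V) {n : ℕ} (hn : 0 < n) (t : 𝒜.presheaf.obj (op V))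
    (hspan : ((𝒜.deg V hV n : AddSubgroup (𝒜.presheaf.obj (op V))) : Set (𝒜.presheaf.obj (op V))) ⊆
      (Ideal.span {t} : Set (𝒜.presheaf.obj (op V)))) : cb chartL V hV t = pL ⁻¹ᵁ V := by
  classical
  refine le_antisymm (cb_le V hV _) fun z hz => ?_
  obtain ⟨W₀, e₀, hzW₀, hW₀V, hW₀, he₀⟩ := exists_trivial_nhd (L := L) hL (show pL z ∈ V from hz)
  obtain ⟨r, hr, hzr⟩ := hV.exists_basicOpen_le (V := W₀) ⟨pL z, hzW₀⟩ hz
  have hW := hV.basicOpen r
  have he : IsGen L (L.presheaf.map (homOfLE hr).op e₀) := he₀.res hr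
  let T := japp (B := 𝒜.toQCAlg) j (X.basicOpen r) (L.presheaf.map (homOfLE hr).op e₀)
  have hT : T ∈ 𝒜.deg _ hW 1 := hj.2 _ hW _
  have hTn : T ^ n ∈ 𝒜.deg _ hW n := by
    have := SetLike.pow_mem_graded n hT
    rwa [smul_eq_mul, mul_one] at this
  letI := (𝒜.presheaf.map (homOfLE (X.basicOpen_le r)).op).hom.toAlgebra
  haveI hloc : IsLocalization.Away ((𝒜.str.app (op V)).hom r) (𝒜.presheaf.obj (op (X.basicOpen r))) :=
    𝒜.isQC V hV r
  obtain ⟨k, x, hk⟩ := IsLocalization.Away.surj ((𝒜.str.app (op V)).hom r) (T ^ n)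
  have hk' : T ^ n * 𝒜.res hV hW (X.basicOpen_le r) ((𝒜.str.app (op V)).hom r ^ k) =
      𝒜.res hV hW (X.basicOpen_le r) (DirectSum.decompose (𝒜.deg V hV) x n : 𝒜.presheaf.obj (op V)) := by
    have hr0 : 𝒜.res hV hW (X.basicOpen_le r) ((𝒜.str.app (op V)).hom r ^ k) ∈ 𝒜.deg _ hW 0 := by
      rw [map_pow]
      have := SetLike.pow_mem_graded k (gmem (𝒜.res hV hW (X.basicOpen_le r)) (𝒜.str_mem V hV r))
      rwa [smul_zero] at this
    have hdeg := SetLike.mul_mem_graded hTn hr0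
    rw [add_zero] at hdeg
    rw [GradedRingHom.map_directSumDecompose]
    refine (DirectSum.decompose_of_mem_same (𝒜.deg _ hW) hdeg).symm.trans ?_
    congr 2
    refine congrArg _ ?_
    rw [map_pow]
    exact hk
  obtain ⟨b, hb⟩ := Ideal.mem_span_singleton.1 (hspan (DirectSum.decompose (𝒜.deg V hV) x n).2)
  have hzT : z ∈ cb chartL _ hW (T ^ n * 𝒜.res hV hW (X.basicOpen_le r) ((𝒜.str.app (op V)).hom r ^ k)) := by
    have hu : IsUnit ((X.presheaf.map (homOfLE (X.basicOpen_le r)).op).hom r) :=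
      RingedSpace.isUnit_res_basicOpen _ r
    have hz' : z ∈ cb chartL _ hW ((𝒜.str.app (op (X.basicOpen r))).hom
        ((X.presheaf.map (homOfLE (X.basicOpen_le r)).op).hom r ^ k) * T ^ n) := by
      rw [cb_str_mul_pow hP hLq hj hW he _ hn, Scheme.basicOpen_of_isUnit _ (hu.pow k)]
      exact hzr
    have hnat : 𝒜.res hV hW (X.basicOpen_le r) ((𝒜.str.app (op V)).hom r ^ k) =
        (𝒜.str.app (op (X.basicOpen r))).hom ((X.presheaf.map (homOfLE (X.basicOpen_le r)).op).hom r ^ k) := by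
      rw [map_pow, map_pow]
      exact congrArg (· ^ k) (ConcreteCategory.congr_hom (𝒜.str.naturality (homOfLE (X.basicOpen_le r)).op) r).symm
    rw [hnat, mul_comm]
    exact hz'
  rw [hk', hb, map_mul, cb_mul] at hzT
  exact (mem_cb_res hP hV hW (X.basicOpen_le r) t hzr).1 hzT.1

/-- An element of degree `n` generates near the points of its standard open. -/
theorem exists_span_nhd (hL : PicF.IsInvertible L) (hLq : Coh.IsQCoh L) (hj : IsGrSymAlg L 𝒜 j) {V : X.Opens}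
    (hV : IsAffineOpen V) {n : ℕ} (hn : 0 < n) (t : 𝒜.presheaf.obj (op V)) (ht : t ∈ 𝒜.deg V hV n) {z : PL}
    (hz : z ∈ cb chartL V hV t) :
    ∃ (W : X.Opens) (hW : IsAffineOpen W) (i : W ≤ V), pL z ∈ W ∧
      ((𝒜.deg W hW n : AddSubgroup (𝒜.presheaf.obj (op W))) : Set (𝒜.presheaf.obj (op W))) ⊆
        (Ideal.span {(𝒜.presheaf.map (homOfLE i).op).hom t} : Set (𝒜.presheaf.obj (op W))) := by
  have hzV : pL z ∈ V := cb_le V hV t hz
  obtain ⟨W₀, e₀, hzW₀, hW₀V, hW₀, he₀⟩ := exists_trivial_nhd (L := L) hL hzV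
  obtain ⟨c, hc⟩ := exists_eq_str_mul_pow hLq hj hW₀ he₀ (gmem (𝒜.res hV hW₀ hW₀V) ht)
  have hzc : z ∈ pL ⁻¹ᵁ X.basicOpen c := by
    rw [← cb_str_mul_pow hP hLq hj hW₀ he₀ c hn, ← hc]
    exact (mem_cb_res hP hV hW₀ hW₀V t hzW₀).2 hz
  have hW := hW₀.basicOpen c
  refine ⟨X.basicOpen c, hW, (X.basicOpen_le c).trans hW₀V, hzc, fun a ha => ?_⟩
  obtain ⟨c', hc'⟩ := exists_eq_str_mul_pow hLq hj hW (he₀.res (X.basicOpen_le c)) ha
  obtain ⟨v, hv⟩ : IsUnit ((X.presheaf.map (homOfLE (X.basicOpen_le c)).op).hom c) :=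
    RingedSpace.isUnit_res_basicOpen _ c
  refine Ideal.mem_span_singleton.2 ⟨(𝒜.str.app (op (X.basicOpen c))).hom (c' * ↑v⁻¹), ?_⟩
  rw [hc', ← res_trans hW₀V (X.basicOpen_le c) t]
  change _ = (𝒜.presheaf.map (homOfLE (X.basicOpen_le c)).op).hom (𝒜.res hV hW₀ hW₀V t) * _
  rw [hc, map_mul, map_pow, map_mul]
  have h1 : (𝒜.presheaf.map (homOfLE (X.basicOpen_le c)).op).hom ((𝒜.str.app (op W₀)).hom c) =
      (𝒜.str.app (op (X.basicOpen c))).hom ↑v := by
    rw [hv]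
    exact (ConcreteCategory.congr_hom (𝒜.str.naturality (homOfLE (X.basicOpen_le c)).op) c).symm
  rw [h1]
  simp only [H11Sym.japp_res]
  have h2 : (𝒜.str.app (op (X.basicOpen c))).hom ↑v * (𝒜.str.app (op (X.basicOpen c))).hom ↑v⁻¹ = 1 := by
    rw [← map_mul, Units.mul_inv, map_one]
  linear_combination (-((𝒜.str.app (op (X.basicOpen c))).hom c' *
    ares 𝒜.toQCAlg (X.basicOpen_le c) (japp (B := 𝒜.toQCAlg) j W₀ e₀) ^ n)) * h2

end Groth.Agent.H11QMap
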