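import Groth.Agent.H11QMap.LineQ
import Groth.Agent.H11Sym.Emb

/-!
# When `r_{L,ψ}` is an immersion
-/

set_option autoImplicit false
set_option linter.style.haveILetI false

noncomputable section

universe u

open CategoryTheory CategoryTheory.Limits AlgebraicGeometry TopologicalSpace Opposite RelProj
open HomogeneousLocalization
open scoped HomogeneousIdeal

namespace Groth.Agent.H11QMap

theorem isClosedImmersion_restrict_of_le_coborderRange {X P : Scheme.{u}} (r : X ⟶ P) [IsImmersion r] {O : P.Opens}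
    (hO : O ≤ r.coborderRange) : IsClosedImmersion (r ∣_ O) := by
  have h1 := IsZariskiLocalAtTarget.restrict (inferInstance : IsClosedImmersion r.liftCoborder)
    (r.coborderRange.ι ⁻¹ᵁ O)
  have hp : r.liftCoborder ⁻¹ᵁ r.coborderRange.ι ⁻¹ᵁ O = r ⁻¹ᵁ O := by
    rw [← Scheme.Hom.comp_preimage, Scheme.Hom.liftCoborder_ι]
  have hi : r.coborderRange.ι ''ᵁ (r.coborderRange.ι ⁻¹ᵁ O) = O := by
    rw [Scheme.Hom.image_preimage_eq_opensRange_inf, Scheme.Opens.opensRange_ι]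
    exact inf_eq_right.2 hO
  have e : Arrow.mk (r.liftCoborder ∣_ r.coborderRange.ι ⁻¹ᵁ O) ≅ Arrow.mk (r ∣_ O) :=
    Arrow.isoMk (X.isoOfEq hp) ((r.coborderRange.ι.isoImage _) ≪≫ P.isoOfEq hi) (by
      rw [← cancel_mono O.ι]
      simp)
  exact (MorphismProperty.arrow_mk_iso_iff @IsClosedImmersion e).1 h1

theorem isIso_restrict_of_le_opensRange {X P : Scheme.{u}} (r : X ⟶ P) [IsOpenImmersion r] {O : P.Opens}
    (hO : O ≤ r.opensRange) : IsIso (r ∣_ O) := by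
  haveI : IsOpenImmersion (r ∣_ O) := IsZariskiLocalAtTarget.restrict (P := @IsOpenImmersion) inferInstance O
  haveI : Surjective (r ∣_ O) := ⟨fun z => by
    obtain ⟨x, hx⟩ := hO z.2
    refine ⟨⟨x, show r x ∈ O from hx.symm ▸ z.2⟩, Subtype.ext ?_⟩
    exact (congr($(morphismRestrict_ι r O) ⟨x, show r x ∈ O from hx.symm ▸ z.2⟩)).trans hx⟩
  haveI : Epi (r ∣_ O).base := (TopCat.epi_iff_surjective _).2 (r ∣_ O).surjective
  exact IsOpenImmersion.isIso _

variable {Y X P PL : Scheme.{u}} {q : X ⟶ Y} {L : X.Modules} {𝒮 : QCGrAlg Y} {𝒮L : QCGrAlg X}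
  {j : L ⟶ 𝒮L.toModule} (u : QGrHom q 𝒮 𝒮L)
  {p : P ⟶ Y} {chart : ∀ (U : Y.Opens) (hU : IsAffineOpen U), (((p ⁻¹ᵁ U : P.Opens) : Scheme.{u}) ≅ Proj (𝒮.deg U hU))}
  {pL : PL ⟶ X}
  {chartL : ∀ (U : X.Opens) (hU : IsAffineOpen U), (((pL ⁻¹ᵁ U : PL.Opens) : Scheme.{u}) ≅ Proj (𝒮L.deg U hU))}

theorem le_preimage_top (q : X ⟶ Y) (V : X.Opens) : V ≤ q ⁻¹ᵁ (⊤ : Y.Opens) :=
  le_top.trans (Scheme.Hom.preimage_top q).ge

/-- The open where a global element of degree `n` does not vanish. -/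
def tloc (s : 𝒮.presheaf.obj (op ⊤)) (n : ℕ) : X.Opens :=
  ⨆ V : {V : X.affineOpens //
    ((𝒮L.deg V.1 V.2 n : AddSubgroup (𝒮L.presheaf.obj (op (V.1 : X.Opens)))) : Set (𝒮L.presheaf.obj (op (V.1 : X.Opens)))) ⊆
      (Ideal.span {(u.appLE ⊤ (V.1 : X.Opens) (le_top.trans (Scheme.Hom.preimage_top q).ge)).hom s} : Set (𝒮L.presheaf.obj (op (V.1 : X.Opens))))},
    (V.1.1 : X.Opens)

variable (hY : IsAffineOpen (⊤ : Y.Opens))

variable (hPL : IsRelProj 𝒮L pL chartL) (hL : PicF.IsInvertible L) (hLq : Coh.IsQCoh L) (hj : IsGrSymAlg L 𝒮L j)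
variable {n : ℕ} (hn : 0 < n) {s : 𝒮.presheaf.obj (op ⊤)} (hs : s ∈ 𝒮.deg ⊤ hY n)

include hPL hL hLq hj hn

omit hn in
include hn in
theorem cb_tloc {W : X.Opens} (hW : IsAffineOpen W) (hWs : W ≤ tloc u s n) :
    cb chartL W hW (u.gradedAt ⊤ hY W hW (le_preimage_top q W) s) = pL ⁻¹ᵁ W := by
  refine le_antisymm (cb_le W hW _) fun z hz => ?_
  obtain ⟨⟨V, hgen⟩, hzV⟩ := Opens.mem_iSup.1 (hWs hz)
  have h1 := (cb_of_genOn u chartL hPL hL hLq hj ⊤ hY hn s V (le_preimage_top q _) hgen).ge hzV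
  obtain ⟨W', hW', hzW', hle⟩ := exists_isAffineOpen_mem_and_subset (U := W ⊓ V.1) (x := pL z) ⟨hz, hzV⟩
  have i1 : W' ≤ W := fun w hw => (hle hw).1
  have i2 : W' ≤ V.1 := fun w hw => (hle hw).2
  refine (mem_cb_res hPL hW hW' i1 _ hzW').1 ?_
  have h2 := (mem_cb_res hPL V.2 hW' i2 _ hzW').2 h1
  rw [QGrHom.gradedAt_apply, ← CommRingCat.comp_apply, u.appLE_map] at h2 ⊢
  exact h2

/-- Multiplication by a generating element is injective in each degree. -/
theorem eq_zero_of_mul {W : X.Opens} (hW : IsAffineOpen W) (hWs : W ≤ tloc u s n) {k : ℕ}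
    {x : 𝒮L.presheaf.obj (op W)} (hx : x ∈ 𝒮L.deg W hW k)
    (h : u.gradedAt ⊤ hY W hW (le_preimage_top q W) s * x = 0) (hs : s ∈ 𝒮.deg ⊤ hY n) : x = 0 := by
  haveI := isIso_pL hPL hL hLq hj
  refine H11Sym.eq_of_affine 𝒮L.toQCAlg fun U hU i => ?_
  refine H11Sym.eq_of_affine 𝒮L.toQCAlg fun V' hV' i' => ?_
  rw [H11Sym.ares_ares, H11Sym.ares_ares, show H11Sym.ares 𝒮L.toQCAlg (i'.trans i) 0 = 0 from map_zero _]
  refine TopCat.Sheaf.eq_of_locally_eq' (⟨𝒮L.presheaf, 𝒮L.isSheaf⟩ : TopCat.Sheaf CommRingCat.{u} X.carrier)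
    (fun V : {V : X.Opens // V ≤ V' ∧ ∃ e : Γ(L, V), IsAffineOpen V ∧ H11Tilde.IsGen L e} => V.1) V'
    (fun V => homOfLE V.2.1) (fun z hz => ?_) _ _ fun V => ?_
  · obtain ⟨V, e, hzV, hVle, hV, he⟩ := exists_trivial_nhd (L := L) hL hz
    exact Opens.mem_iSup.2 ⟨⟨V, hVle, e, hV, he⟩, hzV⟩
  · obtain ⟨V, hVle, e, hV, he⟩ := V
    have hVW : V ≤ W := hVle.trans (i'.trans i)
    change (𝒮L.presheaf.map (homOfLE hVle).op).hom ((𝒮L.presheaf.map (homOfLE (i'.trans i)).op).hom x) =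
      (𝒮L.presheaf.map (homOfLE hVle).op).hom 0
    rw [map_zero, res_trans]
    obtain ⟨c, hc⟩ := exists_eq_str_mul_pow hLq hj hV he (gmem (u.gradedAt ⊤ hY V hV (le_preimage_top q V)) hs)
    obtain ⟨c', hc'⟩ := exists_eq_str_mul_pow hLq hj hV he (gmem (𝒮L.res hW hV hVW) hx)
    have h' := congrArg (𝒮L.res hW hV hVW) h
    rw [map_mul, map_zero] at h'
    have hres : 𝒮L.res hW hV hVW (u.gradedAt ⊤ hY W hW (le_preimage_top q W) s) =
        u.gradedAt ⊤ hY V hV (le_preimage_top q V) s := by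
      rw [QCGrAlg.res_apply, QGrHom.gradedAt_apply, QGrHom.gradedAt_apply, ← CommRingCat.comp_apply, u.appLE_map]
    rw [hres, hc, hc', mul_mul_mul_comm, ← map_mul, ← pow_add] at h'
    have h0 := str_mul_pow_eq_zero hLq hj hV he h'
    have hu : IsUnit c := by
      have h1 : cb chartL V hV (u.gradedAt ⊤ hY V hV (le_preimage_top q V) s) = pL ⁻¹ᵁ V :=
        cb_tloc u hY hPL hL hLq hj hn hV (hVW.trans hWs)
      rw [hc, cb_str_mul_pow hPL hLq hj hV he c hn] at h1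
      have h2 : X.basicOpen c = V := by
        refine le_antisymm (X.basicOpen_le c) fun v hv => ?_
        obtain ⟨z, rfl⟩ := pL.surjective v
        exact h1.ge hv
      have key : ∀ (O : X.Opens) (hO : O ≤ V), O = V → IsUnit ((X.presheaf.map (homOfLE hO).op).hom c) →
          IsUnit c := by
        rintro O hO rfl h
        rw [show (homOfLE hO).op = 𝟙 (op O) from rfl, X.presheaf.map_id] at h
        exact h
      exact key _ (X.basicOpen_le c) h2 (RingedSpace.isUnit_res_basicOpen _ c)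
    have h3 : c' = 0 := (hu.mul_right_eq_zero).1 h0
    change 𝒮L.res hW hV hVW x = 0
    rw [hc', h3, map_zero, zero_mul]

/-- The functions on `W` are the degree zero fractions. -/
theorem bijective_kappa {W : X.Opens} (hW : IsAffineOpen W) (hWs : W ≤ tloc u s n) (hs : s ∈ 𝒮.deg ⊤ hY n) :
    Function.Bijective ((fromZeroRingHom (𝒮L.deg W hW)
      (Submonoid.powers (u.gradedAt ⊤ hY W hW (le_preimage_top q W) s))).comp (𝒮L.strZero W hW).hom) := by
  haveI := isIso_pL hPL hL hLq hj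
  let us := u.gradedAt ⊤ hY W hW (le_preimage_top q W) s
  have hus : us ∈ 𝒮L.deg W hW n := gmem (u.gradedAt ⊤ hY W hW (le_preimage_top q W)) hs
  let c := Proj.awayι (𝒮L.deg W hW) us hus hn ≫ emb pL chartL W hW
  have hr : c.opensRange = pL ⁻¹ᵁ W :=
    (opensRange_awayι_emb W hW hn us hus).trans (cb_tloc u hY hPL hL hLq hj hn hW hWs)
  let k := Spec.map (CommRingCat.ofHom ((fromZeroRingHom (𝒮L.deg W hW)
    (Submonoid.powers us)).comp (𝒮L.strZero W hW).hom))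
  have hc : c ≫ pL = k ≫ hW.fromSpec := (Category.assoc _ _ _).trans (awayι_emb_p chartL hPL W hW hn us hus)
  haveI : IsOpenImmersion (k ≫ hW.fromSpec) := hc ▸ inferInstance
  haveI : IsOpenImmersion k := IsOpenImmersion.of_comp k hW.fromSpec
  haveI : Surjective k := ⟨fun y => by
    obtain ⟨z, hz⟩ := pL.surjective (hW.fromSpec y)
    have hzW : z ∈ c.opensRange := by
      rw [hr]
      change pL z ∈ W
      rw [hz]
      exact hW.range_fromSpec.le ⟨y, rfl⟩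
    obtain ⟨w, hw⟩ := hzW
    refine ⟨w, hW.fromSpec.isOpenEmbedding.injective ?_⟩
    rw [← Scheme.Hom.comp_apply, ← hc, Scheme.Hom.comp_apply, hw, hz]⟩
  haveI : Epi k.base := (TopCat.epi_iff_surjective _).2 k.surjective
  haveI : IsIso k := IsOpenImmersion.isIso k
  exact (isIso_SpecMap_iff (f := CommRingCat.ofHom ((fromZeroRingHom (𝒮L.deg W hW)
      (Submonoid.powers us)).comp (𝒮L.strZero W hW).hom))).1 (inferInstanceAs (IsIso k))

/-- When a function is the image of a fraction. -/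
theorem map_eq_kappa_iff {W : X.Opens} (hW : IsAffineOpen W) (hWs : W ≤ tloc u s n) (hs : s ∈ 𝒮.deg ⊤ hY n)
    (m : ℕ) (a : 𝒮.presheaf.obj (op ⊤)) (ha : a ∈ 𝒮.deg ⊤ hY (m • n)) (t : Γ(X, W)) :
    Away.map (u.gradedAt ⊤ hY W hW (le_preimage_top q W)) s (Away.mk (𝒮.deg ⊤ hY) hs m a ha) =
        fromZeroRingHom (𝒮L.deg W hW) (Submonoid.powers (u.gradedAt ⊤ hY W hW (le_preimage_top q W) s))
          ((𝒮L.strZero W hW).hom t) ↔
      (𝒮L.str.app (op W)).hom t * (u.gradedAt ⊤ hY W hW (le_preimage_top q W) s) ^ m =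
        u.gradedAt ⊤ hY W hW (le_preimage_top q W) a := by
  rw [Away.map_mk]
  refine (val_injective _).eq_iff.symm.trans ?_
  simp only [Away.val_mk, fromZeroRingHom, RingHom.coe_mk, MonoidHom.coe_mk, OneHom.coe_mk, val_mk]
  rw [Localization.mk_eq_mk_iff, Localization.r_iff_exists]
  constructor
  · rintro ⟨⟨_, l, rfl⟩, hl⟩
    simp only [SetLike.GradeZero.coe_one, one_mul] at hl
    change _ ^ l * u.gradedAt ⊤ hY W hW (le_preimage_top q W) a =
      _ ^ l * (_ ^ m * (𝒮L.str.app (op W)).hom t) at hl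
    have hus := gmem (u.gradedAt ⊤ hY W hW (le_preimage_top q W)) hs
    have hdeg : u.gradedAt ⊤ hY W hW (le_preimage_top q W) a -
        (u.gradedAt ⊤ hY W hW (le_preimage_top q W) s) ^ m * (𝒮L.str.app (op W)).hom t ∈ 𝒮L.deg W hW (m • n) := by
      refine sub_mem (gmem (u.gradedAt ⊤ hY W hW (le_preimage_top q W)) ha) ?_
      have := SetLike.mul_mem_graded (SetLike.pow_mem_graded m hus) (𝒮L.str_mem W hW t)
      rwa [add_zero] at this
    have key : ∀ (l k : ℕ) (x : 𝒮L.presheaf.obj (op W)), x ∈ 𝒮L.deg W hW k →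
        (u.gradedAt ⊤ hY W hW (le_preimage_top q W) s) ^ l * x = 0 → x = 0 := by
      intro l
      induction l with
      | zero => intro k x _ h; rwa [pow_zero, one_mul] at h
      | succ l ih =>
        intro k x hx h
        rw [pow_succ, mul_assoc] at h
        exact eq_zero_of_mul u hY hPL hL hLq hj hn hW hWs hx (ih _ _ (SetLike.mul_mem_graded hus hx) h) hs
    have h0 := key l _ _ hdeg (by rw [mul_sub, hl, sub_self])
    rw [mul_comm]
    exact (sub_eq_zero.1 h0).symm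
  · intro h
    refine ⟨1, ?_⟩
    simp only [OneMemClass.coe_one, SetLike.GradeZero.coe_one, one_mul]
    change u.gradedAt ⊤ hY W hW (le_preimage_top q W) a = _ ^ m * (𝒮L.str.app (op W)).hom t
    rw [mul_comm, h]

variable (hP : IsRelProj 𝒮 p chart)
variable {r : (domQ u pL chartL : Scheme.{u}) ⟶ P} (hr : IsProjQMapOn u p chart pL chartL (domQ u pL chartL) r)
include hP hr

theorem preimage_cb_eq (hs : s ∈ 𝒮.deg ⊤ hY n) :
    r ⁻¹ᵁ cb chart ⊤ hY s = (domQ u pL chartL).ι ⁻¹ᵁ pL ⁻¹ᵁ tloc u s n := by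
  ext z
  constructor
  · intro hz
    obtain ⟨V, hle, hzV, hgen⟩ := (mem_preimage_cb_iff u chart chartL hPL hL hLq hj hP hr z ⊤ hY hn s hs).1 hz
    exact Opens.mem_iSup.2 ⟨⟨V, hgen⟩, hzV⟩
  · intro hz
    obtain ⟨⟨V, hgen⟩, hzV⟩ := Opens.mem_iSup.1 hz
    exact (mem_preimage_cb_iff u chart chartL hPL hL hLq hj hP hr z ⊤ hY hn s hs).2
      ⟨V, le_preimage_top q _, hzV, hgen⟩

theorem image_preimage_eq (hs : s ∈ 𝒮.deg ⊤ hY n) :
    (domQ u pL chartL).ι ''ᵁ (r ⁻¹ᵁ cb chart ⊤ hY s) = pL ⁻¹ᵁ tloc u s n := by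
  rw [preimage_cb_eq u hY hPL hL hLq hj hn hP hr hs, Scheme.Hom.image_preimage_eq_opensRange_inf,
    Scheme.Opens.opensRange_ι, inf_eq_right]
  intro z hz
  obtain ⟨⟨V, hgen⟩, hzV⟩ := Opens.mem_iSup.1 hz
  exact mem_domQ_of_genOn u chartL hPL hL hLq hj ⊤ hY hn s hs V (le_preimage_top q _) hgen hzV

theorem isAffineOpen_tloc (hs : s ∈ 𝒮.deg ⊤ hY n) (h : IsAffineOpen (r ⁻¹ᵁ cb chart ⊤ hY s)) :
    IsAffineOpen (tloc u s n) := by
  haveI := isIso_pL hPL hL hLq hj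
  have h1 := (image_preimage_eq u hY hPL hL hLq hj hn hP hr hs) ▸ h.image_of_isOpenImmersion (domQ u pL chartL).ι
  have h2 := h1.preimage_of_isIso (inv pL)
  rwa [← Scheme.Hom.comp_preimage, IsIso.inv_hom_id, Scheme.Hom.id_preimage] at h2

/-- The restriction over `D₊(s)` is `Spec` of the map of away rings. -/
theorem restrict_cb_iff (hs : s ∈ 𝒮.deg ⊤ hY n) (hW : IsAffineOpen (tloc u s n))
    {Q : MorphismProperty Scheme.{u}} [Q.RespectsIso] :
    Q (r ∣_ cb chart ⊤ hY s) ↔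
      Q (Spec.map (CommRingCat.ofHom (Away.map (u.gradedAt ⊤ hY (tloc u s n) hW (le_preimage_top q _)) s))) := by
  let i : Idx u := ⟨⟨⊤, hY⟩, ⟨tloc u s n, hW⟩, le_preimage_top q _, n, hn, s, hs⟩
  have hsq : IsPullback (Spec.map (CommRingCat.ofHom (Away.map (u.gradedAt ⊤ hY (tloc u s n) hW (le_preimage_top q _)) s)))
      (lchart u chartL i) (Proj.awayι (𝒮.deg ⊤ hY) s hs hn ≫ emb p chart ⊤ hY) r := by
    apply IsOpenImmersion.isPullback
    · exact (isProjQMapOn_iff u chart chartL r).1 hr i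
    · rw [opensRange_awayι_emb, preimage_cb_eq u hY hPL hL hLq hj hn hP hr hs]
      refine Eq.trans ?_ (opensRange_lchart u chartL i).symm
      exact congrArg ((domQ u pL chartL).ι ⁻¹ᵁ ·) (cb_tloc u hY hPL hL hLq hj hn hW le_rfl).symm
  have h1 := MorphismProperty.arrow_mk_iso_iff Q
    (morphismRestrictOpensRange r (Proj.awayι (𝒮.deg ⊤ hY) s hs hn ≫ emb p chart ⊤ hY))
  rw [opensRange_awayι_emb] at h1
  refine h1.trans ?_
  rw [← hsq.flip.isoPullback_hom_snd]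
  exact (Q.cancel_left_of_respectsIso _ _).symm

end Groth.Agent.H11QMap
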