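import Groth.Agent.H11QMap.LineImm

/-!
# Criteria for `r_{L,ψ}` to be a (open, closed) immersion
-/

set_option autoImplicit false
set_option linter.style.haveILetI false

noncomputable section

universe u

open CategoryTheory CategoryTheory.Limits AlgebraicGeometry TopologicalSpace Opposite RelProj
open HomogeneousLocalization
open scoped HomogeneousIdeal

namespace Groth.Agent.H11QMap

theorem surjective_of_isClosedImmersion_SpecMap {R S : CommRingCat.{u}} (f : R ⟶ S)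
    (h : IsClosedImmersion (Spec.map f)) : Function.Surjective f := by
  have h1 := ((HasAffineProperty.iff_of_isAffine (P := @IsClosedImmersion)).1 h).2
  intro b
  obtain ⟨a, ha⟩ := h1 ((Scheme.ΓSpecIso S).inv b)
  refine ⟨(Scheme.ΓSpecIso R).hom a, ?_⟩
  rw [← CommRingCat.comp_apply, ← Scheme.ΓSpecIso_naturality, CommRingCat.comp_apply, ha,
    ← CommRingCat.comp_apply, Iso.inv_hom_id]
  rfl

/-- A property local at the target, checked on opens meeting every point of the image. -/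
theorem exists_lift_of_local {X Y : Scheme.{u}} (f : X ⟶ Y) {ι : Type u} (D : ι → Y.Opens)
    (hcov : ∀ x, ∃ i, f x ∈ D i) {Q : MorphismProperty Scheme.{u}} [IsZariskiLocalAtTarget Q]
    (h : ∀ i, Q (f ∣_ D i)) : ∃ g : X ⟶ (⨆ i, D i : Y.Opens).toScheme, g ≫ (⨆ i, D i : Y.Opens).ι = f ∧ Q g := by
  let O : Y.Opens := ⨆ i, D i
  let g : X ⟶ O.toScheme := IsOpenImmersion.lift O.ι f (by
    rintro _ ⟨x, rfl⟩
    rw [Scheme.Opens.range_ι]
    exact Opens.mem_iSup.2 (hcov x))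
  have hg : g ≫ O.ι = f := IsOpenImmersion.lift_fac _ _ _
  refine ⟨g, hg, IsZariskiLocalAtTarget.of_iSup_eq_top (fun i => O.ι ⁻¹ᵁ D i) ?_ fun i => ?_⟩
  · rw [← Scheme.Hom.preimage_iSup, eq_top_iff]
    intro x _
    exact x.2
  · have hp : g ⁻¹ᵁ O.ι ⁻¹ᵁ D i = f ⁻¹ᵁ D i := by rw [← Scheme.Hom.comp_preimage, hg]
    have hi : O.ι ''ᵁ (O.ι ⁻¹ᵁ D i) = D i := by
      rw [Scheme.Hom.image_preimage_eq_opensRange_inf, Scheme.Opens.opensRange_ι]
      exact inf_eq_right.2 (le_iSup D i)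
    have e : Arrow.mk (g ∣_ O.ι ⁻¹ᵁ D i) ≅ Arrow.mk (f ∣_ D i) :=
      Arrow.isoMk (X.isoOfEq hp) ((O.ι.isoImage _) ≪≫ Y.isoOfEq hi) (by
        rw [← cancel_mono (D i).ι]
        simp [hg])
    exact (MorphismProperty.arrow_mk_iso_iff Q e).2 (h i)

variable {Y X P PL : Scheme.{u}} {q : X ⟶ Y} {L : X.Modules} {𝒮 : QCGrAlg Y} {𝒮L : QCGrAlg X}
  {j : L ⟶ 𝒮L.toModule} (u : QGrHom q 𝒮 𝒮L)
  {p : P ⟶ Y} {chart : ∀ (U : Y.Opens) (hU : IsAffineOpen U), (((p ⁻¹ᵁ U : P.Opens) : Scheme.{u}) ≅ Proj (𝒮.deg U hU))}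
  {pL : PL ⟶ X}
  {chartL : ∀ (U : X.Opens) (hU : IsAffineOpen U), (((pL ⁻¹ᵁ U : PL.Opens) : Scheme.{u}) ≅ Proj (𝒮L.deg U hU))}

variable (hY : IsAffineOpen (⊤ : Y.Opens))
variable (hPL : IsRelProj 𝒮L pL chartL) (hL : PicF.IsInvertible L) (hLq : Coh.IsQCoh L) (hj : IsGrSymAlg L 𝒮L j)

/-- Condition (iii): functions on the locus of `s` are fractions. -/
def IsFrac (s : 𝒮.presheaf.obj (op ⊤)) (n : ℕ) (W : X.Opens) : Prop :=
  ∀ t : X.presheaf.obj (op W), ∃ (m : ℕ) (_ : 0 < m) (s' : 𝒮.presheaf.obj (op ⊤)) (_ : s' ∈ 𝒮.deg ⊤ hY (m * n)),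
    (𝒮L.str.app (op W)).hom t * ((u.appLE ⊤ W (le_top.trans (Scheme.Hom.preimage_top q).ge)).hom s) ^ m =
      (u.appLE ⊤ W (le_top.trans (Scheme.Hom.preimage_top q).ge)).hom s'

/-- Condition (iv): fractions vanishing on the locus of `s` vanish. -/
def IsFracInj (s : 𝒮.presheaf.obj (op ⊤)) (n : ℕ) (W : X.Opens) : Prop :=
  ∀ m : ℕ, 0 < m → ∀ s' ∈ 𝒮.deg ⊤ hY (m * n),
    (u.appLE ⊤ W (le_top.trans (Scheme.Hom.preimage_top q).ge)).hom s' = 0 → ∃ (k : ℕ), 0 < k ∧ s ^ k * s' = 0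

include hPL hL hLq hj

variable {n : ℕ} (hn : 0 < n) {s : 𝒮.presheaf.obj (op ⊤)} (hs : s ∈ 𝒮.deg ⊤ hY n)

include hn hs

theorem surjective_away_map_iff (hW : IsAffineOpen (tloc u s n)) :
    Function.Surjective (Away.map (u.gradedAt ⊤ hY (tloc u s n) hW (le_preimage_top q _)) s) ↔
      IsFrac u hY s n (tloc u s n) := by
  have hk := bijective_kappa u hY hPL hL hLq hj hn hW le_rfl hs
  constructor
  · intro hsurj t
    obtain ⟨z, hz⟩ := hsurj (fromZeroRingHom _ _ ((𝒮L.strZero _ hW).hom t))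
    obtain ⟨m, a, ha, rfl⟩ := Away.mk_surjective (𝒮.deg ⊤ hY) hs z
    have h1 := (map_eq_kappa_iff u hY hPL hL hLq hj hn hW le_rfl hs m a ha t).1 hz
    refine ⟨m + 1, m.succ_pos, a * s, ?_, ?_⟩
    · have := SetLike.mul_mem_graded ha hs
      rwa [smul_eq_mul, ← Nat.succ_mul] at this
    · rw [pow_succ, ← mul_assoc, map_mul]
      exact congrArg (· * _) h1
  · intro h z
    obtain ⟨t, rfl⟩ := hk.2 z
    obtain ⟨m, -, s', hs', he⟩ := h t
    exact ⟨Away.mk (𝒮.deg ⊤ hY) hs m s' hs',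
      (map_eq_kappa_iff u hY hPL hL hLq hj hn hW le_rfl hs m s' hs' t).2 he⟩

theorem injective_away_map_iff (hW : IsAffineOpen (tloc u s n)) :
    Function.Injective (Away.map (u.gradedAt ⊤ hY (tloc u s n) hW (le_preimage_top q _)) s) ↔
      IsFracInj u hY s n (tloc u s n) := by
  constructor
  · intro hinj m hm s' hs' h
    have h1 : Away.map (u.gradedAt ⊤ hY (tloc u s n) hW (le_preimage_top q _)) s
        (Away.mk (𝒮.deg ⊤ hY) hs m s' hs') = fromZeroRingHom _ _ ((𝒮L.strZero _ hW).hom 0) :=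
      (map_eq_kappa_iff u hY hPL hL hLq hj hn hW le_rfl hs m s' hs' 0).2 (by
        rw [map_zero, zero_mul]
        exact h.symm)
    rw [map_zero, map_zero] at h1
    have h2 := congrArg HomogeneousLocalization.val (hinj (h1.trans (map_zero _).symm))
    rw [Away.val_mk, val_zero, H11Proj.mk_eq_zero_iff_exists_pow] at h2
    obtain ⟨k, hk⟩ := h2
    exact ⟨k + 1, k.succ_pos, by rw [pow_succ', mul_assoc, hk, mul_zero]⟩
  · intro h
    refine (injective_iff_map_eq_zero _).2 fun z hz => ?_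
    obtain ⟨m, a, ha, rfl⟩ := Away.mk_surjective (𝒮.deg ⊤ hY) hs z
    have h1 := (map_eq_kappa_iff u hY hPL hL hLq hj hn hW le_rfl hs m a ha 0).1 (hz.trans (by rw [map_zero, map_zero]))
    rw [map_zero, zero_mul] at h1
    have has : a * s ∈ 𝒮.deg ⊤ hY ((m + 1) * n) := by
      have := SetLike.mul_mem_graded ha hs
      rwa [smul_eq_mul, ← Nat.succ_mul] at this
    obtain ⟨k, -, hk⟩ := h (m + 1) m.succ_pos (a * s) has (by
      rw [map_mul]
      exact (congrArg (· * _) h1.symm).trans (zero_mul _))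
    apply val_injective
    rw [Away.val_mk, val_zero, H11Proj.mk_eq_zero_iff_exists_pow]
    exact ⟨k + 1, by rw [pow_succ, mul_assoc, mul_comm s a, hk]⟩

variable (hP : IsRelProj 𝒮 p chart)
variable {r : (domQ u pL chartL : Scheme.{u}) ⟶ P} (hr : IsProjQMapOn u p chart pL chartL (domQ u pL chartL) r)
include hP hr

theorem isClosedImmersion_cb_iff :
    IsClosedImmersion (r ∣_ cb chart ⊤ hY s) ↔ IsAffineOpen (tloc u s n) ∧ IsFrac u hY s n (tloc u s n) := by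
  constructor
  · intro h
    have hW := isAffineOpen_tloc u hY hPL hL hLq hj hn hP hr hs
      ((H11Sym.isClosedImmersion_morphismRestrict_iff r (isAffineOpen_cb ⊤ hY hn s hs)).1 h).1
    refine ⟨hW, (surjective_away_map_iff u hY hPL hL hLq hj hn hs hW).1 ?_⟩
    exact surjective_of_isClosedImmersion_SpecMap _
      ((restrict_cb_iff u hY hPL hL hLq hj hn hP hr hs hW (Q := @IsClosedImmersion)).1 h)
  · rintro ⟨hW, h⟩
    exact (restrict_cb_iff u hY hPL hL hLq hj hn hP hr hs hW (Q := @IsClosedImmersion)).2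
      (IsClosedImmersion.spec_of_surjective _ ((surjective_away_map_iff u hY hPL hL hLq hj hn hs hW).2 h))

theorem isIso_cb_iff :
    IsIso (r ∣_ cb chart ⊤ hY s) ↔
      IsAffineOpen (tloc u s n) ∧ IsFrac u hY s n (tloc u s n) ∧ IsFracInj u hY s n (tloc u s n) := by
  constructor
  · intro h
    haveI := h
    have hc := (isClosedImmersion_cb_iff u hY hPL hL hLq hj hn hs hP hr).1 inferInstance
    refine ⟨hc.1, hc.2, (injective_away_map_iff u hY hPL hL hLq hj hn hs hc.1).1 ?_⟩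
    exact (isIso_SpecMap_iff.1 ((restrict_cb_iff u hY hPL hL hLq hj hn hP hr hs hc.1
      (Q := MorphismProperty.isomorphisms Scheme)).1 h)).1
  · rintro ⟨hW, h, h'⟩
    exact (restrict_cb_iff u hY hPL hL hLq hj hn hP hr hs hW (Q := MorphismProperty.isomorphisms Scheme)).2
      ((isIso_SpecMap_iff (f := CommRingCat.ofHom (Away.map (u.gradedAt ⊤ hY (tloc u s n) hW (le_preimage_top q _)) s))).2
        ⟨(injective_away_map_iff u hY hPL hL hLq hj hn hs hW).2 h', (surjective_away_map_iff u hY hPL hL hLq hj hn hs hW).2 h⟩)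

omit hn hs

/-- Standard opens inside a given open cover its preimage. -/
theorem exists_tloc_mem (htop : domQ u pL chartL = ⊤) {O : P.Opens} (hO : ∀ z, r z ∈ O) (x : X) :
    ∃ (d : ℕ) (_ : 0 < d) (f : 𝒮.presheaf.obj (op ⊤)), f ∈ 𝒮.deg ⊤ hY d ∧ cb chart ⊤ hY f ≤ O ∧ x ∈ tloc u f d := by
  haveI := isIso_pL hPL hL hLq hj
  obtain ⟨z, rfl⟩ := pL.surjective x
  let w : (domQ u pL chartL : Scheme.{u}) := ⟨z, htop.ge trivial⟩
  obtain ⟨v, hv⟩ := exists_emb_eq (chart := chart) hY (z := r w) trivial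
  obtain ⟨d, hd, f, hf, hvf, hsub⟩ := exists_basicOpen_subset (O.2.preimage (emb p chart ⊤ hY).continuous)
    (show v ∈ emb p chart ⊤ hY ⁻¹' (O : Set P) by
      change emb p chart ⊤ hY v ∈ O
      rw [hv]
      exact hO w)
  refine ⟨d, hd, f, hf, ?_, ?_⟩
  · rintro _ ⟨v', hv', rfl⟩
    exact hsub hv'
  · obtain ⟨V, hle, hzV, hgen⟩ := (mem_preimage_cb_iff u chart chartL hPL hL hLq hj hP hr w ⊤ hY hd f hf).1
      ⟨v, hvf, hv⟩
    exact Opens.mem_iSup.2 ⟨⟨V, hgen⟩, hzV⟩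

omit hP hr in
theorem domQ_eq_top_of_tloc {ι : Type u} (n : ι → ℕ) (s : ι → 𝒮.presheaf.obj (op ⊤))
    (hns : ∀ a, 0 < n a ∧ s a ∈ 𝒮.deg ⊤ hY (n a)) (hcov : (⨆ a, tloc u (s a) (n a)) = ⊤) :
    domQ u pL chartL = ⊤ := by
  refine eq_top_iff.2 fun z _ => ?_
  obtain ⟨a, ha⟩ := Opens.mem_iSup.1 (hcov.ge (show pL z ∈ (⊤ : X.Opens) from trivial))
  obtain ⟨⟨V, hgen⟩, hzV⟩ := Opens.mem_iSup.1 ha
  exact mem_domQ_of_genOn u chartL hPL hL hLq hj ⊤ hY (hns a).1 _ (hns a).2 V (le_preimage_top q _) hgen hzV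

theorem exists_mem_cb_of_tloc {ι : Type u} (n : ι → ℕ) (s : ι → 𝒮.presheaf.obj (op ⊤))
    (hns : ∀ a, 0 < n a ∧ s a ∈ 𝒮.deg ⊤ hY (n a)) (hcov : (⨆ a, tloc u (s a) (n a)) = ⊤)
    (z : (domQ u pL chartL : Scheme.{u})) : ∃ a, r z ∈ cb chart ⊤ hY (s a) := by
  obtain ⟨a, ha⟩ := Opens.mem_iSup.1 (hcov.ge (show pL ((domQ u pL chartL).ι z) ∈ (⊤ : X.Opens) from trivial))
  have : z ∈ r ⁻¹ᵁ cb chart ⊤ hY (s a) := by
    rw [preimage_cb_eq u hY hPL hL hLq hj (hns a).1 hP hr (hns a).2]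
    exact ha
  exact ⟨a, this⟩

end Groth.Agent.H11QMap
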