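import Groth.Agent.H11QMap.LineImm2

/-!
# When `r_{L,ψ}` is an immersion, over an affine open of the target
-/

set_option autoImplicit false
set_option linter.style.haveILetI false

noncomputable section

universe u

open CategoryTheory CategoryTheory.Limits AlgebraicGeometry TopologicalSpace Opposite RelProj
open HomogeneousLocalization
open scoped HomogeneousIdeal

namespace Groth.Agent.H11QMap.LocU

variable {Y X P PL : Scheme.{u}} {q : X ⟶ Y} {L : X.Modules} {𝒮 : QCGrAlg Y} {𝒮L : QCGrAlg X}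
  {j : L ⟶ 𝒮L.toModule} (u : QGrHom q 𝒮 𝒮L)
  {p : P ⟶ Y} {chart : ∀ (U : Y.Opens) (hU : IsAffineOpen U), (((p ⁻¹ᵁ U : P.Opens) : Scheme.{u}) ≅ Proj (𝒮.deg U hU))}
  {pL : PL ⟶ X}
  {chartL : ∀ (U : X.Opens) (hU : IsAffineOpen U), (((pL ⁻¹ᵁ U : PL.Opens) : Scheme.{u}) ≅ Proj (𝒮L.deg U hU))}

/-- The open of `q⁻¹U` where an element of degree `n` over `U` does not vanish. -/
def tlocU (U : Y.Opens) (s : 𝒮.presheaf.obj (op U)) (n : ℕ) : X.Opens :=
  ⨆ V : {V : X.affineOpens // ∃ hle : V.1 ≤ q ⁻¹ᵁ U, GenOn u U s n V hle}, V.1.1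

theorem tlocU_le {U : Y.Opens} {s : 𝒮.presheaf.obj (op U)} {n : ℕ} {W : X.Opens} (hWs : W ≤ tlocU u U s n) :
    W ≤ q ⁻¹ᵁ U :=
  hWs.trans (iSup_le fun V => V.2.1)

variable {U : Y.Opens} (hU : IsAffineOpen U)

variable (hPL : IsRelProj 𝒮L pL chartL) (hL : PicF.IsInvertible L) (hLq : Coh.IsQCoh L) (hj : IsGrSymAlg L 𝒮L j)
variable {n : ℕ} (hn : 0 < n) {s : 𝒮.presheaf.obj (op U)} (hs : s ∈ 𝒮.deg U hU n)

include hPL hL hLq hj hn

omit hn in
include hn in
theorem cb_tloc {W : X.Opens} (hW : IsAffineOpen W) (hWs : W ≤ tlocU u U s n) :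
    cb chartL W hW (u.gradedAt U hU W hW (tlocU_le u hWs) s) = pL ⁻¹ᵁ W := by
  refine le_antisymm (cb_le W hW _) fun z hz => ?_
  obtain ⟨⟨V, hgen⟩, hzV⟩ := Opens.mem_iSup.1 (hWs hz)
  have h1 := (cb_of_genOn u chartL hPL hL hLq hj U hU hn s V hgen.fst hgen.snd).ge hzV
  obtain ⟨W', hW', hzW', hle⟩ := exists_isAffineOpen_mem_and_subset (U := W ⊓ V.1) (x := pL z) ⟨hz, hzV⟩
  have i1 : W' ≤ W := fun w hw => (hle hw).1
  have i2 : W' ≤ V.1 := fun w hw => (hle hw).2
  refine (mem_cb_res hPL hW hW' i1 _ hzW').1 ?_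
  have h2 := (mem_cb_res hPL V.2 hW' i2 _ hzW').2 h1
  rw [QGrHom.gradedAt_apply, ← CommRingCat.comp_apply, u.appLE_map] at h2 ⊢
  exact h2

/-- Multiplication by a generating element is injective in each degree. -/
theorem eq_zero_of_mul {W : X.Opens} (hW : IsAffineOpen W) (hWs : W ≤ tlocU u U s n) {k : ℕ}
    {x : 𝒮L.presheaf.obj (op W)} (hx : x ∈ 𝒮L.deg W hW k)
    (h : u.gradedAt U hU W hW (tlocU_le u hWs) s * x = 0) (hs : s ∈ 𝒮.deg U hU n) : x = 0 := by
  haveI := isIso_pL hPL hL hLq hj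
  refine H11Sym.eq_of_affine 𝒮L.toQCAlg fun O hO i => ?_
  refine H11Sym.eq_of_affine 𝒮L.toQCAlg fun V' hV' i' => ?_
  rw [H11Sym.ares_ares, H11Sym.ares_ares, show H11Sym.ares 𝒮L.toQCAlg (i'.trans i) 0 = 0 from map_zero _]
  refine TopCat.Sheaf.eq_of_locally_eq' (⟨𝒮L.presheaf, 𝒮L.isSheaf⟩ : TopCat.Sheaf CommRingCat.{u} X.carrier)
    (fun V : {V : X.Opens // V ≤ V' ∧ ∃ e : Γ(L, V), IsAffineOpen V ∧ H11Tilde.IsGen L e} => V.1) V'
    (fun V => homOfLE V.2.1) (fun z hz => ?_) _ _ fun V => ?_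
  · obtain ⟨V, e, hzV, hVle, hV, he⟩ := exists_trivial_nhd (L := L) hL hz
    exact Opens.mem_iSup.2 ⟨⟨V, hVle, e, hV, he⟩, hzV⟩
  · obtain ⟨V, hVle, e, hV, he⟩ := V
    have hVW : V ≤ W := hVle.trans (i'.trans i)
    change (𝒮L.presheaf.map (homOfLE hVle).op).hom ((𝒮L.presheaf.map (homOfLE (i'.trans i)).op).hom x) =
      (𝒮L.presheaf.map (homOfLE hVle).op).hom 0
    rw [map_zero, res_trans]
    obtain ⟨c, hc⟩ := exists_eq_str_mul_pow hLq hj hV he (gmem (u.gradedAt U hU V hV (tlocU_le u (hVW.trans hWs))) hs)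
    obtain ⟨c', hc'⟩ := exists_eq_str_mul_pow hLq hj hV he (gmem (𝒮L.res hW hV hVW) hx)
    have h' := congrArg (𝒮L.res hW hV hVW) h
    rw [map_mul, map_zero] at h'
    have hres : 𝒮L.res hW hV hVW (u.gradedAt U hU W hW (tlocU_le u hWs) s) =
        u.gradedAt U hU V hV (tlocU_le u (hVW.trans hWs)) s := by
      rw [QCGrAlg.res_apply, QGrHom.gradedAt_apply, QGrHom.gradedAt_apply, ← CommRingCat.comp_apply, u.appLE_map]
    rw [hres, hc, hc', mul_mul_mul_comm, ← map_mul, ← pow_add] at h'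
    have h0 := str_mul_pow_eq_zero hLq hj hV he h'
    have hu : IsUnit c := by
      have h1 : cb chartL V hV (u.gradedAt U hU V hV (tlocU_le u (hVW.trans hWs)) s) = pL ⁻¹ᵁ V :=
        cb_tloc u hU hPL hL hLq hj hn hV (hVW.trans hWs)
      rw [hc, cb_str_mul_pow hPL hLq hj hV he c hn] at h1
      have h2 : X.basicOpen c = V := by
        refine le_antisymm (X.basicOpen_le c) fun v hv => ?_
        obtain ⟨z, rfl⟩ := pL.surjective v
        exact h1.ge hv
      have key : ∀ (O : X.Opens) (hO : O ≤ V), O = V → IsUnit ((X.presheaf.map (homOfLE hO).op).hom c) →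
          IsUnit c := by
        rintro O hO rfl h
        rw [show (homOfLE hO).op = 𝟙 (op O) from rfl, X.presheaf.map_id] at h
        exact h
      exact key _ (X.basicOpen_le c) h2 (RingedSpace.isUnit_res_basicOpen _ c)
    have h3 : c' = 0 := (hu.mul_right_eq_zero).1 h0
    change 𝒮L.res hW hV hVW x = 0
    rw [hc', h3, map_zero, zero_mul]

/-- The functions on `W` are the degree zero fractions. -/
theorem bijective_kappa {W : X.Opens} (hW : IsAffineOpen W) (hWs : W ≤ tlocU u U s n) (hs : s ∈ 𝒮.deg U hU n) :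
    Function.Bijective ((fromZeroRingHom (𝒮L.deg W hW)
      (Submonoid.powers (u.gradedAt U hU W hW (tlocU_le u hWs) s))).comp (𝒮L.strZero W hW).hom) := by
  haveI := isIso_pL hPL hL hLq hj
  let us := u.gradedAt U hU W hW (tlocU_le u hWs) s
  have hus : us ∈ 𝒮L.deg W hW n := gmem (u.gradedAt U hU W hW (tlocU_le u hWs)) hs
  let c := Proj.awayι (𝒮L.deg W hW) us hus hn ≫ emb pL chartL W hW
  have hr : c.opensRange = pL ⁻¹ᵁ W :=
    (opensRange_awayι_emb W hW hn us hus).trans (cb_tloc u hU hPL hL hLq hj hn hW hWs)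
  let k := Spec.map (CommRingCat.ofHom ((fromZeroRingHom (𝒮L.deg W hW)
    (Submonoid.powers us)).comp (𝒮L.strZero W hW).hom))
  have hc : c ≫ pL = k ≫ hW.fromSpec := (Category.assoc _ _ _).trans (awayι_emb_p chartL hPL W hW hn us hus)
  haveI : IsOpenImmersion (k ≫ hW.fromSpec) := hc ▸ inferInstance
  haveI : IsOpenImmersion k := IsOpenImmersion.of_comp k hW.fromSpec
  haveI : Surjective k := ⟨fun y => by
    obtain ⟨z, hz⟩ := pL.surjective (hW.fromSpec y)
    have hzW : z ∈ c.opensRange := by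
      rw [hr]
      change pL z ∈ W
      rw [hz]
      exact hW.range_fromSpec.le ⟨y, rfl⟩
    obtain ⟨w, hw⟩ := hzW
    refine ⟨w, hW.fromSpec.isOpenEmbedding.injective ?_⟩
    rw [← Scheme.Hom.comp_apply, ← hc, Scheme.Hom.comp_apply, hw, hz]⟩
  haveI : Epi k.base := (TopCat.epi_iff_surjective _).2 k.surjective
  haveI : IsIso k := IsOpenImmersion.isIso k
  exact (isIso_SpecMap_iff (f := CommRingCat.ofHom ((fromZeroRingHom (𝒮L.deg W hW)
      (Submonoid.powers us)).comp (𝒮L.strZero W hW).hom))).1 (inferInstanceAs (IsIso k))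

/-- When a function is the image of a fraction. -/
theorem map_eq_kappa_iff {W : X.Opens} (hW : IsAffineOpen W) (hWs : W ≤ tlocU u U s n) (hs : s ∈ 𝒮.deg U hU n)
    (m : ℕ) (a : 𝒮.presheaf.obj (op U)) (ha : a ∈ 𝒮.deg U hU (m • n)) (t : Γ(X, W)) :
    Away.map (u.gradedAt U hU W hW (tlocU_le u hWs)) s (Away.mk (𝒮.deg U hU) hs m a ha) =
        fromZeroRingHom (𝒮L.deg W hW) (Submonoid.powers (u.gradedAt U hU W hW (tlocU_le u hWs) s))
          ((𝒮L.strZero W hW).hom t) ↔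
      (𝒮L.str.app (op W)).hom t * (u.gradedAt U hU W hW (tlocU_le u hWs) s) ^ m =
        u.gradedAt U hU W hW (tlocU_le u hWs) a := by
  rw [Away.map_mk]
  refine (val_injective _).eq_iff.symm.trans ?_
  simp only [Away.val_mk, fromZeroRingHom, RingHom.coe_mk, MonoidHom.coe_mk, OneHom.coe_mk, val_mk]
  rw [Localization.mk_eq_mk_iff, Localization.r_iff_exists]
  constructor
  · rintro ⟨⟨_, l, rfl⟩, hl⟩
    simp only [SetLike.GradeZero.coe_one, one_mul] at hl
    change _ ^ l * u.gradedAt U hU W hW (tlocU_le u hWs) a =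
      _ ^ l * (_ ^ m * (𝒮L.str.app (op W)).hom t) at hl
    have hus := gmem (u.gradedAt U hU W hW (tlocU_le u hWs)) hs
    have hdeg : u.gradedAt U hU W hW (tlocU_le u hWs) a -
        (u.gradedAt U hU W hW (tlocU_le u hWs) s) ^ m * (𝒮L.str.app (op W)).hom t ∈ 𝒮L.deg W hW (m • n) := by
      refine sub_mem (gmem (u.gradedAt U hU W hW (tlocU_le u hWs)) ha) ?_
      have := SetLike.mul_mem_graded (SetLike.pow_mem_graded m hus) (𝒮L.str_mem W hW t)
      rwa [add_zero] at this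
    have key : ∀ (l k : ℕ) (x : 𝒮L.presheaf.obj (op W)), x ∈ 𝒮L.deg W hW k →
        (u.gradedAt U hU W hW (tlocU_le u hWs) s) ^ l * x = 0 → x = 0 := by
      intro l
      induction l with
      | zero => intro k x _ h; rwa [pow_zero, one_mul] at h
      | succ l ih =>
        intro k x hx h
        rw [pow_succ, mul_assoc] at h
        exact eq_zero_of_mul u hU hPL hL hLq hj hn hW hWs hx (ih _ _ (SetLike.mul_mem_graded hus hx) h) hs
    have h0 := key l _ _ hdeg (by rw [mul_sub, hl, sub_self])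
    rw [mul_comm]
    exact (sub_eq_zero.1 h0).symm
  · intro h
    refine ⟨1, ?_⟩
    simp only [OneMemClass.coe_one, SetLike.GradeZero.coe_one, one_mul]
    change u.gradedAt U hU W hW (tlocU_le u hWs) a = _ ^ m * (𝒮L.str.app (op W)).hom t
    rw [mul_comm, h]

variable (hP : IsRelProj 𝒮 p chart)
variable {r : (domQ u pL chartL : Scheme.{u}) ⟶ P} (hr : IsProjQMapOn u p chart pL chartL (domQ u pL chartL) r)
include hP hr

theorem preimage_cb_eq (hs : s ∈ 𝒮.deg U hU n) :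
    r ⁻¹ᵁ cb chart U hU s = (domQ u pL chartL).ι ⁻¹ᵁ pL ⁻¹ᵁ tlocU u U s n := by
  ext z
  constructor
  · intro hz
    obtain ⟨V, hle, hzV, hgen⟩ := (mem_preimage_cb_iff u chart chartL hPL hL hLq hj hP hr z U hU hn s hs).1 hz
    exact Opens.mem_iSup.2 ⟨⟨V, hle, hgen⟩, hzV⟩
  · intro hz
    obtain ⟨⟨V, hle, hgen⟩, hzV⟩ := Opens.mem_iSup.1 hz
    exact (mem_preimage_cb_iff u chart chartL hPL hL hLq hj hP hr z U hU hn s hs).2
      ⟨V, hle, hzV, hgen⟩

theorem image_preimage_eq (hs : s ∈ 𝒮.deg U hU n) :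
    (domQ u pL chartL).ι ''ᵁ (r ⁻¹ᵁ cb chart U hU s) = pL ⁻¹ᵁ tlocU u U s n := by
  rw [preimage_cb_eq u hU hPL hL hLq hj hn hP hr hs, Scheme.Hom.image_preimage_eq_opensRange_inf,
    Scheme.Opens.opensRange_ι, inf_eq_right]
  intro z hz
  obtain ⟨⟨V, hle, hgen⟩, hzV⟩ := Opens.mem_iSup.1 hz
  exact mem_domQ_of_genOn u chartL hPL hL hLq hj U hU hn s hs V hle hgen hzV

theorem isAffineOpen_tloc (hs : s ∈ 𝒮.deg U hU n) (h : IsAffineOpen (r ⁻¹ᵁ cb chart U hU s)) :
    IsAffineOpen (tlocU u U s n) := by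
  haveI := isIso_pL hPL hL hLq hj
  have h1 := (image_preimage_eq u hU hPL hL hLq hj hn hP hr hs) ▸ h.image_of_isOpenImmersion (domQ u pL chartL).ι
  have h2 := h1.preimage_of_isIso (inv pL)
  rwa [← Scheme.Hom.comp_preimage, IsIso.inv_hom_id, Scheme.Hom.id_preimage] at h2

/-- The restriction over `D₊(s)` is `Spec` of the map of away rings. -/
theorem restrict_cb_iff (hs : s ∈ 𝒮.deg U hU n) (hW : IsAffineOpen (tlocU u U s n))
    {Q : MorphismProperty Scheme.{u}} [Q.RespectsIso] :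
    Q (r ∣_ cb chart U hU s) ↔
      Q (Spec.map (CommRingCat.ofHom (Away.map (u.gradedAt U hU (tlocU u U s n) hW (tlocU_le u le_rfl)) s))) := by
  let i : Idx u := ⟨⟨U, hU⟩, ⟨tlocU u U s n, hW⟩, tlocU_le u le_rfl, n, hn, s, hs⟩
  have hsq : IsPullback (Spec.map (CommRingCat.ofHom (Away.map (u.gradedAt U hU (tlocU u U s n) hW (tlocU_le u le_rfl)) s)))
      (lchart u chartL i) (Proj.awayι (𝒮.deg U hU) s hs hn ≫ emb p chart U hU) r := by
    apply IsOpenImmersion.isPullback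
    · exact (isProjQMapOn_iff u chart chartL r).1 hr i
    · rw [opensRange_awayι_emb, preimage_cb_eq u hU hPL hL hLq hj hn hP hr hs]
      refine Eq.trans ?_ (opensRange_lchart u chartL i).symm
      exact congrArg ((domQ u pL chartL).ι ⁻¹ᵁ ·) (cb_tloc u hU hPL hL hLq hj hn hW le_rfl).symm
  have h1 := MorphismProperty.arrow_mk_iso_iff Q
    (morphismRestrictOpensRange r (Proj.awayι (𝒮.deg U hU) s hs hn ≫ emb p chart U hU))
  rw [opensRange_awayι_emb] at h1
  refine h1.trans ?_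
  rw [← hsq.flip.isoPullback_hom_snd]
  exact (Q.cancel_left_of_respectsIso _ _).symm

omit hP hr in
/-- The functions which are fractions with denominator a power of `s` form a subring. -/
def fracSub {W : X.Opens} (hW : IsAffineOpen W) (hWs : W ≤ tlocU u U s n) : Subring Γ(X, W) :=
  (Away.map (u.gradedAt U hU W hW (tlocU_le u hWs)) s).range.comap
    ((fromZeroRingHom (𝒮L.deg W hW) (Submonoid.powers (u.gradedAt U hU W hW (tlocU_le u hWs) s))).comp
      (𝒮L.strZero W hW).hom)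

omit hP hr in
theorem mem_fracSub_iff {W : X.Opens} (hW : IsAffineOpen W) (hWs : W ≤ tlocU u U s n) (hs : s ∈ 𝒮.deg U hU n)
    (t : Γ(X, W)) : t ∈ fracSub u hU hW hWs (s := s) (n := n) ↔ ∃ (m : ℕ) (a : 𝒮.presheaf.obj (op U)),
      a ∈ 𝒮.deg U hU (m • n) ∧ (𝒮L.str.app (op W)).hom t * ((u.appLE U W (tlocU_le u hWs)).hom s) ^ m =
        (u.appLE U W (tlocU_le u hWs)).hom a := by
  constructor
  · rintro ⟨z, hz⟩
    obtain ⟨m, a, ha, rfl⟩ := Away.mk_surjective (𝒮.deg U hU) hs z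
    exact ⟨m, a, ha, (map_eq_kappa_iff u hU hPL hL hLq hj hn hW hWs hs m a ha t).1 hz⟩
  · rintro ⟨m, a, ha, h⟩
    exact ⟨Away.mk (𝒮.deg U hU) hs m a ha, (map_eq_kappa_iff u hU hPL hL hLq hj hn hW hWs hs m a ha t).2 h⟩

omit hP hr in
theorem appLE_mem_fracSub {W : X.Opens} (hW : IsAffineOpen W) (hWs : W ≤ tlocU u U s n) (hs : s ∈ 𝒮.deg U hU n)
    (a : Γ(Y, U)) : (q.appLE U W (tlocU_le u hWs)).hom a ∈ fracSub u hU hW hWs (s := s) (n := n) := by
  refine (mem_fracSub_iff u hU hPL hL hLq hj hn hW hWs hs _).2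
    ⟨0, (𝒮.str.app (op U)).hom a, by rw [zero_smul]; exact 𝒮.str_mem U hU a, ?_⟩
  rw [pow_zero, mul_one]
  exact (DFunLike.congr_fun (congrArg CommRingCat.Hom.hom (u.str_appLE U W (tlocU_le u hWs))) a).symm

omit hP hr in
theorem surjective_away_map_iff {W : X.Opens} (hW : IsAffineOpen W) (hWs : W ≤ tlocU u U s n)
    (hs : s ∈ 𝒮.deg U hU n) :
    Function.Surjective (Away.map (u.gradedAt U hU W hW (tlocU_le u hWs)) s) ↔
      fracSub u hU hW hWs (s := s) (n := n) = ⊤ := by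
  have hk := bijective_kappa u hU hPL hL hLq hj hn hW hWs hs
  constructor
  · intro h
    exact eq_top_iff.2 fun t _ => h _
  · intro h z
    obtain ⟨t, rfl⟩ := hk.2 z
    exact h.ge (Subring.mem_top t)

theorem isClosedImmersion_cb_iff (hs : s ∈ 𝒮.deg U hU n) :
    IsClosedImmersion (r ∣_ cb chart U hU s) ↔
      ∃ hW : IsAffineOpen (tlocU u U s n), fracSub u hU hW le_rfl (s := s) (n := n) = ⊤ := by
  constructor
  · intro h
    have hW := isAffineOpen_tloc u hU hPL hL hLq hj hn hP hr hs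
      ((H11Sym.isClosedImmersion_morphismRestrict_iff r (isAffineOpen_cb U hU hn s hs)).1 h).1
    exact ⟨hW, (surjective_away_map_iff u hU hPL hL hLq hj hn hW le_rfl hs).1
      (surjective_of_isClosedImmersion_SpecMap _
        ((restrict_cb_iff u hU hPL hL hLq hj hn hP hr hs hW (Q := @IsClosedImmersion)).1 h))⟩
  · rintro ⟨hW, h⟩
    exact (restrict_cb_iff u hU hPL hL hLq hj hn hP hr hs hW (Q := @IsClosedImmersion)).2
      (IsClosedImmersion.spec_of_surjective _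
        ((surjective_away_map_iff u hU hPL hL hLq hj hn hW le_rfl hs).2 h))

omit hn in
/-- Standard opens over `U` inside a given open cover the preimage of `U`. -/
theorem exists_tloc_mem (htop : domQ u pL chartL = ⊤) {O : P.Opens} (hO : ∀ z, r z ∈ O) {x : X} (hx : q x ∈ U) :
    ∃ (d : ℕ) (_ : 0 < d) (f : 𝒮.presheaf.obj (op U)), f ∈ 𝒮.deg U hU d ∧ cb chart U hU f ≤ O ∧
      x ∈ tlocU u U f d := by
  haveI := isIso_pL hPL hL hLq hj
  obtain ⟨z, rfl⟩ := pL.surjective x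
  let w : (domQ u pL chartL : Scheme.{u}) := ⟨z, htop.ge trivial⟩
  have hw : p (r w) ∈ U := by
    rw [qmap_p_apply u chart chartL hP hPL hr]
    exact hx
  obtain ⟨v, hv⟩ := exists_emb_eq (chart := chart) hU (z := r w) hw
  obtain ⟨d, hd, f, hf, hvf, hsub⟩ := exists_basicOpen_subset (O.2.preimage (emb p chart U hU).continuous)
    (show v ∈ emb p chart U hU ⁻¹' (O : Set P) by
      change emb p chart U hU v ∈ O
      rw [hv]
      exact hO w)
  refine ⟨d, hd, f, hf, ?_, ?_⟩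
  · rintro _ ⟨v', hv', rfl⟩
    exact hsub hv'
  · obtain ⟨V, hle, hzV, hgen⟩ := (mem_preimage_cb_iff u chart chartL hPL hL hLq hj hP hr w U hU hd f hf).1
      ⟨v, hvf, hv⟩
    exact Opens.mem_iSup.2 ⟨⟨V, hle, hgen⟩, hzV⟩

end Groth.Agent.H11QMap.LocU
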