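import Groth.Agent.H11QMap.Line
import Groth.Agent.H11QMap.Compare

/-!
# The morphism `r_{L,ψ}` to a relative Proj
-/

set_option autoImplicit false
set_option linter.style.haveILetI false

noncomputable section

universe u

open CategoryTheory CategoryTheory.Limits AlgebraicGeometry TopologicalSpace Opposite RelProj
open HomogeneousLocalization
open scoped HomogeneousIdeal

namespace Groth.Agent.H11QMap

variable {Y X P PL : Scheme.{u}} {q : X ⟶ Y} {L : X.Modules} {𝒮 : QCGrAlg Y} {𝒮L : QCGrAlg X}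
  {j : L ⟶ 𝒮L.toModule} (u : QGrHom q 𝒮 𝒮L)
  {p : P ⟶ Y} (chart : ∀ (U : Y.Opens) (hU : IsAffineOpen U), (((p ⁻¹ᵁ U : P.Opens) : Scheme.{u}) ≅ Proj (𝒮.deg U hU)))
  {pL : PL ⟶ X}
  (chartL : ∀ (U : X.Opens) (hU : IsAffineOpen U), (((pL ⁻¹ᵁ U : PL.Opens) : Scheme.{u}) ≅ Proj (𝒮L.deg U hU)))

/-- The elements of `𝒮L(V)_n` are multiples of `ψ(f)`. -/
def GenOn (U : Y.Opens) (f : 𝒮.presheaf.obj (op U)) (n : ℕ) (V : X.affineOpens) (hle : V.1 ≤ q ⁻¹ᵁ U) : Prop :=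
  ((𝒮L.deg V.1 V.2 n : AddSubgroup (𝒮L.presheaf.obj (op V.1))) : Set (𝒮L.presheaf.obj (op V.1))) ⊆
    (Ideal.span {(u.appLE U V.1 hle).hom f} : Set (𝒮L.presheaf.obj (op V.1)))

variable (hPL : IsRelProj 𝒮L pL chartL) (hL : PicF.IsInvertible L) (hLq : Coh.IsQCoh L) (hj : IsGrSymAlg L 𝒮L j)
include hPL hL hLq hj

theorem cb_of_genOn (U : Y.Opens) (hU : IsAffineOpen U) {d : ℕ} (hd : 0 < d) (f : 𝒮.presheaf.obj (op U))
    (V : X.affineOpens) (hle : V.1 ≤ q ⁻¹ᵁ U) (h : GenOn u U f d V hle) :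
    cb chartL V.1 V.2 (u.gradedAt U hU V.1 V.2 hle f) = pL ⁻¹ᵁ V.1 :=
  cb_eq_of_span hPL hL hLq hj V.2 hd _ h

theorem exists_genOn_of_mem (U : Y.Opens) (hU : IsAffineOpen U) {d : ℕ} (hd : 0 < d) (f : 𝒮.presheaf.obj (op U))
    (hf : f ∈ 𝒮.deg U hU d) (V : X.Opens) (hV : IsAffineOpen V) (hle : V ≤ q ⁻¹ᵁ U) {z : PL}
    (hz : z ∈ cb chartL V hV (u.gradedAt U hU V hV hle f)) :
    ∃ (W : X.affineOpens) (i : W.1 ≤ V), pL z ∈ W.1 ∧ GenOn u U f d W (i.trans hle) := by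
  obtain ⟨W, hW, i, hzW, hspan⟩ := exists_span_nhd hPL hL hLq hj hV hd _ (gmem (u.gradedAt U hU V hV hle) hf) hz
  refine ⟨⟨W, hW⟩, i, hzW, ?_⟩
  rw [QGrHom.gradedAt_apply, ← CommRingCat.comp_apply, u.appLE_map] at hspan
  exact hspan

theorem mem_domQ_of_genOn (U : Y.Opens) (hU : IsAffineOpen U) {d : ℕ} (hd : 0 < d) (f : 𝒮.presheaf.obj (op U))
    (hf : f ∈ 𝒮.deg U hU d) (V : X.affineOpens) (hle : V.1 ≤ q ⁻¹ᵁ U) (h : GenOn u U f d V hle) {z : PL}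
    (hz : pL z ∈ V.1) : z ∈ domQ u pL chartL :=
  cb_le_domQ u chartL U hU V.1 V.2 hle hd f hf ((cb_of_genOn u chartL hPL hL hLq hj U hU hd f V hle h).ge hz)

variable (hP : IsRelProj 𝒮 p chart)
variable {r : (domQ u pL chartL : Scheme.{u}) ⟶ P} (hr : IsProjQMapOn u p chart pL chartL (domQ u pL chartL) r)
include hP hr

/-- Where `r` lands in a standard open. -/
theorem mem_preimage_cb_iff (z : (domQ u pL chartL : Scheme.{u})) (U : Y.Opens) (hU : IsAffineOpen U) {d : ℕ}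
    (hd : 0 < d) (f : 𝒮.presheaf.obj (op U)) (hf : f ∈ 𝒮.deg U hU d) :
    r z ∈ cb chart U hU f ↔ ∃ (V : X.affineOpens) (hle : V.1 ≤ q ⁻¹ᵁ U),
      pL ((domQ u pL chartL).ι z) ∈ V.1 ∧ GenOn u U f d V hle := by
  constructor
  · intro hz
    have h : q (pL ((domQ u pL chartL).ι z)) ∈ U := by
      rw [← qmap_p_apply u chart chartL hP hPL hr]
      exact cb_le U hU f hz
    obtain ⟨V, hV, hzV, hle⟩ := exists_isAffineOpen_mem_and_subset (U := q ⁻¹ᵁ U) h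
    obtain ⟨W, i, hzW, hgen⟩ := exists_genOn_of_mem u chartL hPL hL hLq hj U hU hd f hf V hV hle
      ((qmap_mem_cb_iff u chart chartL hP hPL hr z U hU V hV hle hzV hd f hf).1 hz)
    exact ⟨W, i.trans hle, hzW, hgen⟩
  · rintro ⟨V, hle, hzV, hgen⟩
    exact (qmap_mem_cb_iff u chart chartL hP hPL hr z U hU V.1 V.2 hle hzV hd f hf).2
      ((cb_of_genOn u chartL hPL hL hLq hj U hU hd f V hle hgen).ge hzV)

/-- The preimage of `D₊(f)` is the part over the locus where `ψ(f)` generates. -/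
theorem image_preimage_cb (U : Y.Opens) (hU : IsAffineOpen U) {d : ℕ} (hd : 0 < d) (f : 𝒮.presheaf.obj (op U))
    (hf : f ∈ 𝒮.deg U hU d) :
    (domQ u pL chartL).ι ''ᵁ (r ⁻¹ᵁ cb chart U hU f) =
      pL ⁻¹ᵁ (⨆ V : {V : X.affineOpens // ∃ hle : V.1 ≤ q ⁻¹ᵁ U, GenOn u U f d V hle}, V.1.1) := by
  ext z
  constructor
  · rintro ⟨w, hw, rfl⟩
    obtain ⟨V, hle, hzV, hgen⟩ := (mem_preimage_cb_iff u chart chartL hPL hL hLq hj hP hr w U hU hd f hf).1 hw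
    exact Opens.mem_iSup.2 ⟨⟨V, hle, hgen⟩, hzV⟩
  · intro hz
    obtain ⟨⟨V, hle, hgen⟩, hzV⟩ := Opens.mem_iSup.1 hz
    refine ⟨⟨z, mem_domQ_of_genOn u chartL hPL hL hLq hj U hU hd f hf V hle hgen hzV⟩, ?_, rfl⟩
    exact (mem_preimage_cb_iff u chart chartL hPL hL hLq hj hP hr _ U hU hd f hf).2 ⟨V, hle, hzV, hgen⟩

end Groth.Agent.H11QMap
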