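import Groth.Agent.H11QMap.TwistPullMap
import Groth.Agent.H11QMap.ClosedSubRelProj
import Groth.Agent.H11Proj.ProjectiveProps
import Groth.Agent.H11Tilde.TwistLoc
import Mathlib.AlgebraicGeometry.Morphisms.Immersion

/-!
# Schemes with an immersion into a relative Proj, as dense opens of a relative Proj
-/

set_option autoImplicit false
set_option linter.style.haveILetI false

noncomputable section

universe u

open CategoryTheory CategoryTheory.Limits AlgebraicGeometry TopologicalSpace Opposite RelProj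
open scoped HomogeneousIdeal

namespace Groth.Agent.H11QMap

variable {S : Scheme.{u}} {𝒜 ℬ : QCGrAlg S} (φ : 𝒜.toQCAlg ⟶ ℬ.toQCAlg) (hφ : IsGradedHom φ)
  (hs : ∀ (U : S.Opens), IsAffineOpen U → Function.Surjective (φ.hom.app (op U)).hom)

include hφ hs

theorem exists_deg_preimage {U : S.Opens} (hU : IsAffineOpen U) {d : ℕ} {b : ℬ.presheaf.obj (op U)}
    (hb : b ∈ ℬ.deg U hU d) : ∃ a ∈ 𝒜.deg U hU d, (φ.hom.app (op U)).hom a = b := by
  classical
  obtain ⟨a, rfl⟩ := hs U hU b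
  refine ⟨_, (DirectSum.decompose (𝒜.deg U hU) a d).2, ?_⟩
  refine (H11Proj.map_proj (gradedHomAt φ hφ U hU) a d).trans ?_
  exact DirectSum.decompose_of_mem_same _ hb

theorem isGenDegOne_of_surjective (hgen : 𝒜.IsGenDegOne) : ℬ.IsGenDegOne := fun U hU => by
  refine eq_top_iff.2 fun b _ => ?_
  obtain ⟨a, rfl⟩ := hs U hU b
  suffices h : Subring.closure ((𝒜.deg U hU 0 : Set (𝒜.presheaf.obj (op U))) ∪ (𝒜.deg U hU 1 : Set _)) ≤
      (Subring.closure ((ℬ.deg U hU 0 : Set (ℬ.presheaf.obj (op U))) ∪ (ℬ.deg U hU 1 : Set _))).comap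
        (φ.hom.app (op U)).hom from h ((hgen U hU).ge (Subring.mem_top a))
  refine Subring.closure_le.2 ?_
  rintro x (hx | hx)
  · exact Subring.subset_closure (Or.inl ((gradedHomAt φ hφ U hU).map_mem hx))
  · exact Subring.subset_closure (Or.inr ((gradedHomAt φ hφ U hU).map_mem hx))

theorem isFTDeg_of_surjective {d : ℕ} (hft : 𝒜.IsFTDeg d) : ℬ.IsFTDeg d := fun U hU => by
  classical
  obtain ⟨T, hT, hgen⟩ := hft U hU
  refine ⟨T.image (φ.hom.app (op U)).hom, ?_, fun b hb => ?_⟩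
  · intro y hy
    obtain ⟨t, ht, rfl⟩ := Finset.mem_image.1 (Finset.mem_coe.1 hy)
    exact (gradedHomAt φ hφ U hU).map_mem (hT ht)
  obtain ⟨a, ha, rfl⟩ := exists_deg_preimage φ hφ hs hU hb
  obtain ⟨c, rfl⟩ := hgen a ha
  refine ⟨fun y => ∑ t ∈ T.filter (fun t => (φ.hom.app (op U)).hom t = y), c t, ?_⟩
  rw [map_sum, ← Finset.sum_fiberwise_of_maps_to (g := fun t => (φ.hom.app (op U)).hom t)
    (fun t ht => Finset.mem_image_of_mem _ ht)]
  refine Finset.sum_congr rfl fun y _ => ?_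
  rw [map_sum, Finset.sum_mul]
  refine Finset.sum_congr rfl fun t ht => ?_
  rw [map_mul, (Finset.mem_filter.1 ht).2]
  refine congrArg (· * y) ?_
  have := ConcreteCategory.congr_hom (congrArg (fun f => f.app (op U)) φ.comm) (c t)
  exact this

omit hφ hs

/-- An `S`-scheme with a quasi-compact immersion into `Proj 𝒜` is open and dense in `Proj` of a quotient. -/
theorem exists_open_dense_of_immersion {X P : Scheme.{u}} {p : P ⟶ S}
    {chart : ∀ (U : S.Opens) (hU : IsAffineOpen U), (((p ⁻¹ᵁ U : P.Opens) : Scheme.{u}) ≅ Proj (𝒜.deg U hU))}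
    (hP : IsRelProj 𝒜 p chart) (hgen : 𝒜.IsGenDegOne) (hft : 𝒜.IsFTDeg 1) (r : X ⟶ P) [IsImmersion r]
    [QuasiCompact r] {O1 : P.Modules}
    {lam : ∀ (U : S.Opens) (hU : IsAffineOpen U),
      O1 ⟶ (Scheme.Modules.pushforward (emb p chart U hU)).obj (GrTwist.twist (𝒜.deg U hU) 1)}
    (hO : IsRelTwist 𝒜 p chart 1 O1 lam) :
    ∃ (ℬ : QCGrAlg S) (Q : Scheme.{u}) (q : Q ⟶ S)
      (chartB : ∀ (U : S.Opens) (hU : IsAffineOpen U), ((q ⁻¹ᵁ U : Q.Opens) : Scheme.{u}) ≅ Proj (ℬ.deg U hU))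
      (O1' : Q.Modules)
      (lam' : ∀ (U : S.Opens) (hU : IsAffineOpen U),
        O1' ⟶ (Scheme.Modules.pushforward (emb q chartB U hU)).obj (GrTwist.twist (ℬ.deg U hU) 1))
      (i : X ⟶ Q),
      ℬ.IsGenDegOne ∧ ℬ.IsFTDeg 1 ∧ IsRelProj ℬ q chartB ∧ IsRelTwist ℬ q chartB 1 O1' lam' ∧
        IsOpenImmersion i ∧ Dense (Set.range i.base) ∧ i ≫ q = r ≫ p ∧
        Nonempty ((Scheme.Modules.pullback r).obj O1 ≅ (Scheme.Modules.pullback i).obj O1') := by
  haveI : IsProper p := H11Proj.isProper_relProj hgen hft hP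
  obtain ⟨Y, PB, pB, chartB, h, e, -, hB, hh, he⟩ := exists_closedSub hP r.imageι
  obtain ⟨LB, lamB, hLB⟩ := H11Tilde.exists_isRelTwist hB 1
  have hp : h ≫ p = pB :=
    (isProjQMap_over (QGrHom.ofHom Y.quo Y.isGradedHom_quo) chart chartB hP hB hh).trans (Category.comp_id pB)
  refine ⟨Y.alg, PB, pB, chartB, LB, lamB, r.toImage ≫ e.inv,
    isGenDegOne_of_surjective Y.quo Y.isGradedHom_quo (fun U hU => Y.quo_surjective hU) hgen,
    isFTDeg_of_surjective Y.quo Y.isGradedHom_quo (fun U hU => Y.quo_surjective hU) hft, hB, hLB, inferInstance,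
    ?_, ?_, ?_⟩
  · exact (r.toImage ≫ e.inv).denseRange
  · rw [Category.assoc, ← hp, ← he, Category.assoc, e.inv_hom_id_assoc, r.toImage_imageι_assoc]
  · let ι := (domQ (QGrHom.ofHom Y.quo Y.isGradedHom_quo) pB chartB).ι
    haveI : IsIso ι := isIso_domQ_ι (QGrHom.ofHom Y.quo Y.isGradedHom_quo) chartB hh.1
    have hon := isProjQMapOn_of_isProjQMap (QGrHom.ofHom Y.quo Y.isGradedHom_quo) chart chartB hh
    obtain ⟨τ₀⟩ := nonempty_pullback_twist_iso (QGrHom.ofHom Y.quo Y.isGradedHom_quo) chart chartB hP hB hon hO hLB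
      (hasFrac_of_degOne (QGrHom.ofHom Y.quo Y.isGradedHom_quo) chart chartB hP hB hon
        (fun U hU y => H11Tilde.exists_degOne_notMem (𝒜.deg U hU) (hgen U hU) y) 1)
    obtain ⟨τ⟩ := nonempty_iso_of_pullback_iso ι ⟨(Scheme.Modules.pullbackComp ι h).app O1 ≪≫ τ₀⟩
    have hr : (r.toImage ≫ e.inv) ≫ h = r := by
      rw [Category.assoc, ← he, e.inv_hom_id_assoc, r.toImage_imageι]
    exact ⟨(Scheme.Modules.pullbackCongr hr.symm).app O1 ≪≫
      ((Scheme.Modules.pullbackComp (r.toImage ≫ e.inv) h).app O1).symm ≪≫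
        (Scheme.Modules.pullback (r.toImage ≫ e.inv)).mapIso τ⟩

end Groth.Agent.H11QMap
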