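import Groth.Agent.H11QMap.CompTarget
import Groth.Agent.H11QMap.FTQ

/-!
# The pointed projective cone and the extension of a graded morphism to `𝒮[z]`
-/

set_option autoImplicit false
set_option linter.style.haveILetI false
set_option linter.unusedSectionVars false

noncomputable section

universe u

open CategoryTheory CategoryTheory.Limits AlgebraicGeometry TopologicalSpace Opposite RelProj
open HomogeneousLocalization
open scoped HomogeneousIdeal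

namespace Groth.Agent.H11QMap.PolyCone

section pointed

variable {Y PC : Scheme.{u}} {𝒮 𝒮h : QCGrAlg Y} {ι : 𝒮.toQCAlg ⟶ 𝒮h.toQCAlg} {z : 𝒮h.presheaf.obj (op ⊤)}
  (hz : RelCone.IsPolyOver 𝒮 𝒮h ι z) {pC : PC ⟶ Y}
  (chartC : ∀ (U : Y.Opens) (hU : IsAffineOpen U), (((pC ⁻¹ᵁ U : PC.Opens) : Scheme.{u}) ≅ Proj (𝒮h.deg U hU)))

theorem mem_pointed_iff (x : PC) :
    x ∈ RelCone.pointedProjCone 𝒮 hz pC chartC ↔
      ∃ (U : Y.Opens) (hU : IsAffineOpen U) (d : ℕ) (_ : 0 < d) (f : 𝒮.presheaf.obj (op U)),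
        f ∈ 𝒮.deg U hU d ∧ x ∈ cb chartC U hU (gradedHomAt ι hz.graded U hU f) := by
  rw [RelCone.pointedProjCone, Opens.mem_iSup]
  constructor
  · rintro ⟨⟨U, hU⟩, w, hw, rfl⟩
    obtain ⟨d, hd, f, hf, hwf⟩ := (mem_domOpen_iff _ _).1 hw
    exact ⟨U, hU, d, hd, f, hf, w, hwf, rfl⟩
  · rintro ⟨U, hU, d, hd, f, hf, w, hw, rfl⟩
    exact ⟨⟨U, hU⟩, w, (mem_domOpen_iff _ _).2 ⟨d, hd, f, hf, hw⟩, rfl⟩

/-- The pointed projective cone is the open of definition of the retraction. -/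
theorem pointed_eq_domQ :
    RelCone.pointedProjCone 𝒮 hz pC chartC = domQ (QGrHom.ofHom ι hz.graded) pC chartC := by
  ext x
  rw [SetLike.mem_coe, SetLike.mem_coe, mem_pointed_iff, mem_domQ_iff]
  constructor
  · rintro ⟨U, hU, d, hd, f, hf, hx⟩
    exact ⟨U, hU, U, hU, le_rfl, d, hd, f, hf, by rwa [ofHom_gradedAt_eq]⟩
  · rintro ⟨U, hU, U', hU', hle, d, hd, f, hf, hx⟩
    refine ⟨U', hU', d, hd, 𝒮.res hU hU' hle f, (𝒮.res hU hU' hle).map_mem hf, ?_⟩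
    have e : (QGrHom.ofHom ι hz.graded).gradedAt U hU U' hU' hle f =
        gradedHomAt ι hz.graded U' hU' (𝒮.res hU hU' hle f) :=
      (ConcreteCategory.congr_hom (ι.hom.naturality (homOfLE hle).op) f).symm
    rwa [← e]

/-- A retraction given on the pointed cone, as a map on the open of definition. -/
theorem exists_retraction_domQ {P : Scheme.{u}} {p : P ⟶ Y}
    (chart : ∀ (U : Y.Opens) (hU : IsAffineOpen U), (((p ⁻¹ᵁ U : P.Opens) : Scheme.{u}) ≅ Proj (𝒮.deg U hU)))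
    (r : (RelCone.pointedProjCone 𝒮 hz pC chartC : Scheme.{u}) ⟶ P)
    (hr : IsProjQMapOn (QGrHom.ofHom ι hz.graded) p chart pC chartC (RelCone.pointedProjCone 𝒮 hz pC chartC) r) :
    IsProjQMapOn (QGrHom.ofHom ι hz.graded) p chart pC chartC (domQ (QGrHom.ofHom ι hz.graded) pC chartC)
      (PC.homOfLE (pointed_eq_domQ hz chartC).ge ≫ r) := by
  have key : ∀ (W : PC.Opens) (h : W ≤ RelCone.pointedProjCone 𝒮 hz pC chartC)
      (_ : W = RelCone.pointedProjCone 𝒮 hz pC chartC),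
      IsProjQMapOn (QGrHom.ofHom ι hz.graded) p chart pC chartC W (PC.homOfLE h ≫ r) := by
    rintro W h rfl
    rw [Scheme.homOfLE_rfl, Category.id_comp]
    exact hr
  exact key _ _ (pointed_eq_domQ hz chartC).symm

include hz in
/-- A point off `D₊(z)` lies on the pointed cone. -/
theorem exists_base_notMem (U : Y.Opens) (hU : IsAffineOpen U) (w : Proj (𝒮h.deg U hU))
    (hw : RelCone.restrictTop 𝒮h z U ∈ w.asHomogeneousIdeal) :
    ∃ (d : ℕ) (_ : 0 < d) (a : 𝒮.presheaf.obj (op U)),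
      a ∈ 𝒮.deg U hU d ∧ gradedHomAt ι hz.graded U hU a ∉ w.asHomogeneousIdeal := by
  classical
  by_contra hc
  push Not at hc
  refine w.not_irrelevant_le ((HomogeneousIdeal.irrelevant_le _).2 fun d hd b hb => ?_)
  replace hb : b ∈ 𝒮h.deg U hU d := hb
  obtain ⟨p, hp⟩ := (hz.bij U hU).2 b
  let zU := RelCone.restrictTop 𝒮h z U
  let J := w.asHomogeneousIdeal.toIdeal
  have e : b - gradedHomAt ι hz.graded U hU (p.coeff 0) ∈ J := by
    have h1 := congrArg (Polynomial.eval₂RingHom (ι.hom.app (op U)).hom zU) (Polynomial.divX_mul_X_add p)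
    rw [map_add, map_mul, hp] at h1
    simp only [Polynomial.coe_eval₂RingHom, Polynomial.eval₂_X, Polynomial.eval₂_C] at h1
    change _ + gradedHomAt ι hz.graded U hU (p.coeff 0) = b at h1
    rw [← h1, add_sub_cancel_right]
    exact J.mul_mem_left _ hw
  have e' := w.asHomogeneousIdeal.isHomogeneous d e
  rw [DirectSum.decompose_sub, DirectSum.sub_apply, AddSubgroupClass.coe_sub, DirectSum.decompose_of_mem_same _ hb,
    ← H11Proj.map_proj (gradedHomAt ι hz.graded U hU) (p.coeff 0) d] at e'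
  have h2 : gradedHomAt ι hz.graded U hU (DirectSum.decompose (𝒮.deg U hU) (p.coeff 0) d : 𝒮.deg U hU d) ∈ J :=
    hc d hd _ (DirectSum.decompose (𝒮.deg U hU) (p.coeff 0) d).2
  exact (sub_add_cancel b _) ▸ J.add_mem e' h2

end pointed

variable {Y Y' PC PC' : Scheme.{u}} {q : Y' ⟶ Y} {𝒮 𝒮h : QCGrAlg Y} {𝒮' 𝒮h' : QCGrAlg Y'}
  {ι : 𝒮.toQCAlg ⟶ 𝒮h.toQCAlg} {z : 𝒮h.presheaf.obj (op ⊤)} (hz : RelCone.IsPolyOver 𝒮 𝒮h ι z)
  {ι' : 𝒮'.toQCAlg ⟶ 𝒮h'.toQCAlg} {z' : 𝒮h'.presheaf.obj (op ⊤)} (hz' : RelCone.IsPolyOver 𝒮' 𝒮h' ι' z')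
  (u : QGrHom q 𝒮 𝒮') (uh : QGrHom q 𝒮h 𝒮h')
  (huh : ∀ U : Y.Opens, ι.hom.app (op U) ≫ uh.app U = u.app U ≫ ι'.hom.app (op (q ⁻¹ᵁ U)))
  {pC : PC ⟶ Y}
  {chartC : ∀ (U : Y.Opens) (hU : IsAffineOpen U), (((pC ⁻¹ᵁ U : PC.Opens) : Scheme.{u}) ≅ Proj (𝒮h.deg U hU))}
  (hC : IsRelProj 𝒮h pC chartC)
  {pC' : PC' ⟶ Y'}
  {chartC' : ∀ (U : Y'.Opens) (hU : IsAffineOpen U), (((pC' ⁻¹ᵁ U : PC'.Opens) : Scheme.{u}) ≅ Proj (𝒮h'.deg U hU))}
  (hC' : IsRelProj 𝒮h' pC' chartC')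
  {Φh : (domQ uh pC' chartC' : Scheme.{u}) ⟶ PC}
  (hΦh : IsProjQMapOn uh pC chartC pC' chartC' (domQ uh pC' chartC') Φh)

/-- The composite `𝒮 → q_* 𝒮'[z]`. -/
abbrev comp : QGrHom q 𝒮 𝒮h' := compQ ι hz.graded uh

include huh in
theorem comp_app (U : Y.Opens) : (comp hz uh).app U = u.app U ≫ ι'.hom.app (op (q ⁻¹ᵁ U)) := huh U

include hC hC' hΦh in
theorem mem_domQ_comp_iff (x : (domQ uh pC' chartC' : Scheme.{u})) :
    (domQ uh pC' chartC').ι x ∈ domQ (comp hz uh) pC' chartC' ↔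
      Φh x ∈ RelCone.pointedProjCone 𝒮 hz pC chartC := by
  rw [mem_pointed_iff, mem_domQ_iff]
  constructor
  · rintro ⟨U, hU, U', hU', hle, d, hd, f, hf, hx⟩
    refine ⟨U, hU, d, hd, f, hf, (qmap_mem_cb_iff uh chartC chartC' hC hC' hΦh x U hU U' hU' hle
      (cb_le U' hU' _ hx) hd _ (hz.graded U hU d f hf)).2 ?_⟩
    rwa [gradedAt_comp uh ι hz.graded (comp hz uh) (fun _ => rfl)] at hx
  · rintro ⟨U, hU, d, hd, f, hf, hx⟩
    have h1 : pC (Φh x) ∈ U := cb_le U hU _ hx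
    rw [qmap_p_apply uh chartC chartC' hC hC' hΦh] at h1
    obtain ⟨U', hU', hxU', hle⟩ := exists_isAffineOpen_mem_and_subset (U := q ⁻¹ᵁ U) h1
    refine ⟨U, hU, U', hU', hle, d, hd, f, hf, ?_⟩
    rw [gradedAt_comp uh ι hz.graded (comp hz uh) (fun _ => rfl)]
    exact (qmap_mem_cb_iff uh chartC chartC' hC hC' hΦh x U hU U' hU' hle hxU' hd _ (hz.graded U hU d f hf)).1 hx

theorem uh_z (huhz : (uh.app ⊤).hom z = RelCone.restrictTop 𝒮h' z' (q ⁻¹ᵁ ⊤)) (U : Y.Opens) (U' : Y'.Opens)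
    (hle : U' ≤ q ⁻¹ᵁ U) :
    (uh.appLE U U' hle).hom (RelCone.restrictTop 𝒮h z U) = RelCone.restrictTop 𝒮h' z' U' := by
  rw [RelCone.restrictTop, ← CommRingCat.comp_apply, uh.map_appLE]
  change (𝒮h'.presheaf.map _).hom ((uh.app ⊤).hom z) = _
  rw [huhz]
  exact res_trans (𝒮 := 𝒮h') _ _ z'

include hz' huh hC hC' in
/-- When `Proj(u)` is everywhere defined the pointed cone maps into the pointed cone. -/
theorem pointed_le_domQ_comp {P' : Scheme.{u}} {p' : P' ⟶ Y'}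
    {chart' : ∀ (U : Y'.Opens) (hU : IsAffineOpen U), (((p' ⁻¹ᵁ U : P'.Opens) : Scheme.{u}) ≅ Proj (𝒮'.deg U hU))}
    (hP' : IsRelProj 𝒮' p' chart') (htop : domQ u p' chart' = ⊤) :
    RelCone.pointedProjCone 𝒮' hz' pC' chartC' ≤ domQ (comp hz uh) pC' chartC' := by
  rw [pointed_eq_domQ hz' chartC']
  intro x hx
  obtain ⟨r', hr'⟩ := exists_qmap (QGrHom.ofHom ι' hz'.graded) chart' chartC' hP' hC'
  obtain ⟨U, hU, W, hW, hle, d, hd, f, hf, hy⟩ :=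
    (mem_domQ_iff u chart' (r' ⟨x, hx⟩)).1 (htop ▸ Opens.mem_top _)
  have hxW : pC' x ∈ W := by
    have h1 := cb_le W hW _ hy
    change p' (r' ⟨x, hx⟩) ∈ W at h1
    rwa [qmap_p_apply (QGrHom.ofHom ι' hz'.graded) chart' chartC' hP' hC' hr'] at h1
  refine (mem_domQ_iff (comp hz uh) chartC' x).2 ⟨U, hU, W, hW, hle, d, hd, f, hf, ?_⟩
  rw [gradedAt_compTarget u ι' hz'.graded (comp hz uh) (comp_app hz u uh huh)]
  exact (qmap_mem_cb_iff (QGrHom.ofHom ι' hz'.graded) chart' chartC' hP' hC' hr' ⟨x, hx⟩ W hW W hW le_rfl hxW hd _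
    (gmem (u.gradedAt U hU W hW hle) hf)).1 hy

end Groth.Agent.H11QMap.PolyCone
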