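import Groth.Agent.H11QMap.Line
import Groth.Agent.H11Ample.Basic
import Groth.Agent.H11Tilde.ModLoc

/-!
# Sections of `L^{⊗n}` as elements of degree `n` of the symmetric algebra of `L`
-/

set_option autoImplicit false
set_option linter.style.haveILetI false

noncomputable section

universe u

open CategoryTheory CategoryTheory.Limits AlgebraicGeometry TopologicalSpace Opposite RelProj
open Groth.Agent.H11Sym Groth.Agent.H11Tilde Groth.Agent.H11Ample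

namespace Groth.Agent.H11QMap

variable {X : Scheme.{u}} {L : X.Modules} {𝒜 : QCGrAlg X} (j : L ⟶ 𝒜.toModule)

/-- The element `c e^n` of the algebra. -/
abbrev tval {V : X.Opens} (e : Γ(L, V)) (c : Γ(X, V)) (n : ℕ) : 𝒜.presheaf.obj (op V) :=
  astr 𝒜.toQCAlg V c * japp (B := 𝒜.toQCAlg) j V e ^ n

theorem ares_tval {V V' : X.Opens} (h : V' ≤ V) (e : Γ(L, V)) (c : Γ(X, V)) (n : ℕ) :
    ares 𝒜.toQCAlg h (tval j e c n) =
      tval j (L.presheaf.map (homOfLE h).op e) (X.presheaf.map (homOfLE h).op c) n := by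
  simp only [tval, map_mul, map_pow, ares_str, japp_res]

theorem mres_smul_spow {V V' : X.Opens} (h : V' ≤ V) (e : Γ(L, V)) (c : Γ(X, V)) (n : ℕ) :
    (CohB1.tensorPow L n).presheaf.map (homOfLE h).op (c • spow e n) =
      X.presheaf.map (homOfLE h).op c • spow (L.presheaf.map (homOfLE h).op e) n := by
  rw [Scheme.Modules.map_smul, spow_res]

theorem tval_eq_of_smul_eq {V : X.Opens} {e e' : Γ(L, V)} (he : IsGen L e) (c c' : Γ(X, V)) {n : ℕ}
    (h : c • spow e n = c' • spow e' n) : tval j e c n = tval j e' c' n := by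
  obtain ⟨a, rfl⟩ := exists_coeff he e'
  rw [spow_smul, smul_smul] at h
  have h' : c = c' * a ^ n := ((isGen_spow he n).bijective le_rfl).1 (by
    simpa only [H10Coh.mres_self] using h)
  rw [h', tval, tval, japp_smul, mul_pow, map_mul, map_pow, mul_assoc]

/-- `τ` is the element of the algebra given by the section `T` of `L^{⊗n}`. -/
def PowCorr (W : X.Opens) (n : ℕ) (T : Γ(CohB1.tensorPow L n, W)) (τ : 𝒜.presheaf.obj (op W)) : Prop :=
  ∀ (V : X.Opens) (hV : V ≤ W) (e : Γ(L, V)) (c : Γ(X, V)), IsGen L e →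
    (CohB1.tensorPow L n).presheaf.map (homOfLE hV).op T = c • spow e n →
      ares 𝒜.toQCAlg hV τ = tval j e c n

theorem exists_powCorr (hL : PicF.IsInvertible L) (W : X.Opens) (n : ℕ) (T : Γ(CohB1.tensorPow L n, W)) :
    ∃ τ, PowCorr j W n T τ := by
  have hloc : ∀ x : W, ∃ (V : X.Opens) (e : Γ(L, V)) (c : Γ(X, V)) (hV : V ≤ W), x.1 ∈ V ∧ IsGen L e ∧
      (CohB1.tensorPow L n).presheaf.map (homOfLE hV).op T = c • spow e n := by
    intro x
    obtain ⟨V, e, hxV, hVW, -, he⟩ := exists_trivial_nhd (L := L) hL x.2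
    obtain ⟨c, hc⟩ := exists_coeff (isGen_spow he n) ((CohB1.tensorPow L n).presheaf.map (homOfLE hVW).op T)
    exact ⟨V, e, c, hVW, hxV, he, hc⟩
  choose V e c hV hxV he hc using hloc
  have hcompat : TopCat.Presheaf.IsCompatible 𝒜.presheaf V (fun x => tval j (e x) (c x) n) := by
    intro a b
    change ares 𝒜.toQCAlg (inf_le_left : V a ⊓ V b ≤ V a) _ = ares 𝒜.toQCAlg (inf_le_right : V a ⊓ V b ≤ V b) _
    rw [ares_tval, ares_tval]
    refine tval_eq_of_smul_eq j ((he a).res _) _ _ ?_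
    rw [← mres_smul_spow, ← mres_smul_spow, ← hc, ← hc, H10Coh.mres_mres, H10Coh.mres_mres]
  obtain ⟨τ, hτ, -⟩ := TopCat.Sheaf.existsUnique_gluing' (⟨𝒜.presheaf, 𝒜.isSheaf⟩ : TopCat.Sheaf CommRingCat.{u} X)
    V W (fun x => homOfLE (hV x)) (fun x hx => Opens.mem_iSup.2 ⟨⟨x, hx⟩, hxV _⟩) _ hcompat
  refine ⟨τ, fun V' hV' e' c' he' hc' => eq_of_affine 𝒜.toQCAlg fun U hU i => ?_⟩
  refine TopCat.Sheaf.eq_of_locally_eq' (⟨𝒜.presheaf, 𝒜.isSheaf⟩ : TopCat.Sheaf CommRingCat.{u} X)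
    (fun x : W => U ⊓ V x) U (fun x => homOfLE inf_le_left)
    (fun x hx => Opens.mem_iSup.2 ⟨⟨x, hV' (i hx)⟩, hx, hxV _⟩) _ _ fun x => ?_
  change ares 𝒜.toQCAlg (inf_le_left : U ⊓ V x ≤ U) (ares 𝒜.toQCAlg i (ares 𝒜.toQCAlg hV' τ)) =
    ares 𝒜.toQCAlg (inf_le_left : U ⊓ V x ≤ U) (ares 𝒜.toQCAlg i (tval j e' c' n))
  have hτx : ares 𝒜.toQCAlg (hV x) τ = tval j (e x) (c x) n := hτ x
  rw [ares_ares, ares_ares, ares_ares, ares_tval, ← ares_ares 𝒜.toQCAlg (hV x) (inf_le_right : U ⊓ V x ≤ V x) τ, hτx,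
    ares_tval]
  refine tval_eq_of_smul_eq j ((he x).res _) _ _ ?_
  rw [← mres_smul_spow, ← mres_smul_spow, ← hc, ← hc', H10Coh.mres_mres, H10Coh.mres_mres]

theorem exists_powCorr_inv (hL : PicF.IsInvertible L) (hLq : Coh.IsQCoh L) (hj : IsGrSymAlg L 𝒜 j) (W : X.Opens)
    (n : ℕ) (τ : 𝒜.presheaf.obj (op W))
    (hτ : ∀ (V : X.Opens) (hV : IsAffineOpen V) (i : V ≤ W), ares 𝒜.toQCAlg i τ ∈ 𝒜.deg V hV n) :
    ∃ T, PowCorr j W n T τ := by
  have hloc : ∀ x : W, ∃ (V : X.Opens) (e : Γ(L, V)) (c : Γ(X, V)) (hV : V ≤ W), x.1 ∈ V ∧ IsGen L e ∧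
      ares 𝒜.toQCAlg hV τ = tval j e c n := by
    intro x
    obtain ⟨V, e, hxV, hVW, hVa, he⟩ := exists_trivial_nhd (L := L) hL x.2
    obtain ⟨c, hc⟩ := exists_eq_str_mul_pow hLq hj hVa he (hτ V hVa hVW)
    exact ⟨V, e, c, hVW, hxV, he, hc⟩
  choose V e c hV hxV he hc using hloc
  have hcompat : TopCat.Presheaf.IsCompatible (CohB1.tensorPow L n).presheaf V (fun x => c x • spow (e x) n) := by
    intro a b
    change (CohB1.tensorPow L n).presheaf.map (homOfLE (inf_le_left : V a ⊓ V b ≤ V a)).op _ =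
      (CohB1.tensorPow L n).presheaf.map (homOfLE (inf_le_right : V a ⊓ V b ≤ V b)).op _
    rw [mres_smul_spow, mres_smul_spow]
    refine eq_of_locally _ _ fun x hx => ?_
    obtain ⟨U, hU, hxU, hle'⟩ := exists_isAffineOpen_mem_and_subset (U := V a ⊓ V b) hx
    have hle : U ≤ V a ⊓ V b := hle'
    refine ⟨U, hle, hxU, ?_⟩
    rw [mres_smul_spow, mres_smul_spow, H10Coh.mres_mres, H10Coh.mres_mres]
    have hg := (he a).res (hle.trans inf_le_left)
    obtain ⟨t, ht⟩ := exists_coeff hg (L.presheaf.map (homOfLE (hle.trans inf_le_right)).op (e b))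
    rw [ht, spow_smul, smul_smul]
    refine congrArg (· • _) ?_
    have h : ares 𝒜.toQCAlg hle (ares 𝒜.toQCAlg (inf_le_left : V a ⊓ V b ≤ V a) (tval j (e a) (c a) n)) =
        ares 𝒜.toQCAlg hle (ares 𝒜.toQCAlg (inf_le_right : V a ⊓ V b ≤ V b) (tval j (e b) (c b) n)) := by
      rw [← hc, ← hc, ares_ares, ares_ares, ares_ares, ares_ares]
    rw [ares_tval, ares_tval, ares_tval, ares_tval, H10Coh.mres_mres, H10Coh.mres_mres, ht, tval, tval,
      japp_smul, mul_pow, ← mul_assoc, ← map_pow, ← map_mul] at h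
    exact sub_eq_zero.1 (str_mul_pow_eq_zero hLq hj hU hg (k := n) (by
      change astr 𝒜.toQCAlg U _ * _ = 0
      rw [map_sub, sub_mul, h, sub_self]))
  obtain ⟨T, hT, -⟩ := TopCat.Sheaf.existsUnique_gluing'
    ⟨(CohB1.tensorPow L n).presheaf, (CohB1.tensorPow L n).isSheaf⟩
    V W (fun x => homOfLE (hV x)) (fun x hx => Opens.mem_iSup.2 ⟨⟨x, hx⟩, hxV _⟩) _ hcompat
  refine ⟨T, fun V' hV' e' c' he' hc' => eq_of_affine 𝒜.toQCAlg fun U hU i => ?_⟩
  refine TopCat.Sheaf.eq_of_locally_eq' (⟨𝒜.presheaf, 𝒜.isSheaf⟩ : TopCat.Sheaf CommRingCat.{u} X)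
    (fun x : W => U ⊓ V x) U (fun x => homOfLE inf_le_left)
    (fun x hx => Opens.mem_iSup.2 ⟨⟨x, hV' (i hx)⟩, hx, hxV _⟩) _ _ fun x => ?_
  change ares 𝒜.toQCAlg (inf_le_left : U ⊓ V x ≤ U) (ares 𝒜.toQCAlg i (ares 𝒜.toQCAlg hV' τ)) =
    ares 𝒜.toQCAlg (inf_le_left : U ⊓ V x ≤ U) (ares 𝒜.toQCAlg i (tval j e' c' n))
  rw [ares_ares, ares_ares, ares_ares, ares_tval, ← ares_ares 𝒜.toQCAlg (hV x) (inf_le_right : U ⊓ V x ≤ V x) τ, hc,
    ares_tval]
  refine tval_eq_of_smul_eq j ((he x).res _) _ _ ?_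
  have hTx : (CohB1.tensorPow L n).presheaf.map (homOfLE (hV x)).op T = c x • spow (e x) n := hT x
  rw [← mres_smul_spow, ← mres_smul_spow, ← hTx, ← hc', H10Coh.mres_mres, H10Coh.mres_mres]

theorem PowCorr.mem_deg {W : X.Opens} {n : ℕ} {T : Γ(CohB1.tensorPow L n, W)} {τ : 𝒜.presheaf.obj (op W)}
    (h : PowCorr j W n T τ) (hL : PicF.IsInvertible L) (hj : IsGrSymAlg L 𝒜 j) {V : X.Opens} (hV : IsAffineOpen V)
    (i : V ≤ W) : ares 𝒜.toQCAlg i τ ∈ 𝒜.deg V hV n := by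
  classical
  rw [← DirectSum.sum_support_decompose (𝒜.deg V hV) (ares 𝒜.toQCAlg i τ)]
  refine sum_mem fun k _ => ?_
  rcases eq_or_ne k n with rfl | hk
  · exact (DirectSum.decompose (𝒜.deg V hV) (ares 𝒜.toQCAlg i τ) k).2
  suffices hz : (DirectSum.decompose (𝒜.deg V hV) (ares 𝒜.toQCAlg i τ) k : 𝒜.presheaf.obj (op V)) = 0 by
    rw [hz]
    exact zero_mem _
  have hloc : ∀ x : V, ∃ (B : X.Opens) (hB : IsAffineOpen B) (iB : B ≤ V), x.1 ∈ B ∧
      ares 𝒜.toQCAlg iB (ares 𝒜.toQCAlg i τ) ∈ 𝒜.deg B hB n := by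
    intro x
    obtain ⟨B, e, hxB, hBV, hB, he⟩ := exists_trivial_nhd (L := L) hL x.2
    obtain ⟨c, hc⟩ := exists_coeff (isGen_spow he n)
      ((CohB1.tensorPow L n).presheaf.map (homOfLE (hBV.trans i)).op T)
    refine ⟨B, hB, hBV, hxB, ?_⟩
    rw [ares_ares, h B (hBV.trans i) e c he hc]
    have := SetLike.mul_mem_graded (𝒜.str_mem B hB c) (SetLike.pow_mem_graded n (hj.2 B hB e))
    rwa [smul_eq_mul, mul_one, zero_add] at this
  choose B hB iB hxB hdeg using hloc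
  refine TopCat.Sheaf.eq_of_locally_eq' (⟨𝒜.presheaf, 𝒜.isSheaf⟩ : TopCat.Sheaf CommRingCat.{u} X) B V
    (fun x => homOfLE (iB x)) (fun x hx => Opens.mem_iSup.2 ⟨⟨x, hx⟩, hxB _⟩) _ _ fun x => ?_
  change 𝒜.res hV (hB x) (iB x) _ = (𝒜.presheaf.map (homOfLE (iB x)).op).hom 0
  rw [GradedRingHom.map_directSumDecompose, map_zero]
  exact DirectSum.decompose_of_mem_ne _ (hdeg x) (Ne.symm hk)

end Groth.Agent.H11QMap
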