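import Groth.Agent.H11QMap.Glue
import Groth.Agent.H11Proj.ProjMap

/-!
# The morphism `Proj(u) : G(u) → P`
-/

set_option autoImplicit false
set_option linter.style.haveILetI false

noncomputable section

universe u

open CategoryTheory CategoryTheory.Limits AlgebraicGeometry TopologicalSpace Opposite RelProj
open HomogeneousLocalization
open scoped HomogeneousIdeal

namespace Groth.Agent.H11QMap

variable {S S' P P' : Scheme.{u}} {g : S' ⟶ S} {𝒮 : QCGrAlg S} {𝒮' : QCGrAlg S'} (u : QGrHom g 𝒮 𝒮')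
  {p : P ⟶ S} (chart : ∀ (U : S.Opens) (hU : IsAffineOpen U), (((p ⁻¹ᵁ U : P.Opens) : Scheme.{u}) ≅ Proj (𝒮.deg U hU)))
  {p' : P' ⟶ S'}
  (chart' : ∀ (U' : S'.Opens) (hU' : IsAffineOpen U'), (((p' ⁻¹ᵁ U' : P'.Opens) : Scheme.{u}) ≅ Proj (𝒮'.deg U' hU')))

/-- The standard charts of `G(u)`. -/
structure Idx (v : QGrHom g 𝒮 𝒮') : Type u where
  U : S.affineOpens
  U' : S'.affineOpens
  hle : U'.1 ≤ g ⁻¹ᵁ U.1
  d : ℕ
  hd : 0 < d
  f : 𝒮.presheaf.obj (op U.1)
  hf : f ∈ 𝒮.deg U.1 U.2 d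

/-- The standard chart, lifted into `G(u)`. -/
def lchart (j : Idx u) :
    Spec (CommRingCat.of (Away (𝒮'.deg j.U'.1 j.U'.2) (u.gradedAt j.U.1 j.U.2 j.U'.1 j.U'.2 j.hle j.f))) ⟶
      (domQ u p' chart' : Scheme.{u}) :=
  IsOpenImmersion.lift (domQ u p' chart').ι (awayEmb u p' chart' j.U.1 j.U.2 j.U'.1 j.U'.2 j.hle j.hd j.f j.hf)
    (range_awayEmb_subset_domQ u p' chart' j.U.1 j.U.2 j.U'.1 j.U'.2 j.hle j.hd j.f j.hf)

@[reassoc]
theorem lchart_ι (j : Idx u) : lchart u chart' j ≫ (domQ u p' chart').ι =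
    awayEmb u p' chart' j.U.1 j.U.2 j.U'.1 j.U'.2 j.hle j.hd j.f j.hf :=
  IsOpenImmersion.lift_fac _ _ _

instance isOpenImmersion_lchart (j : Idx u) : IsOpenImmersion (lchart u chart' j) := by
  haveI : IsOpenImmersion (lchart u chart' j ≫ (domQ u p' chart').ι) := by
    rw [lchart_ι]; infer_instance
  exact IsOpenImmersion.of_comp _ (domQ u p' chart').ι

theorem ι_lchart_apply (j : Idx u) (y) : (domQ u p' chart').ι (lchart u chart' j y) =
    awayEmb u p' chart' j.U.1 j.U.2 j.U'.1 j.U'.2 j.hle j.hd j.f j.hf y := by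
  rw [← Scheme.Hom.comp_apply, lchart_ι]

theorem exists_lchart_eq (z : (domQ u p' chart' : Scheme.{u})) : ∃ (j : Idx u) (y : _), lchart u chart' j y = z := by
  obtain ⟨U, hU, U', hU', hle, d, hd, f, hf, hz⟩ := (mem_domQ_iff u chart' _).1 z.2
  rw [← opensRange_awayEmb u chart' U hU U' hU' hle hd f hf] at hz
  obtain ⟨y, hy⟩ := hz
  refine ⟨⟨⟨U, hU⟩, ⟨U', hU'⟩, hle, d, hd, f, hf⟩, y, (domQ u p' chart').ι.isOpenEmbedding.injective ?_⟩
  rw [ι_lchart_apply]
  exact hy

theorem preimage_opensRange_comp {X Y Z : Scheme.{u}} (a : X ⟶ Y) (b : Y ⟶ Z) (c : X ⟶ Z) [IsOpenImmersion a]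
    [IsOpenImmersion b] [IsOpenImmersion c] (h : a ≫ b = c) : b ⁻¹ᵁ c.opensRange = a.opensRange := by
  subst h
  rw [Scheme.Hom.opensRange_comp, Scheme.Hom.preimage_image_eq]

theorem opensRange_lchart (j : Idx u) : (lchart u chart' j).opensRange =
    (domQ u p' chart').ι ⁻¹ᵁ cb chart' j.U'.1 j.U'.2 (u.gradedAt j.U.1 j.U.2 j.U'.1 j.U'.2 j.hle j.f) := by
  rw [← opensRange_awayEmb u chart' j.U.1 j.U.2 j.U'.1 j.U'.2 j.hle j.hd j.f j.hf]
  exact (preimage_opensRange_comp _ _ _ (lchart_ι u chart' j)).symm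

/-- The cover of `G(u)` by the standard charts. -/
def domCover : (domQ u p' chart' : Scheme.{u}).OpenCover :=
  .mkOfCovers (Idx u) (fun j => Spec (CommRingCat.of (Away (𝒮'.deg j.U'.1 j.U'.2)
    (u.gradedAt j.U.1 j.U.2 j.U'.1 j.U'.2 j.hle j.f)))) (fun j => lchart u chart' j)
    (fun z => by
      obtain ⟨j, y, hy⟩ := exists_lchart_eq u chart' z
      exact ⟨j, y, hy⟩)
    (fun j => isOpenImmersion_lchart u chart' j)

theorem isProjQMapOn_iff (r : (domQ u p' chart' : Scheme.{u}) ⟶ P) :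
    IsProjQMapOn u p chart p' chart' (domQ u p' chart') r ↔
      ∀ j : Idx u, lchart u chart' j ≫ r = tMap u chart j.U.1 j.U.2 j.U'.1 j.U'.2 j.hle j.hd j.f j.hf :=
  ⟨fun h j => h j.U.1 j.U.2 j.U'.1 j.U'.2 j.hle j.d j.hd j.f j.hf _,
    fun h U hU U' hU' hle d hd f hf _ => h ⟨⟨U, hU⟩, ⟨U', hU'⟩, hle, d, hd, f, hf⟩⟩

theorem qmap_unique {r r' : (domQ u p' chart' : Scheme.{u}) ⟶ P}
    (hr : IsProjQMapOn u p chart p' chart' (domQ u p' chart') r)
    (hr' : IsProjQMapOn u p chart p' chart' (domQ u p' chart') r') : r = r' :=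
  (domCover u chart').hom_ext _ _ fun j =>
    ((isProjQMapOn_iff u chart chart' r).1 hr j).trans ((isProjQMapOn_iff u chart chart' r').1 hr' j).symm

variable (hP : IsRelProj 𝒮 p chart) (hP' : IsRelProj 𝒮' p' chart')
include hP hP'

theorem exists_qmap : ∃ r, IsProjQMapOn u p chart p' chart' (domQ u p' chart') r := by
  let t : ∀ j : Idx u, Spec (CommRingCat.of (Away (𝒮'.deg j.U'.1 j.U'.2)
      (u.gradedAt j.U.1 j.U.2 j.U'.1 j.U'.2 j.hle j.f))) ⟶ P :=
    fun j => tMap u chart j.U.1 j.U.2 j.U'.1 j.U'.2 j.hle j.hd j.f j.hf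
  have agree : ∀ j k : Idx u, pullback.fst (lchart u chart' j) (lchart u chart' k) ≫ t j =
      pullback.snd (lchart u chart' j) (lchart u chart' k) ≫ t k := by
    intro j k
    let π := pullback (lchart u chart' j) (lchart u chart' k)
    have hc : ∀ w : π, ∃ (T : Scheme.{u}) (m : T ⟶ π) (_ : IsOpenImmersion m), w ∈ m.opensRange ∧
        m ≫ pullback.fst _ _ ≫ t j = m ≫ pullback.snd _ _ ≫ t k := by
      intro w
      let z := (domQ u p' chart').ι (lchart u chart' j (pullback.fst (lchart u chart' j) (lchart u chart' k) w))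
      have hzj : z ∈ cb chart' j.U'.1 j.U'.2 (u.gradedAt j.U.1 j.U.2 j.U'.1 j.U'.2 j.hle j.f) := by
        rw [← opensRange_awayEmb u chart' j.U.1 j.U.2 j.U'.1 j.U'.2 j.hle j.hd j.f j.hf]
        exact ⟨_, (ι_lchart_apply u chart' j _).symm⟩
      have hzk : z ∈ cb chart' k.U'.1 k.U'.2 (u.gradedAt k.U.1 k.U.2 k.U'.1 k.U'.2 k.hle k.f) := by
        rw [← opensRange_awayEmb u chart' k.U.1 k.U.2 k.U'.1 k.U'.2 k.hle k.hd k.f k.hf]
        refine ⟨pullback.snd (lchart u chart' j) (lchart u chart' k) w, (ι_lchart_apply u chart' k _).symm.trans ?_⟩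
        refine congrArg (domQ u p' chart').ι ?_
        rw [← Scheme.Hom.comp_apply, ← Scheme.Hom.comp_apply, pullback.condition]
      obtain ⟨T, c, hc, σ₁, σ₂, h1, h2, h3, hz⟩ := exists_common u chart chart' hP hP' j.U.1 j.U.2 j.U'.1 j.U'.2
        j.hle j.hd j.f j.hf k.U.1 k.U.2 k.U'.1 k.U'.2 k.hle k.hd k.f k.hf hzj hzk
      have hlift : σ₁ ≫ lchart u chart' j = σ₂ ≫ lchart u chart' k := by
        rw [← cancel_mono (domQ u p' chart').ι, Category.assoc, Category.assoc, lchart_ι, lchart_ι, h1, h2]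
      let m : T ⟶ π := pullback.lift σ₁ σ₂ hlift
      have hm : m ≫ pullback.fst _ _ ≫ lchart u chart' j ≫ (domQ u p' chart').ι = c := by
        rw [← Category.assoc m, pullback.lift_fst, lchart_ι, h1]
      haveI : IsOpenImmersion (m ≫ pullback.fst _ _ ≫ lchart u chart' j ≫ (domQ u p' chart').ι) := by
        rw [hm]; exact hc
      haveI : IsOpenImmersion m :=
        IsOpenImmersion.of_comp m (pullback.fst _ _ ≫ lchart u chart' j ≫ (domQ u p' chart').ι)
      refine ⟨T, m, inferInstance, ?_, ?_⟩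
      · obtain ⟨y, hy⟩ := hz
        refine ⟨y, (pullback.fst (lchart u chart' j) (lchart u chart' k) ≫ lchart u chart' j ≫
          (domQ u p' chart').ι).isOpenEmbedding.injective ?_⟩
        rw [← Scheme.Hom.comp_apply, hm, hy]
        simp only [Scheme.Hom.comp_apply]
        rfl
      · rw [← Category.assoc, pullback.lift_fst, ← Category.assoc m, pullback.lift_snd]
        exact h3
    choose T m hm hmem heq using hc
    exact (Scheme.Cover.hom_ext (Scheme.Cover.mkOfCovers (P := @IsOpenImmersion) π T m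
      (fun w => by obtain ⟨y, hy⟩ := hmem w; exact ⟨w, y, hy⟩) hm) _ _ heq)
  exact ⟨(domCover u chart').glueMorphisms t agree, (isProjQMapOn_iff u chart chart' _).2
    fun j => (domCover u chart').ι_glueMorphisms t agree j⟩

omit hP' in
theorem awayι_emb_p (U : S.Opens) (hU : IsAffineOpen U) {d : ℕ} (hd : 0 < d) (f : 𝒮.presheaf.obj (op U))
    (hf : f ∈ 𝒮.deg U hU d) :
    Proj.awayι (𝒮.deg U hU) f hf hd ≫ emb p chart U hU ≫ p =
      Spec.map (𝒮.strZero U hU ≫ CommRingCat.ofHom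
        (HomogeneousLocalization.fromZeroRingHom (𝒮.deg U hU) (Submonoid.powers f))) ≫ hU.fromSpec := by
  refine (congrArg (_ ≫ ·) (emb_comp_p hP U hU)).trans ?_
  rw [Spec.map_comp, Category.assoc]
  exact (Category.assoc _ _ _).symm.trans
    ((congrArg (· ≫ (Spec.map (𝒮.strZero U hU) ≫ hU.fromSpec)) (Proj.awayι_toSpecZero (𝒮.deg U hU) f hf hd)))

/-- `Proj(u)` lies over the morphism of bases. -/
theorem qmap_over {r : (domQ u p' chart' : Scheme.{u}) ⟶ P}
    (hr : IsProjQMapOn u p chart p' chart' (domQ u p' chart') r) :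
    r ≫ p = (domQ u p' chart').ι ≫ p' ≫ g := by
  refine (domCover u chart').hom_ext _ _ fun j => ?_
  change lchart u chart' j ≫ r ≫ p = lchart u chart' j ≫ (domQ u p' chart').ι ≫ p' ≫ g
  obtain ⟨⟨U, hU⟩, ⟨U', hU'⟩, hle, d, hd, f, hf⟩ := j
  have hf' := (u.gradedAt U hU U' hU' hle).2 hf
  rw [reassoc_of% ((isProjQMapOn_iff u chart chart' r).1 hr _), lchart_ι_assoc]
  simp only [tMap, awayEmb, Category.assoc]
  refine (congrArg (_ ≫ ·) (awayι_emb_p chart hP U hU hd f hf)).trans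
    (Eq.trans ?_ ((Category.assoc _ _ _).trans ((congrArg (_ ≫ ·) (Category.assoc _ _ _)))))
  refine Eq.trans ?_ (congrArg (· ≫ g) (awayι_emb_p chart' hP' U' hU' hd _ hf')).symm
  refine Eq.trans ?_ (Category.assoc _ _ _).symm
  refine Eq.trans ?_ (congrArg (_ ≫ ·) (IsAffineOpen.SpecMap_appLE_fromSpec g hU hU' hle))
  refine (Category.assoc _ _ _).symm.trans (Eq.trans ?_ (Category.assoc _ _ _))
  refine congrArg (· ≫ hU.fromSpec) ?_
  rw [← Spec.map_comp, ← Spec.map_comp]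
  refine congrArg Spec.map (CommRingCat.hom_ext (RingHom.ext fun a => HomogeneousLocalization.val_injective _ ?_))
  have h := ConcreteCategory.congr_hom (u.str_appLE U U' hle) a
  change HomogeneousLocalization.val (Away.map (u.gradedAt U hU U' hU' hle) f
      (HomogeneousLocalization.fromZeroRingHom _ (Submonoid.powers f) ((𝒮.strZero U hU).hom a))) =
    HomogeneousLocalization.val (HomogeneousLocalization.fromZeroRingHom _
      (Submonoid.powers (u.gradedAt U hU U' hU' hle f)) ((𝒮'.strZero U' hU').hom ((g.appLE U U' hle).hom a)))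
  refine congrArg HomogeneousLocalization.val ((H11Proj.away_map_fromZero _ _ _).trans (congrArg _ ?_))
  exact Subtype.ext h

end Groth.Agent.H11QMap
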