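import Groth.Agent.H11QMap.PowBridge
import Groth.Agent.H11QMap.LineImmU
import Groth.Agent.H11Ample.Restrict
import Groth.Agent.H11Ample.RelAmple

/-!
# Sections of powers of a relatively ample module as elements of `f_* Sym L`
-/

set_option autoImplicit false
set_option linter.style.haveILetI false

noncomputable section

universe u

open CategoryTheory CategoryTheory.Limits AlgebraicGeometry TopologicalSpace Opposite RelProj
open HomogeneousLocalization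
open scoped HomogeneousIdeal
open Groth.Agent.H11Sym Groth.Agent.H11Tilde Groth.Agent.H11Ample

namespace Groth.Agent.H11QMap

variable {X Y P PL : Scheme.{u}} {q : X ⟶ Y} {L : X.Modules} {𝒮 : QCGrAlg Y} {𝒮L : QCGrAlg X}
  {j : L ⟶ 𝒮L.toModule} (u : QGrHom q 𝒮 𝒮L)
  {p : P ⟶ Y} {chart : ∀ (U : Y.Opens) (hU : IsAffineOpen U), (((p ⁻¹ᵁ U : P.Opens) : Scheme.{u}) ≅ Proj (𝒮.deg U hU))}
  {pL : PL ⟶ X}
  {chartL : ∀ (U : X.Opens) (hU : IsAffineOpen U), (((pL ⁻¹ᵁ U : PL.Opens) : Scheme.{u}) ≅ Proj (𝒮L.deg U hU))}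

variable (j) in
/-- A section of a power of `L|W` gives an element of the algebra over `W`. -/
theorem exists_corr_restrict (hL : PicF.IsInvertible L) (hj : IsGrSymAlg L 𝒮L j) (W : X.Opens) (n : ℕ)
    (t : Γ(CohB1.tensorPow (L.restrict W.ι) n, ⊤)) :
    ∃ τ : 𝒮L.presheaf.obj (op W),
      (∀ (V : X.Opens) (hV : IsAffineOpen V) (i : V ≤ W), ares 𝒮L.toQCAlg i τ ∈ 𝒮L.deg V hV n) ∧
      ∀ (VW : W.toScheme.Opens) (e : Γ(L.restrict W.ι, VW)) (c : Γ(W.toScheme, VW))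
        (i : W.ι ''ᵁ VW ≤ W),
        IsGen L (toImg W L e) →
        (CohB1.tensorPow (L.restrict W.ι) n).presheaf.map (homOfLE (le_top : VW ≤ ⊤)).op t = c • spow e n →
        ares 𝒮L.toQCAlg i τ = tval j (toImg W L e) (show Γ(X, W.ι ''ᵁ VW) from c) n := by
  obtain ⟨ρ, hρ⟩ := exists_hom_tensorPow_restrict W L n
  obtain ⟨τ₀, hτ₀⟩ := exists_powCorr j hL (W.ι ''ᵁ ⊤) n (toImg W _ (ρ.app ⊤ t))
  have hW : W ≤ W.ι ''ᵁ ⊤ := by
    rw [Scheme.Hom.image_top_eq_opensRange, Scheme.Opens.opensRange_ι]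
  refine ⟨ares 𝒮L.toQCAlg hW τ₀, fun V hV i => ?_, fun VW e c i he ht => ?_⟩
  · rw [ares_ares]
    exact hτ₀.mem_deg j hL hj hV _
  · rw [ares_ares]
    refine hτ₀ _ _ _ _ he ?_
    rw [← toImg_res W _ (le_top : VW ≤ ⊤) (ρ.app ⊤ t), ← app_map_apply, ht, Scheme.Modules.Hom.app_smul,
      toImg_smul, Scheme.Opens.ι_appIso, hρ]
    rfl

variable (hPL : IsRelProj 𝒮L pL chartL) (hL : PicF.IsInvertible L) (hLq : Coh.IsQCoh L) (hj : IsGrSymAlg L 𝒮L j)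
variable {U : Y.Opens} (hU : IsAffineOpen U)
include hPL hL hLq hj

/-- Where an element given by a coefficient generates. -/
theorem mem_tlocU_iff_basicOpen {n : ℕ} (hn : 0 < n) {a : 𝒮.presheaf.obj (op U)} (ha : a ∈ 𝒮.deg U hU n)
    {V : X.Opens} (hV : IsAffineOpen V) (hVW : V ≤ q ⁻¹ᵁ U) {e : Γ(L, V)} (he : IsGen L e) {c : Γ(X, V)}
    (hc : ares 𝒮L.toQCAlg hVW ((u.app U).hom a) = tval j e c n) {x : X} (hx : x ∈ V) :
    x ∈ LocU.tlocU u U a n ↔ x ∈ X.basicOpen c := by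
  haveI := isIso_pL hPL hL hLq hj
  have key : ∀ (V' : X.Opens) (i : V' ≤ V), (u.appLE U V' (i.trans hVW)).hom a =
      tval j (L.presheaf.map (homOfLE i).op e) (X.presheaf.map (homOfLE i).op c) n := fun V' i => by
    rw [← ares_tval, ← hc, ares_ares]
    rfl
  constructor
  · intro h
    obtain ⟨W', hW', hxW', hle⟩ := exists_isAffineOpen_mem_and_subset (U := V ⊓ LocU.tlocU u U a n) (x := x) ⟨hx, h⟩
    have i : W' ≤ V := fun w hw => (hle hw).1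
    have hWs : W' ≤ LocU.tlocU u U a n := fun w hw => (hle hw).2
    have h1 := LocU.cb_tloc u hU hPL hL hLq hj hn hW' hWs (chartL := chartL)
    rw [QGrHom.gradedAt_apply, key W' i] at h1
    have h2 := (cb_str_mul_pow hPL hLq hj hW' (he.res i) (X.presheaf.map (homOfLE i).op c) hn).symm.trans h1
    obtain ⟨z, rfl⟩ := pL.surjective x
    have h3 : pL z ∈ X.basicOpen ((X.presheaf.map (homOfLE i).op).hom c) := h2.ge hxW'
    rw [Scheme.basicOpen_res] at h3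
    exact h3.2
  · intro h
    refine Opens.mem_iSup.2 ⟨⟨⟨X.basicOpen c, hV.basicOpen c⟩, (X.basicOpen_le c).trans hVW, fun b hb => ?_⟩, h⟩
    obtain ⟨c', hc'⟩ := exists_eq_str_mul_pow hLq hj (hV.basicOpen c) (he.res (X.basicOpen_le c)) hb
    obtain ⟨v, hv⟩ : IsUnit ((X.presheaf.map (homOfLE (X.basicOpen_le c)).op).hom c) :=
      RingedSpace.isUnit_res_basicOpen _ c
    refine Ideal.mem_span_singleton.2 ⟨astr 𝒮L.toQCAlg _ (c' * ↑v⁻¹), ?_⟩
    rw [hc', key _ (X.basicOpen_le c), tval, ← hv]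
    change astr 𝒮L.toQCAlg _ c' * _ = _
    have h2 : astr 𝒮L.toQCAlg (X.basicOpen c) ↑v * astr 𝒮L.toQCAlg (X.basicOpen c) ↑v⁻¹ = 1 := by
      rw [← map_mul, Units.mul_inv, map_one]
    rw [map_mul]
    linear_combination (-(astr 𝒮L.toQCAlg (X.basicOpen c) c' *
      japp (B := 𝒮L.toQCAlg) j (X.basicOpen c) (L.presheaf.map (homOfLE (X.basicOpen_le c)).op e) ^ n)) * h2

omit hPL hL hLq hj in
/-- Elements which are of degree `n` after pulling back are of degree `n`. -/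
theorem mem_deg_of_app (hinj : Function.Injective (u.app U).hom) {n : ℕ} {a : 𝒮.presheaf.obj (op U)}
    (ha : ∀ (V : X.Opens) (hV : IsAffineOpen V) (i : V ≤ q ⁻¹ᵁ U),
      ares 𝒮L.toQCAlg i ((u.app U).hom a) ∈ 𝒮L.deg V hV n) : a ∈ 𝒮.deg U hU n := by
  classical
  rw [← DirectSum.sum_support_decompose (𝒮.deg U hU) a]
  refine sum_mem fun k _ => ?_
  rcases eq_or_ne k n with rfl | hk
  · exact (DirectSum.decompose (𝒮.deg U hU) a k).2
  suffices hz : (DirectSum.decompose (𝒮.deg U hU) a k : 𝒮.presheaf.obj (op U)) = 0 by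
    rw [hz]
    exact zero_mem _
  refine hinj (eq_of_affine 𝒮L.toQCAlg fun V hV i => ?_)
  rw [map_zero, map_zero]
  refine (H11Proj.map_proj (u.gradedAt U hU V hV i) a k).trans ?_
  exact DirectSum.decompose_of_mem_ne _ (ha V hV i) (Ne.symm hk)

/-- A fraction vanishing on the locus of `s` vanishes, as the preimage of `U` is quasi-compact. -/
theorem exists_pow_mul_eq_zero_of_locus [QuasiCompact q] (hinj : Function.Injective (u.app U).hom) {n : ℕ}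
    (hn : 0 < n) {s : 𝒮.presheaf.obj (op U)} (hs : s ∈ 𝒮.deg U hU n) {k : ℕ} {a : 𝒮.presheaf.obj (op U)}
    (ha : a ∈ 𝒮.deg U hU k) (h : (u.appLE U (LocU.tlocU u U s n) (LocU.tlocU_le u le_rfl)).hom a = 0) :
    ∃ N : ℕ, s ^ N * a = 0 := by
  haveI : CompactSpace ↥(q ⁻¹ᵁ U) :=
    isCompact_iff_compactSpace.1 (q.isCompact_preimage (U := U) hU.isCompact)
  have hloc : ∀ x : ↥(q ⁻¹ᵁ U), ∃ (B : X.Opens) (hB : B ≤ q ⁻¹ᵁ U) (N : ℕ), x.1 ∈ B ∧
      ∀ N', N ≤ N' → (u.appLE U B hB).hom (s ^ N' * a) = 0 := by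
    intro x
    obtain ⟨B, e, hxB, hBW, hB, he⟩ := exists_trivial_nhd (L := L) hL x.2
    obtain ⟨cs, hcs⟩ := exists_eq_str_mul_pow hLq hj hB he (gmem (u.gradedAt U hU B hB hBW) hs)
    obtain ⟨ca, hca⟩ := exists_eq_str_mul_pow hLq hj hB he (gmem (u.gradedAt U hU B hB hBW) ha)
    have hD : X.basicOpen cs ≤ LocU.tlocU u U s n := fun y hy =>
      (mem_tlocU_iff_basicOpen u hPL hL hLq hj hU hn hs hB hBW he hcs (X.basicOpen_le cs hy)).2 hy
    have h0 : X.presheaf.map (homOfLE (X.basicOpen_le cs)).op ca = 0 := by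
      refine str_mul_pow_eq_zero hLq hj (hB.basicOpen cs) (he.res (X.basicOpen_le cs)) (k := k) ?_
      refine (ares_tval j (X.basicOpen_le cs) e ca k).symm.trans ?_
      have h1 := congrArg (ares 𝒮L.toQCAlg hD) h
      rw [map_zero] at h1
      have hcaB : (u.appLE U B hBW).hom a = tval j e ca k := hca
      rw [← hcaB]
      refine Eq.trans ?_ h1
      exact (ConcreteCategory.congr_hom (u.appLE_map hBW (X.basicOpen_le cs)) a).trans
        (ConcreteCategory.congr_hom (u.appLE_map (LocU.tlocU_le u le_rfl) hD) a).symm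
    letI := (X.presheaf.map (homOfLE (X.basicOpen_le cs)).op).hom.toAlgebra
    haveI : IsLocalization.Away cs Γ(X, X.basicOpen cs) := hB.isLocalization_basicOpen cs
    obtain ⟨⟨_, N, rfl⟩, hN⟩ := (IsLocalization.map_eq_zero_iff (Submonoid.powers cs) Γ(X, X.basicOpen cs) ca).1 h0
    refine ⟨B, hBW, N, hxB, fun N' hN' => ?_⟩
    rw [map_mul, map_pow]
    change u.gradedAt U hU B hB hBW s ^ N' * u.gradedAt U hU B hB hBW a = 0
    rw [hcs, hca, mul_pow, mul_mul_mul_comm, ← map_pow, ← map_mul, ← Nat.sub_add_cancel hN', pow_add, mul_assoc,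
      show cs ^ N * ca = 0 from hN, mul_zero, map_zero, zero_mul]
  choose B hB N hxB hN using hloc
  obtain ⟨F, hF⟩ := isCompact_univ.elim_finite_subcover (fun x => {y : ↥(q ⁻¹ᵁ U) | y.1 ∈ B x})
    (fun x => (B x).2.preimage continuous_subtype_val) (fun x _ => Set.mem_iUnion.2 ⟨x, hxB x⟩)
  refine ⟨F.sup N, hinj (eq_of_affine 𝒮L.toQCAlg fun V hV i => ?_)⟩
  rw [map_zero, map_zero]
  refine TopCat.Sheaf.eq_of_locally_eq' (⟨𝒮L.presheaf, 𝒮L.isSheaf⟩ : TopCat.Sheaf CommRingCat.{u} X)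
    (fun x : {x // x ∈ F} => V ⊓ B x.1) V (fun x => homOfLE inf_le_left) (fun y hy => ?_) _ _ fun x => ?_
  · obtain ⟨x, hx, hyx⟩ := Set.mem_iUnion₂.1 (hF (Set.mem_univ (⟨y, i hy⟩ : ↥(q ⁻¹ᵁ U))))
    exact Opens.mem_iSup.2 ⟨⟨x, hx⟩, hy, hyx⟩
  · change ares 𝒮L.toQCAlg _ (ares 𝒮L.toQCAlg i _) = ares 𝒮L.toQCAlg _ 0
    rw [map_zero, ares_ares, ← ares_ares 𝒮L.toQCAlg (hB x.1) (inf_le_right : V ⊓ B x.1 ≤ B x.1)]
    exact (congrArg (ares 𝒮L.toQCAlg _) (hN x.1 _ (Finset.le_sup x.2))).trans (map_zero _)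

omit hPL hLq hj in
include hL in
theorem exists_trivial_restrict {W : X.Opens} {k : ℕ} (t : Γ(CohB1.tensorPow (L.restrict W.ι) k, ⊤))
    (y : W.toScheme) {O : W.toScheme.Opens} (hy : y ∈ O) :
    ∃ (VW : W.toScheme.Opens) (_ : W.ι ''ᵁ VW ≤ W) (e : Γ(L.restrict W.ι, VW)) (c : Γ(W.toScheme, VW)),
      y ∈ VW ∧ VW ≤ O ∧ IsAffineOpen (W.ι ''ᵁ VW) ∧ IsGen L (toImg W L e) ∧ IsGen (L.restrict W.ι) e ∧
        (CohB1.tensorPow (L.restrict W.ι) k).presheaf.map (homOfLE (le_top : VW ≤ ⊤)).op t = c • spow e k := by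
  obtain ⟨B, e₀, hyB, hBO, hB, he₀⟩ := exists_trivial_nhd (L := L) hL (V := W.ι ''ᵁ O) (x := W.ι y) ⟨y, hy, rfl⟩
  have himg : W.ι ''ᵁ (W.ι ⁻¹ᵁ B) = B := by
    rw [Scheme.Hom.image_preimage_eq_opensRange_inf, inf_eq_right]
    exact hBO.trans (Scheme.Hom.image_le_opensRange _ _)
  have hle : W.ι ''ᵁ (W.ι ⁻¹ᵁ B) ≤ B := himg.le
  have hge := isGen_restrict W he₀ hle
  obtain ⟨c, hc⟩ := exists_coeff (isGen_spow hge k)
    ((CohB1.tensorPow (L.restrict W.ι) k).presheaf.map (homOfLE (le_top : W.ι ⁻¹ᵁ B ≤ ⊤)).op t)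
  refine ⟨W.ι ⁻¹ᵁ B, ?_, _, c, hyB, fun z hz => ?_, by rw [himg]; exact hB, he₀.res hle, hge, hc⟩
  · rw [himg]
    exact hBO.trans ((Scheme.Hom.image_le_opensRange _ _).trans (Scheme.Opens.opensRange_ι W).le)
  · obtain ⟨z', hz', he⟩ := hBO hz
    exact W.ι.isOpenEmbedding.injective he ▸ hz'

/-- The locus of a section of `(L|W)^{⊗k}` is the locus of the corresponding element. -/
theorem mem_tlocU_iff_gen {k : ℕ} (hk : 0 < k) {a : 𝒮.presheaf.obj (op U)} (hak : a ∈ 𝒮.deg U hU k)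
    (t : Γ(CohB1.tensorPow (L.restrict (q ⁻¹ᵁ U).ι) k, ⊤))
    (hτ : ∀ (VW : (q ⁻¹ᵁ U).toScheme.Opens) (e : Γ(L.restrict (q ⁻¹ᵁ U).ι, VW))
      (c : Γ((q ⁻¹ᵁ U).toScheme, VW)) (i : (q ⁻¹ᵁ U).ι ''ᵁ VW ≤ q ⁻¹ᵁ U),
      IsGen L (toImg (q ⁻¹ᵁ U) L e) →
      (CohB1.tensorPow (L.restrict (q ⁻¹ᵁ U).ι) k).presheaf.map (homOfLE (le_top : VW ≤ ⊤)).op t = c • spow e k →
      ares 𝒮L.toQCAlg i ((u.app U).hom a) =
        tval j (toImg (q ⁻¹ᵁ U) L e) (show Γ(X, (q ⁻¹ᵁ U).ι ''ᵁ VW) from c) k)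
    (y : (q ⁻¹ᵁ U).toScheme) :
    (q ⁻¹ᵁ U).ι y ∈ LocU.tlocU u U a k ↔ y ∈ gen (CohB1.tensorPow (L.restrict (q ⁻¹ᵁ U).ι) k) t := by
  let W : X.Opens := q ⁻¹ᵁ U
  let G : W.toScheme.Opens := gen (CohB1.tensorPow (L.restrict W.ι) k) t
  obtain ⟨VW, hVW, e, c, hy, -, hVaff, he, he', hc⟩ := exists_trivial_restrict hL (L := L) t y (O := ⊤) trivial
  refine (mem_tlocU_iff_basicOpen u hPL hL hLq hj hU hk hak hVaff hVW he (hτ VW e c hVW he hc) ⟨y, hy, rfl⟩).trans ?_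
  have h1 := gen_inf_eq_basicOpen (isGen_spow he' k) t c hc
  have h2 : W.ι ''ᵁ W.toScheme.basicOpen c = X.basicOpen (show Γ(X, W.ι ''ᵁ VW) from c) := by
    rw [Scheme.image_basicOpen, Scheme.Opens.ι_appIso]
    rfl
  rw [← h2]
  constructor
  · rintro ⟨z, hz, he⟩
    rw [← W.ι.isOpenEmbedding.injective he]
    exact (h1.ge hz).1
  · exact fun hyG => ⟨y, h1.le ⟨hyG, hy⟩, rfl⟩

/-- An affine locus of a section of a power of an ample restriction, with its fractions. -/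
theorem exists_tlocU_of_isAmple [QuasiCompact q] (hbij : Function.Bijective (u.app U).hom)
    (hA : CohB1.IsAmple (L.restrict (q ⁻¹ᵁ U).ι)) {x : X} (hx : q x ∈ U) :
    ∃ (k : ℕ) (hk : 0 < k) (a : 𝒮.presheaf.obj (op U)) (_ : a ∈ 𝒮.deg U hU k)
      (hW : IsAffineOpen (LocU.tlocU u U a k)), x ∈ LocU.tlocU u U a k ∧
        LocU.fracSub u hU hW le_rfl (s := a) (n := k) = ⊤ := by
  let W : X.Opens := q ⁻¹ᵁ U
  obtain ⟨hLW, hc, hW'⟩ := isAmple_iff.1 hA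
  haveI := hc
  haveI := quasiSeparatedSpace_of_isAmple hA
  obtain ⟨k, t, hk, hxt, haff⟩ := hW' ⟨x, hx⟩
  obtain ⟨τ, hτd, hτ⟩ := exists_corr_restrict j hL hj W k t
  obtain ⟨a, rfl⟩ := hbij.2 τ
  have hak : a ∈ 𝒮.deg U hU k := mem_deg_of_app u hU hbij.1 hτd
  let G : W.toScheme.Opens := gen (CohB1.tensorPow (L.restrict W.ι) k) t
  have hmem := fun y => mem_tlocU_iff_gen u hPL hL hLq hj hU hk hak t hτ y
  have hG : W.ι ''ᵁ G = LocU.tlocU u U a k := by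
    ext z
    constructor
    · rintro ⟨y, hy, rfl⟩
      exact (hmem y).2 hy
    · intro hz
      exact ⟨⟨z, LocU.tlocU_le u le_rfl hz⟩, (hmem ⟨z, LocU.tlocU_le u le_rfl hz⟩).1 hz, rfl⟩
  have hW : IsAffineOpen (LocU.tlocU u U a k) := hG ▸ haff.image_of_isOpenImmersion W.ι
  refine ⟨k, hk, a, hak, hW, (hmem ⟨x, hx⟩).2 hxt, eq_top_iff.2 fun g _ => ?_⟩
  let gW : Γ(W.toScheme, G) := X.presheaf.map (homOfLE hG.le).op g
  obtain ⟨N, hN⟩ := exists_extend_fun hLW k t gW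
  obtain ⟨S, hS⟩ := hN N le_rfl
  obtain ⟨σ, hσd, hσ⟩ := exists_corr_restrict j hL hj W (N * k) S
  obtain ⟨b, rfl⟩ := hbij.2 σ
  refine (LocU.mem_fracSub_iff u hU hPL hL hLq hj hk hW le_rfl hak g).2
    ⟨N, b, by rw [smul_eq_mul]; exact mem_deg_of_app u hU hbij.1 hσd, ?_⟩
  choose VW hVW e c hy hVG hVaff he he' hc using fun y : G => exists_trivial_restrict hL t y.1 y.2
  refine TopCat.Sheaf.eq_of_locally_eq' (⟨𝒮L.presheaf, 𝒮L.isSheaf⟩ : TopCat.Sheaf CommRingCat.{u} X)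
    (fun y : G => W.ι ''ᵁ VW y) (LocU.tlocU u U a k)
    (fun y => homOfLE ((Scheme.Hom.image_mono W.ι (hVG y)).trans hG.le))
    (fun z hz => ?_) _ _ fun y => ?_
  · obtain ⟨w, hw, rfl⟩ := hG.ge hz
    exact Opens.mem_iSup.2 ⟨⟨w, hw⟩, w, hy ⟨w, hw⟩, rfl⟩
  · have hle : W.ι ''ᵁ VW y ≤ LocU.tlocU u U a k := (Scheme.Hom.image_mono W.ι (hVG y)).trans hG.le
    change ares 𝒮L.toQCAlg hle _ = ares 𝒮L.toQCAlg hle _
    have hcomp : ∀ z : 𝒮.presheaf.obj (op U),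
        ares 𝒮L.toQCAlg hle ((u.appLE U (LocU.tlocU u U a k) (LocU.tlocU_le u le_rfl)).hom z) =
          ares 𝒮L.toQCAlg (hVW y) ((u.app U).hom z) :=
      fun z => ConcreteCategory.congr_hom (u.appLE_map (LocU.tlocU_le u le_rfl) hle) z
    have hgg : X.presheaf.map (homOfLE hle).op g =
        (show Γ(X, W.ι ''ᵁ VW y) from W.toScheme.presheaf.map (homOfLE (hVG y)).op gW) := by
      change _ = X.presheaf.map _ (X.presheaf.map (homOfLE hG.le).op g)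
      rw [← ConcreteCategory.comp_apply, ← X.presheaf.map_comp]
      rfl
    rw [map_mul, map_pow, ares_str, hcomp, hcomp, hτ (VW y) (e y) (c y) (hVW y) (he y) (hc y),
      hσ (VW y) (e y) _ (hVW y) (he y) (hS (VW y) (hVG y) (e y) (c y) (he' y) (hc y)), hgg]
    simp only [tval, mul_pow, ← map_pow, ← pow_mul, map_mul]
    rw [mul_comm k N]
    change astr 𝒮L.toQCAlg _ _ * (astr 𝒮L.toQCAlg _ _ * _) = astr 𝒮L.toQCAlg _ (_ * _) * _
    rw [map_mul]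
    exact (mul_left_comm _ _ _).trans (mul_assoc _ _ _).symm

end Groth.Agent.H11QMap
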