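import Groth.Agent.H11QMap.TwistPull
import Groth.Agent.H11QMap.Line

/-!
# The twisting sheaves of the relative Proj of the symmetric algebra of an invertible module
-/

set_option autoImplicit false
set_option linter.style.haveILetI false
set_option linter.unusedSectionVars false

noncomputable section

universe u

open CategoryTheory CategoryTheory.Limits AlgebraicGeometry TopologicalSpace Opposite RelProj
open HomogeneousLocalization
open scoped HomogeneousIdeal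
open Groth.Agent.H11Tilde Groth.Agent.H11Ample Groth.Agent.H11Sym Groth.Agent.H11Proj

namespace Groth.Agent.H11QMap

section str

variable {S P : Scheme.{u}} {𝒮 : QCGrAlg S} {p : P ⟶ S}
  {chart : ∀ (U : S.Opens) (hU : IsAffineOpen U), (((p ⁻¹ᵁ U : P.Opens) : Scheme.{u}) ≅ Proj (𝒮.deg U hU))}

/-- A function of the base, as a fraction of degree zero. -/
theorem kap_strZero (hP : IsRelProj 𝒮 p chart) {U : S.Opens} (hU : IsAffineOpen U) {d : ℕ} (hd : 0 < d)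
    {h : 𝒮.presheaf.obj (op U)} (hh : h ∈ 𝒮.deg U hU d) (a : Γ(S, U)) :
    kap chart hU h (fromZeroRingHom (𝒮.deg U hU) (Submonoid.powers h) ((𝒮.strZero U hU).hom a)) =
      p.appLE U (cb chart U hU h) (cb_le U hU h) a := by
  have hc : (⊤ : (Spec (CommRingCat.of (Away (𝒮.deg U hU) h))).Opens) ≤
      (Proj.awayι (𝒮.deg U hU) h hh hd ≫ emb p chart U hU) ⁻¹ᵁ cb chart U hU h := by
    rw [← opensRange_awayι_emb (chart := chart) U hU hd h hh, Scheme.Hom.preimage_opensRange]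
  let l := Proj.awayι (𝒮.deg U hU) h hh hd ≫ emb p chart U hU
  have hbij : Function.Bijective (l.appLE (cb chart U hU h) ⊤ hc) := by
    haveI := l.isIso_app (cb chart U hU h) (opensRange_awayι_emb U hU hd h hh).ge
    haveI : IsIso (homOfLE hc) := homOfLE_isIso_of_eq _ (le_antisymm hc le_top)
    haveI : IsIso (l.appLE (cb chart U hU h) ⊤ hc) := by
      rw [Scheme.Hom.appLE]
      infer_instance
    exact ConcreteCategory.bijective_of_isIso (l.appLE (cb chart U hU h) ⊤ hc)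
  refine hbij.1 ((appLE_kap hU hd hh hc _).trans ?_)
  let ψ := 𝒮.strZero U hU ≫ CommRingCat.ofHom (fromZeroRingHom (𝒮.deg U hU) (Submonoid.powers h))
  have e0 : (⊤ : (Spec (CommRingCat.of (Away (𝒮.deg U hU) h))).Opens) ≤ Spec.map ψ ⁻¹ᵁ ⊤ := fun _ _ => trivial
  have e1 : (⊤ : (Spec Γ(S, U)).Opens) ≤ hU.fromSpec ⁻¹ᵁ U := hU.fromSpec_preimage_self.ge
  have h1 : l.appLE (cb chart U hU h) ⊤ hc (p.appLE U (cb chart U hU h) (cb_le U hU h) a) =
      (Spec.map ψ).appLE ⊤ ⊤ e0 (hU.fromSpec.appLE U ⊤ e1 a) := by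
    rw [← CommRingCat.comp_apply, ← CommRingCat.comp_apply, Scheme.Hom.appLE_comp_appLE,
      Scheme.Hom.appLE_comp_appLE]
    exact congr($(Charts.appLE_congr_hom ((Category.assoc _ _ _).trans (awayι_emb_p chart hP U hU hd h hh)) _ _) a)
  refine Eq.trans ?_ h1.symm
  have h2 : hU.fromSpec.appLE U ⊤ e1 = (Scheme.ΓSpecIso Γ(S, U)).inv := by
    rw [Scheme.Hom.appLE, hU.fromSpec_app_self, Category.assoc, ← Functor.map_comp]
    convert Category.comp_id (Scheme.ΓSpecIso Γ(S, U)).inv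
    exact (Spec Γ(S, U)).presheaf.map_id _
  rw [h2]
  exact congr($(Scheme.ΓSpecIso_inv_naturality ψ) a).trans
    congr($((Scheme.Hom.appLE_eq_app (Spec.map ψ) (U := ⊤)).trans rfl) _).symm

theorem deg_frac (k : ℕ) : ((((k + 1) • 1 : ℕ)) : ℤ) = ((1 : ℕ) : ℤ) + (k : ℤ) := by
  simp only [smul_eq_mul, mul_one]
  push_cast
  ring

variable {k : ℕ} {L : P.Modules}
  {lam : ∀ (U : S.Opens) (hU : IsAffineOpen U),
    L ⟶ (Scheme.Modules.pushforward (emb p chart U hU)).obj (GrTwist.twist (𝒮.deg U hU) (k : ℤ))}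

theorem cb_pow_mul (U : S.Opens) (hU : IsAffineOpen U) (f : 𝒮.presheaf.obj (op U)) (k : ℕ) :
    cb chart U hU (f ^ (k + 1) * f) = cb chart U hU f := by
  rw [← pow_succ, cb_pow U hU f (Nat.succ_pos _)]

/-- The generator `f ^ k` of `L` on `D₊(f)`, `f` of degree one. -/
def fs1 (hL : IsRelTwist 𝒮 p chart (k : ℤ) L lam) {U : S.Opens} (hU : IsAffineOpen U)
    {f : 𝒮.presheaf.obj (op U)} (hf : f ∈ 𝒮.deg U hU 1) : Γ(L, cb chart U hU f) :=
  resS L (cb_pow_mul U hU f k).ge (fs hL hU (SetLike.pow_mem_graded (k + 1) hf) hf (deg_frac k))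

theorem isGen_fs1 (hL : IsRelTwist 𝒮 p chart (k : ℤ) L lam) {U : S.Opens} (hU : IsAffineOpen U)
    {f : 𝒮.presheaf.obj (op U)} (hf : f ∈ 𝒮.deg U hU 1) : IsGen L (fs1 hL hU hf) :=
  (isGen_fs hL _ _ _ _).res _

theorem fs1_congr (hL : IsRelTwist 𝒮 p chart (k : ℤ) L lam) {U : S.Opens} (hU : IsAffineOpen U)
    {f f' : 𝒮.presheaf.obj (op U)} (e : f = f') (hf : f ∈ 𝒮.deg U hU 1) (hf' : f' ∈ 𝒮.deg U hU 1) {W : P.Opens}
    (h : W ≤ cb chart U hU f) (h' : W ≤ cb chart U hU f') :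
    resS L h (fs1 hL hU hf) = resS L h' (fs1 hL hU hf') := by
  subst e; rfl

theorem fs1_res (hP : IsRelProj 𝒮 p chart) (hL : IsRelTwist 𝒮 p chart (k : ℤ) L lam) {U V : S.Opens}
    (hU : IsAffineOpen U) (hV : IsAffineOpen V) (l : V ≤ U) {f : 𝒮.presheaf.obj (op U)}
    (hf : f ∈ 𝒮.deg U hU 1) {W : P.Opens} (h : W ≤ cb chart U hU f)
    (h' : W ≤ cb chart V hV (𝒮.res hU hV l f)) :
    resS L h (fs1 hL hU hf) = resS L h' (fs1 hL hV ((𝒮.res hU hV l).map_mem hf)) := by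
  unfold fs1
  have h₂ : W ≤ cb chart V hV (𝒮.res hU hV l (f ^ (k + 1)) * 𝒮.res hU hV l f) := by
    rw [map_pow, cb_pow_mul]
    exact h'
  rw [resS_resS, resS_resS, fs_res' hL hP hU hV l (SetLike.pow_mem_graded (k + 1) hf) hf (deg_frac k)
    (h.trans (cb_pow_mul U hU f k).ge) h₂]
  exact fs_congr hL hV (map_pow _ _ _) rfl _ _ _ _ _ _ _ _

/-- A generator times a function of the base. -/
theorem fs_str_mul (hP : IsRelProj 𝒮 p chart) (hL : IsRelTwist 𝒮 p chart (k : ℤ) L lam) {U : S.Opens}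
    (hU : IsAffineOpen U) {f : 𝒮.presheaf.obj (op U)}
    (hf : f ∈ 𝒮.deg U hU 1) (c : Γ(S, U)) (hg : (𝒮.str.app (op U)).hom c * f ∈ 𝒮.deg U hU 1) {D : P.Opens}
    (h₁ : D ≤ cb chart U hU f) (h₂ : D ≤ cb chart U hU ((𝒮.str.app (op U)).hom c * f)) :
    resS L h₂ (fs1 hL hU hg) = p.appLE U D (h₁.trans (cb_le U hU f)) (c ^ k) • resS L h₁ (fs1 hL hU hf) := by
  let g := (𝒮.str.app (op U)).hom c * f
  let hh := f ^ (k + 1) * f * (g ^ (k + 1) * g)
  have hle₁ : cb chart U hU hh ≤ cb chart U hU (f ^ (k + 1) * f) := (cb_mul U hU _ _).trans_le inf_le_left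
  have hle₂ : cb chart U hU hh ≤ cb chart U hU (g ^ (k + 1) * g) := (cb_mul U hU _ _).trans_le inf_le_right
  have hD : D ≤ cb chart U hU hh :=
    (le_inf (h₁.trans (cb_pow_mul U hU f k).ge) (h₂.trans (cb_pow_mul U hU g k).ge)).trans (cb_mul U hU _ _).ge
  have hz : rat hU (deg_frac k) (deg_frac k) (SetLike.pow_mem_graded (k + 1) hf) hf
      (SetLike.pow_mem_graded (k + 1) hg) hg =
      fromZeroRingHom (𝒮.deg U hU) (Submonoid.powers hh) ((𝒮.strZero U hU).hom (c ^ k)) := by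
    apply val_injective
    simp only [rat, Away.val_mk, fromZeroRingHom, RingHom.coe_mk, MonoidHom.coe_mk, OneHom.coe_mk, val_mk]
    refine Localization.mk_eq_mk_iff.2 (Localization.r_iff_exists.2 ⟨1, ?_⟩)
    simp only [OneMemClass.coe_one, one_mul, pow_one, map_pow]
    simp
    erw [QCGrAlg.strZero_apply_coe]
    ring
  have h := congrArg (resS L hD) (fs_ratio hL hU (deg_frac k) (deg_frac k) (SetLike.pow_mem_graded (k + 1) hf) hf
      (SetLike.pow_mem_graded (k + 1) hg) hg hle₁ hle₂)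
  rw [resS_resS, resS_smul, resS_resS, hz, kap_strZero hP hU (by simp only [smul_eq_mul, mul_one]; omega)
    (SetLike.mul_mem_graded (SetLike.mul_mem_graded (SetLike.pow_mem_graded (k + 1) hf) hf)
      (SetLike.mul_mem_graded (SetLike.pow_mem_graded (k + 1) hg) hg))] at h
  unfold fs1
  rw [resS_resS, resS_resS]
  refine h.trans (congrArg (· • _) ?_)
  exact congr($(Scheme.Hom.appLE_map p (cb_le U hU hh) (homOfLE hD).op) (c ^ k))

end str

variable {X : Scheme.{u}} {L : X.Modules} {𝒜 : QCGrAlg X} {j : L ⟶ 𝒜.toModule} {PL : Scheme.{u}} {pL : PL ⟶ X}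
  {chartL : ∀ (U : X.Opens) (hU : IsAffineOpen U), (((pL ⁻¹ᵁ U : PL.Opens) : Scheme.{u}) ≅ Proj (𝒜.deg U hU))}

/-- `O(k)` on `Proj` of the symmetric algebra of `L` is the inverse image of `L ^ k`. -/
theorem nonempty_twist_iso_pullback_tensorPow (hP : IsRelProj 𝒜 pL chartL) (hL : PicF.IsInvertible L)
    (hLq : Coh.IsQCoh L) (hj : IsGrSymAlg L 𝒜 j) {k : ℕ} {M : PL.Modules}
    {lam : ∀ (U : X.Opens) (hU : IsAffineOpen U),
      M ⟶ (Scheme.Modules.pushforward (emb pL chartL U hU)).obj (GrTwist.twist (𝒜.deg U hU) (k : ℤ))}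
    (hM : IsRelTwist 𝒜 pL chartL (k : ℤ) M lam) :
    Nonempty (M ≅ (Scheme.Modules.pullback pL).obj (CohB1.tensorPow L k)) := by
  let J := Σ V : X.affineOpens, {e : Γ(L, V.1) // IsGen L e}
  have hle : ∀ i : J, pL ⁻¹ᵁ i.1.1 ≤ cb chartL i.1.1 i.1.2 (japp (B := 𝒜.toQCAlg) j i.1.1 i.2.1) := fun i =>
    (cb_gen hLq hj i.1.2 i.2.2).ge
  let eA (i : J) : Γ(M, pL ⁻¹ᵁ i.1.1) := resS M (hle i) (fs1 hM i.1.2 (hj.2 i.1.1 i.1.2 i.2.1))
  let eB (i : J) := pullR pL (CohB1.tensorPow L k) (le_refl (pL ⁻¹ᵁ i.1.1)) (spow i.2.1 k)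
  refine Exists.elim (exists_iso_of_gen (fun i : J => pL ⁻¹ᵁ i.1.1)
    (fun z => by
      obtain ⟨W, e, hzW, -, hW, he⟩ := exists_trivial_nhd (L := L) hL (V := ⊤) (x := pL z) trivial
      exact ⟨⟨⟨W, hW⟩, e, he⟩, hzW⟩)
    eA (fun i => (isGen_fs1 hM _ _).res (hle i))
    eB (fun i => isGen_pullR _ _ _ (isGen_spow i.2.2 k)) ?_) fun φ _ => ⟨φ⟩
  rintro ⟨⟨V₁, hV₁⟩, e₁, he₁⟩ ⟨⟨V₂, hV₂⟩, e₂, he₂⟩ u hu
  refine eq_of_locally _ _ fun z hz => ?_
  obtain ⟨W, hW, hzW, hW12⟩ := exists_isAffineOpen_mem_and_subset (U := V₁ ⊓ V₂) (x := pL z) hz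
  have hW1 : W ≤ V₁ := fun x hx => (hW12 hx).1
  have hW2 : W ≤ V₂ := fun x hx => (hW12 hx).2
  let ε₁ := L.presheaf.map (homOfLE hW1).op e₁
  let ε₂ := L.presheaf.map (homOfLE hW2).op e₂
  obtain ⟨c, hc⟩ := exists_coeff (he₂.res hW2) ε₁
  let T₁ := japp (B := 𝒜.toQCAlg) j W ε₁
  let T₂ := japp (B := 𝒜.toQCAlg) j W ε₂
  have hT : T₁ = (𝒜.str.app (op W)).hom c * T₂ :=
    (congrArg (japp (B := 𝒜.toQCAlg) j W) hc).trans (japp_smul j W c ε₂)
  let D := pL ⁻¹ᵁ W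
  have hD1 : D ≤ pL ⁻¹ᵁ V₁ := pL.preimage_mono hW1
  have hD2 : D ≤ pL ⁻¹ᵁ V₂ := pL.preimage_mono hW2
  refine ⟨D, le_inf hD1 hD2, hzW, ?_⟩
  have h1 := congrArg (resS M (le_inf hD1 hD2)) hu
  change resS _ _ (resS _ inf_le_left _) = resS _ _ (u • resS _ inf_le_right _) at h1
  change resS _ _ (resS _ inf_le_left _) = resS _ _ (u • resS _ inf_le_right _)
  simp only [eA, resS_smul, resS_resS] at h1
  simp only [eB, resS_smul, resS_pullR]
  have hcb₁ : D ≤ cb chartL W hW T₁ := (cb_gen hLq hj hW (he₁.res hW1)).ge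
  have hcb₂ : D ≤ cb chartL W hW T₂ := (cb_gen hLq hj hW (he₂.res hW2)).ge
  have kA : resS M ((le_inf hD1 hD2).trans (inf_le_left.trans (hle ⟨⟨V₁, hV₁⟩, e₁, he₁⟩)))
      (fs1 hM hV₁ (hj.2 V₁ hV₁ e₁)) = pL.appLE W D le_rfl (c ^ k) •
      resS M ((le_inf hD1 hD2).trans (inf_le_right.trans (hle ⟨⟨V₂, hV₂⟩, e₂, he₂⟩))) (fs1 hM hV₂ (hj.2 V₂ hV₂ e₂)) := by
    have r₁ : 𝒜.res hV₁ hW hW1 (japp (B := 𝒜.toQCAlg) j V₁ e₁) = T₁ := (japp_res j hW1 e₁).symm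
    have r₂ : 𝒜.res hV₂ hW hW2 (japp (B := 𝒜.toQCAlg) j V₂ e₂) = T₂ := (japp_res j hW2 e₂).symm
    have hT' : (𝒜.str.app (op W)).hom c * T₂ ∈ 𝒜.deg W hW 1 := hT ▸ hj.2 W hW ε₁
    rw [fs1_res hP hM hV₁ hW hW1 (hj.2 V₁ hV₁ e₁) _ (hcb₁.trans (congrArg (cb chartL W hW) r₁).ge),
      fs1_res hP hM hV₂ hW hW2 (hj.2 V₂ hV₂ e₂) _ (hcb₂.trans (congrArg (cb chartL W hW) r₂).ge),
      fs1_congr hM hW (r₁.trans hT) _ hT' _ (hcb₁.trans (congrArg (cb chartL W hW) hT).le),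
      fs1_congr hM hW r₂ _ (hj.2 W hW ε₂) _ hcb₂]
    exact fs_str_mul hP hM hW (hj.2 W hW ε₂) c hT' hcb₂ _
  have kB : resS (CohB1.tensorPow L k) hW1 (spow e₁ k) = (c ^ k) • resS (CohB1.tensorPow L k) hW2 (spow e₂ k) := by
    change (CohB1.tensorPow L k).presheaf.map _ _ = _ • (CohB1.tensorPow L k).presheaf.map _ _
    rw [spow_res, spow_res]
    exact (congrArg (spow · k) hc).trans (spow_smul c ε₂ k)
  have hu' : resF (le_inf hD1 hD2) u = pL.appLE W D le_rfl (c ^ k) := by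
    refine (((isGen_fs1 hM hV₂ (hj.2 V₂ hV₂ e₂)).res
      ((le_inf hD1 hD2).trans (inf_le_right.trans (hle ⟨⟨V₂, hV₂⟩, e₂, he₂⟩)))).bijective le_rfl).1 ?_
    beta_reduce
    rw [H10Coh.mres_self]
    exact h1.symm.trans kA
  rw [hu']
  exact pullR_eq_smul pL _ _ _ hW1 hW2 _ kB le_rfl

end Groth.Agent.H11QMap
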