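import Groth.Agent.H11Sym.Bundle
import Groth.Agent.H11QMap.Line

/-!
# The morphism `Sym E → q_* Sym L` of a module of sections
-/

set_option autoImplicit false
set_option linter.style.haveILetI false

noncomputable section

universe u

open CategoryTheory CategoryTheory.Limits AlgebraicGeometry TopologicalSpace Opposite RelProj
open Groth.Agent.H11Sym

namespace Groth.Agent.H11QMap

variable {X Y : Scheme.{u}} {q : X ⟶ Y}

/-- A morphism of algebras over `q` is given on affine opens. -/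
theorem exists_qHom (A : RelSpec.QCAlg Y) (B : RelSpec.QCAlg X)
    (f : ∀ U : Y.Opens, IsAffineOpen U → (A.presheaf.obj (op U) →+* B.presheaf.obj (op (q ⁻¹ᵁ U))))
    (hs : ∀ U hU r, f U hU (astr A U r) = astr B (q ⁻¹ᵁ U) (q.app U r))
    (hn : ∀ (U : Y.Opens) (hU : IsAffineOpen U) (r : Γ(Y, U)) x,
      f _ (hU.basicOpen r) (ares A (Y.basicOpen_le r) x) =
        ares B (q.preimage_mono (Y.basicOpen_le r)) (f U hU x)) :
    ∃ u : RelSpec.QHom q A B, ∀ U hU x, (u.app U).hom x = f U hU x := by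
  let B' : TopCat.Sheaf CommRingCat.{u} Y.carrier :=
    (TopCat.Sheaf.pushforward CommRingCat.{u} q.base).obj ⟨B.presheaf, B.isSheaf⟩
  let η : (Scheme.AffineZariskiSite.toOpensFunctor Y).op ⋙ A.presheaf ⟶
      (Scheme.AffineZariskiSite.toOpensFunctor Y).op ⋙ B'.obj :=
    { app := fun U => CommRingCat.ofHom (f U.unop.1 U.unop.2)
      naturality := fun U V i => by
        obtain ⟨⟨V, hV⟩⟩ := V
        obtain ⟨r, hr⟩ := i.unop.le
        subst hr
        exact CommRingCat.hom_ext (RingHom.ext (hn U.unop.1 U.unop.2 r)) }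
  let h : A.presheaf ⟶ B'.obj :=
    Functor.IsCoverDense.restrictHomEquivHom (G := Scheme.AffineZariskiSite.toOpensFunctor Y)
      (K := Opens.grothendieckTopology Y) (ℱ := A.presheaf) (ℱ' := B') η
  have hh : (Scheme.AffineZariskiSite.toOpensFunctor Y).op.whiskerLeft h = η :=
    (Functor.IsCoverDense.restrictHomEquivHom (G := Scheme.AffineZariskiSite.toOpensFunctor Y)
      (K := Opens.grothendieckTopology Y) (ℱ := A.presheaf) (ℱ' := B')).symm_apply_apply _
  have hU' : ∀ U hU x, (h.app (op U)).hom x = f U hU x := fun U hU x =>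
    ConcreteCategory.congr_hom (NatTrans.congr_app hh (op ⟨U, hU⟩)) x
  refine ⟨⟨fun U => h.app (op U), fun {U V} i => (h.naturality (homOfLE i).op).symm, fun U => ?_⟩, hU'⟩
  refine CommRingCat.hom_ext (RingHom.ext fun r => ?_)
  refine TopCat.Sheaf.eq_of_locally_eq' B' (fun V : {V : Y.Opens // IsAffineOpen V ∧ V ≤ U} => V.1) U
    (fun V => homOfLE V.2.2) (fun y hy => ?_) _ _ fun V => ?_
  · obtain ⟨V, hV, hyV, hle⟩ := exists_affine_mem_le hy
    exact Opens.mem_iSup.2 ⟨⟨V, hV, hle⟩, hyV⟩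
  · obtain ⟨V, hV, hle⟩ := V
    change ares B (q.preimage_mono hle) ((h.app (op U)).hom (astr A U r)) =
      ares B (q.preimage_mono hle) (astr B (q ⁻¹ᵁ U) ((q.app U).hom r))
    rw [ares_str]
    refine (ConcreteCategory.congr_hom (h.naturality (homOfLE hle).op) _).symm.trans ?_
    change (h.app (op V)).hom (ares A hle (astr A U r)) = _
    rw [ares_str, hU' V hV, hs V hV]
    exact congrArg (astr B (q ⁻¹ᵁ V)) (ConcreteCategory.congr_hom (q.c.naturality (homOfLE hle).op) r)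

variable {L : X.Modules} {E : Y.Modules} {𝒮 : QCGrAlg Y} {𝒮L : QCGrAlg X} (j : L ⟶ 𝒮L.toModule)
  {jE : E ⟶ 𝒮.toModule}

/-- The morphism `Sym E → q_* Sym L` of `w : E → q_* L`. -/
theorem exists_symQHom (hE : Coh.IsQCoh E) (hT : IsGrSymAlg E 𝒮 jE) (hj : IsGrSymAlg L 𝒮L j)
    (w : E ⟶ (Scheme.Modules.pushforward q).obj L) :
    ∃ u : QGrHom q 𝒮 𝒮L, ∀ (U : Y.Opens) (x : Γ(E, U)),
      (u.app U).hom ((jE.app U) x) = (j.app (q ⁻¹ᵁ U)) (w.app U x) := by
  have hs := hT.1.isAffSym hE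
  let wj : ∀ U : Y.Opens, Γ(E, U) →+ 𝒮L.presheaf.obj (op (q ⁻¹ᵁ U)) := fun U =>
    AddMonoidHom.mk' (fun m => japp (B := 𝒮L.toQCAlg) j (q ⁻¹ᵁ U) (w.app U m)) fun a b => by
      rw [map_add]
      exact japp_add (B := 𝒮L.toQCAlg) j _ _ _
  choose f hf₀ hf₁ using fun (U : Y.Opens) (hU : IsAffineOpen U) =>
    hs.exists_lift hU ((astr 𝒮L.toQCAlg (q ⁻¹ᵁ U)).comp (q.app U).hom) (wj U) fun r m => by
      change japp (B := 𝒮L.toQCAlg) j (q ⁻¹ᵁ U) (w.app U (r • m)) = _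
      rw [Scheme.Modules.Hom.app_smul w r m]
      exact japp_smul (B := 𝒮L.toQCAlg) j (q ⁻¹ᵁ U) ((q.app U).hom r) (w.app U m)
  have hwres : ∀ {U V : Y.Opens} (i : V ≤ U) (m : Γ(E, U)),
      wj V (E.presheaf.map (homOfLE i).op m) = ares 𝒮L.toQCAlg (q.preimage_mono i) (wj U m) := fun {U V} i m => by
    refine Eq.trans ?_ (japp_res (B := 𝒮L.toQCAlg) j (q.preimage_mono i) (w.app U m))
    exact congrArg (japp (B := 𝒮L.toQCAlg) j (q ⁻¹ᵁ V)) (NatTrans.naturality_apply w.mapPresheaf (homOfLE i).op m)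
  obtain ⟨u₀, hu₀⟩ := exists_qHom 𝒮.toQCAlg 𝒮L.toQCAlg f hf₀ fun U hU r x =>
    RingHom.congr_fun (f := (f _ (hU.basicOpen r)).comp (ares 𝒮.toQCAlg (Y.basicOpen_le r)))
      (g := (ares 𝒮L.toQCAlg (q.preimage_mono (Y.basicOpen_le r))).comp (f U hU))
      (hs.ringHom_ext hU (fun a => by
        simp only [RingHom.comp_apply]
        rw [ares_str, hf₀, hf₀, RingHom.comp_apply, RingHom.comp_apply, ares_str]
        exact congrArg _ (ConcreteCategory.congr_hom (q.c.naturality (homOfLE (Y.basicOpen_le r)).op) a)) fun m => by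
        simp only [RingHom.comp_apply]
        rw [← japp_res, hf₁, hf₁]
        exact hwres _ m) x
  have happ : ∀ (U : Y.Opens) (x : Γ(E, U)),
      (u₀.app U).hom (japp (B := 𝒮.toQCAlg) jE U x) = wj U x := by
    intro U x
    let B' : TopCat.Sheaf CommRingCat.{u} Y.carrier :=
      (TopCat.Sheaf.pushforward CommRingCat.{u} q.base).obj ⟨𝒮L.presheaf, 𝒮L.isSheaf⟩
    refine TopCat.Sheaf.eq_of_locally_eq' B' (fun V : {V : Y.Opens // IsAffineOpen V ∧ V ≤ U} => V.1) U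
      (fun V => homOfLE V.2.2) (fun y hy => ?_) _ _ fun V => ?_
    · obtain ⟨V, hV, hyV, hle⟩ := exists_affine_mem_le hy
      exact Opens.mem_iSup.2 ⟨⟨V, hV, hle⟩, hyV⟩
    · obtain ⟨V, hV, hle⟩ := V
      refine (ConcreteCategory.congr_hom (u₀.naturality hle) _).trans ?_
      change (u₀.app V).hom (ares 𝒮.toQCAlg hle _) = ares 𝒮L.toQCAlg (q.preimage_mono hle) (wj U x)
      rw [← japp_res, hu₀ V hV, hf₁, ← hwres]
  refine ⟨{ toQHom := u₀, map_mem := fun U hU U' hU' hle {d x} hx => ?_ }, happ⟩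
  letI := algOn 𝒮.toQCAlg U
  rw [deg_eq_piece hE hT] at hx
  refine map_mem_of_one (hs U hU) (𝒮L.deg U' hU') ((ares 𝒮L.toQCAlg hle).comp (u₀.app U).hom) (fun r => ?_)
    (fun m => ?_) hx
  · change ares 𝒮L.toQCAlg hle ((u₀.app U).hom (astr 𝒮.toQCAlg U r)) ∈ _
    rw [show (u₀.app U).hom (astr 𝒮.toQCAlg U r) = astr 𝒮L.toQCAlg _ ((q.app U).hom r) from
      ConcreteCategory.congr_hom (u₀.str_app U) r, ares_str]
    exact 𝒮L.str_mem U' hU' _
  · change ares 𝒮L.toQCAlg hle ((u₀.app U).hom (japp (B := 𝒮.toQCAlg) jE U m)) ∈ _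
    rw [happ]
    change ares 𝒮L.toQCAlg hle (japp (B := 𝒮L.toQCAlg) j _ _) ∈ _
    rw [← japp_res]
    exact hj.2 U' hU' _

end Groth.Agent.H11QMap
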