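import Groth.Agent.H11QMap.TwistPull
import Groth.Agent.H11QMap.Global

/-!
# `IsRelProjMap` as a `Proj(u)`; inverse images of the twists
-/

set_option autoImplicit false
set_option linter.style.haveILetI false

noncomputable section

universe u

open CategoryTheory CategoryTheory.Limits AlgebraicGeometry TopologicalSpace Opposite RelProj
open HomogeneousLocalization
open scoped HomogeneousIdeal

namespace Groth.Agent.H11QMap

/-- An isomorphism of inverse images along an isomorphism descends. -/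
theorem nonempty_iso_of_pullback_iso {X Y : Scheme.{u}} (e : X ⟶ Y) [IsIso e] {M N : Y.Modules}
    (h : Nonempty ((Scheme.Modules.pullback e).obj M ≅ (Scheme.Modules.pullback e).obj N)) : Nonempty (M ≅ N) := by
  obtain ⟨φ⟩ := h
  let τ : ∀ K : Y.Modules, (Scheme.Modules.pullback (inv e)).obj ((Scheme.Modules.pullback e).obj K) ≅ K :=
    fun K => (Scheme.Modules.pullbackComp (inv e) e).app K ≪≫
      (Scheme.Modules.pullbackCongr (IsIso.inv_hom_id e)).app K ≪≫ (Scheme.Modules.pullbackId Y).app K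
  exact ⟨(τ M).symm ≪≫ (Scheme.Modules.pullback (inv e)).mapIso φ ≪≫ τ N⟩

variable {S : Scheme.{u}} {𝒜 ℬ : QCGrAlg S} (φ : 𝒜.toQCAlg ⟶ ℬ.toQCAlg) (hφ : IsGradedHom φ)
  {PA PB : Scheme.{u}} {pA : PA ⟶ S} {pB : PB ⟶ S}
  {chartA : ∀ (U : S.Opens) (hU : IsAffineOpen U), (((pA ⁻¹ᵁ U : PA.Opens) : Scheme.{u}) ≅ Proj (𝒜.deg U hU))}
  {chartB : ∀ (U : S.Opens) (hU : IsAffineOpen U), (((pB ⁻¹ᵁ U : PB.Opens) : Scheme.{u}) ≅ Proj (ℬ.deg U hU))}
  (hirr : ∀ (U : S.Opens) (hU : IsAffineOpen U),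
    (ℬ.deg U hU)₊ ≤ ((𝒜.deg U hU)₊).map (gradedHomAt φ hφ U hU))

include hirr in
theorem domQ_eq_top_of_irrelevant :
    domQ (QGrHom.ofHom φ hφ) pB chartB = ⊤ := by
  refine eq_top_iff.2 fun z _ => ?_
  obtain ⟨U, hU⟩ := Opens.mem_iSup.1 ((iSup_affineOpens_eq_top S).ge (Set.mem_univ (pB z)))
  obtain ⟨w, hw⟩ := exists_emb_eq (chart := chartB) U.2 hU
  refine image_domOpen_le φ hφ U.1 U.2 ⟨w, ?_, hw⟩
  rw [domOpen_eq_top _ (hirr U.1 U.2)]
  trivial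

theorem emb_comp_relProjMap {h : PB ⟶ PA} (hh : IsRelProjMap φ hφ hirr chartA chartB h) (U : S.Opens)
    (hU : IsAffineOpen U) :
    emb pB chartB U hU ≫ h = Proj.map (gradedHomAt φ hφ U hU) (hirr U hU) ≫ emb pA chartA U hU := by
  simp only [emb, Category.assoc]
  rw [hh U hU, Iso.inv_hom_id_assoc]

/-- A morphism of relative Proj's induced by a graded homomorphism is the `Proj(u)` of the homomorphism. -/
theorem eq_ι_comp_relProjMap (hA : IsRelProj 𝒜 pA chartA) (hB : IsRelProj ℬ pB chartB) {h : PB ⟶ PA}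
    (hh : IsRelProjMap φ hφ hirr chartA chartB h)
    {r : (domQ (QGrHom.ofHom φ hφ) pB chartB : Scheme.{u}) ⟶ PA}
    (hr : IsProjQMapOn (QGrHom.ofHom φ hφ) pA chartA pB chartB (domQ (QGrHom.ofHom φ hφ) pB chartB) r) :
    r = (domQ (QGrHom.ofHom φ hφ) pB chartB).ι ≫ h := by
  let v := QGrHom.ofHom φ hφ
  let K := Σ (U : S.affineOpens) (d : PNat), 𝒜.deg U.1 U.2 d
  let j : K → Idx v := fun k => ⟨k.1, k.1, le_rfl, k.2.1, k.2.1.2, k.2.2.1, k.2.2.2⟩
  refine (Scheme.Cover.mkOfCovers (P := @IsOpenImmersion) K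
    (fun k => Spec (CommRingCat.of (Away (ℬ.deg k.1.1 k.1.2) (v.gradedAt k.1.1 k.1.2 k.1.1 k.1.2 le_rfl k.2.2.1))))
    (fun k => lchart v chartB (j k)) (fun z => ?_) (fun k => isOpenImmersion_lchart v chartB (j k))).hom_ext _ _
    fun k => ?_
  · obtain ⟨U, hU⟩ := Opens.mem_iSup.1 ((iSup_affineOpens_eq_top S).ge
      (Set.mem_univ (pB ((domQ v pB chartB).ι z))))
    obtain ⟨d, hd, f, hf, hzf⟩ := exists_mem_cb (chart := chartA) U.2 (z := r z)
      (by rw [qmap_p_apply v chartA chartB hA hB hr]; exact hU)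
    refine ⟨⟨U, ⟨d, hd⟩, f, hf⟩, ?_⟩
    have h1 : z ∈ (lchart v chartB (j ⟨U, ⟨d, hd⟩, f, hf⟩)).opensRange := by
      rw [opensRange_lchart]
      exact (qmap_mem_cb_iff v chartA chartB hA hB hr z U.1 U.2 U.1 U.2 le_rfl hU hd f hf).1 hzf
    exact h1
  obtain ⟨⟨U, hU⟩, ⟨d, hd⟩, f, hf⟩ := k
  change lchart v chartB _ ≫ r = lchart v chartB _ ≫ (domQ v pB chartB).ι ≫ h
  rw [(isProjQMapOn_iff v chartA chartB r).1 hr, lchart_ι_assoc]
  simp only [j, tMap, awayEmb, Category.assoc, emb_comp_relProjMap φ hφ hirr hh]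
  refine Eq.trans ?_ (Category.assoc _ _ _)
  refine Eq.trans (Category.assoc _ _ _).symm (congrArg (· ≫ emb pA chartA U hU) ?_)
  have key : ∀ (ψ ψ' : 𝒜.deg U hU →+*ᵍ ℬ.deg U hU) (hψ' : (ℬ.deg U hU)₊ ≤ ((𝒜.deg U hU)₊).map ψ') (_ : ψ = ψ')
      (hψf : ψ f ∈ ℬ.deg U hU d),
      Spec.map (CommRingCat.ofHom (Away.map ψ f)) ≫ Proj.awayι (𝒜.deg U hU) f hf hd =
        Proj.awayι (ℬ.deg U hU) (ψ f) hψf hd ≫ Proj.map ψ' hψ' := by
    rintro ψ ψ' hψ' rfl hψf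
    exact (Proj.awayι_comp_map ψ hψ' hd f hf).symm
  exact key _ _ (hirr U hU) (ofHom_gradedAt_eq' φ hφ U hU) _

/-- The inverse image of `O(n)` along `Proj(φ)`. -/
theorem nonempty_pullback_relProjMap_iso (hA : IsRelProj 𝒜 pA chartA) (hB : IsRelProj ℬ pB chartB) {h : PB ⟶ PA}
    (hh : IsRelProjMap φ hφ hirr chartA chartB h)
    (hgen : ∀ (U : S.Opens) (hU : IsAffineOpen U) (y : Proj (𝒜.deg U hU)),
      ∃ f ∈ 𝒜.deg U hU 1, f ∉ y.asHomogeneousIdeal) {n : ℤ} {LA : PA.Modules}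
    {lamA : ∀ (U : S.Opens) (hU : IsAffineOpen U),
      LA ⟶ (Scheme.Modules.pushforward (emb pA chartA U hU)).obj (GrTwist.twist (𝒜.deg U hU) n)}
    (hLA : IsRelTwist 𝒜 pA chartA n LA lamA) {LB : PB.Modules}
    {lamB : ∀ (U : S.Opens) (hU : IsAffineOpen U),
      LB ⟶ (Scheme.Modules.pushforward (emb pB chartB U hU)).obj (GrTwist.twist (ℬ.deg U hU) n)}
    (hLB : IsRelTwist ℬ pB chartB n LB lamB) :
    Nonempty ((Scheme.Modules.pullback h).obj LA ≅ LB) := by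
  obtain ⟨r, hr⟩ := exists_qmap (QGrHom.ofHom φ hφ) chartA chartB hA hB
  obtain ⟨e⟩ := nonempty_pullback_twist_iso (QGrHom.ofHom φ hφ) chartA chartB hA hB hr hLA hLB
    (hasFrac_of_degOne (QGrHom.ofHom φ hφ) chartA chartB hA hB hr hgen n)
  haveI := isIso_domQ_ι (QGrHom.ofHom φ hφ) chartB (domQ_eq_top_of_irrelevant φ hφ hirr)
  refine nonempty_iso_of_pullback_iso (domQ (QGrHom.ofHom φ hφ) pB chartB).ι ⟨?_⟩
  exact (Scheme.Modules.pullbackComp _ h).app LA ≪≫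
    (Scheme.Modules.pullbackCongr (eq_ι_comp_relProjMap φ hφ hirr hA hB hh hr).symm).app LA ≪≫ e

end Groth.Agent.H11QMap
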