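import Groth.Agent.H11QMap.Chart
import Groth.Agent.H11Proj.ProjData
import Groth.Agent.H11Tilde.TwistInv

/-!
# The local generators `a / b` of the twisting sheaves of a relative Proj
-/

set_option autoImplicit false
set_option linter.style.haveILetI false
set_option linter.unusedSectionVars false

noncomputable section

universe u

open CategoryTheory CategoryTheory.Limits AlgebraicGeometry TopologicalSpace Opposite RelProj
open HomogeneousLocalization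
open scoped HomogeneousIdeal

namespace Groth.Agent.H11QMap

open Groth.Agent.H11Tilde Groth.Agent.H11Proj Groth.Agent.H11Ample

section graded

variable {A σ : Type u} [CommRing A] [SetLike σ A] [AddSubgroupClass σ A] (𝒜 : ℕ → σ) [GradedRing 𝒜]
variable {n : ℤ} {i j : ℕ} {a b : A} (ha : a ∈ 𝒜 i) (hb : b ∈ 𝒜 j) (hij : (i : ℤ) = j + n)

theorem notMem_left {x : Proj 𝒜} (hx : x ∈ Proj.basicOpen 𝒜 (a * b)) : a ∉ x.asHomogeneousIdeal :=
  fun h => hx (x.asHomogeneousIdeal.toIdeal.mul_mem_right _ h)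

theorem notMem_right {x : Proj 𝒜} (hx : x ∈ Proj.basicOpen 𝒜 (a * b)) : b ∉ x.asHomogeneousIdeal :=
  fun h => hx (x.asHomogeneousIdeal.toIdeal.mul_mem_left _ h)

/-- `a / b` as a section of `O(n)`, where neither vanishes. -/
def fsec (V : (Proj 𝒜).Opens) (hV : V ≤ Proj.basicOpen 𝒜 (a * b)) : Γ(GrTwist.twist 𝒜 n, V) :=
  secOf 𝒜 𝒜 ha hb (fun _ hx => notMem_right 𝒜 (hV hx)) hij

theorem val_fsec (V : (Proj 𝒜).Opens) (hV : V ≤ Proj.basicOpen 𝒜 (a * b)) (y : V) :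
    GrTwist.val (fsec 𝒜 ha hb hij V hV) y = Localization.mk a ⟨b, notMem_right 𝒜 (hV y.2)⟩ := rfl

theorem fsec_res {V W : (Proj 𝒜).Opens} (hV : V ≤ Proj.basicOpen 𝒜 (a * b)) (h : W ≤ V) :
    (GrTwist.twist 𝒜 n).presheaf.map (homOfLE h).op (fsec 𝒜 ha hb hij V hV) =
      fsec 𝒜 ha hb hij W (h.trans hV) := rfl

theorem bijective_smul_fsec (V : (Proj 𝒜).Opens) (hV : V ≤ Proj.basicOpen 𝒜 (a * b)) :
    Function.Bijective fun r : Γ(Proj 𝒜, V) => r • fsec 𝒜 ha hb hij V hV :=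
  bijective_smul_gen 𝒜 ha hb (fun _ hx => notMem_left 𝒜 (hV hx)) (fun _ hx => notMem_right 𝒜 (hV hx)) hij _
    fun _ => rfl

end graded

variable {S P : Scheme.{u}} {𝒮 : QCGrAlg S} {p : P ⟶ S}
  {chart : ∀ (U : S.Opens) (hU : IsAffineOpen U), (((p ⁻¹ᵁ U : P.Opens) : Scheme.{u}) ≅ Proj (𝒮.deg U hU))}
  {n : ℤ} {L : P.Modules}
  {lam : ∀ (U : S.Opens) (hU : IsAffineOpen U),
    L ⟶ (Scheme.Modules.pushforward (emb p chart U hU)).obj (GrTwist.twist (𝒮.deg U hU) n)}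

/-- The identification over `U`, on sections. -/
abbrev lamN (lam : ∀ (U : S.Opens) (hU : IsAffineOpen U),
    L ⟶ (Scheme.Modules.pushforward (emb p chart U hU)).obj (GrTwist.twist (𝒮.deg U hU) n))
    {U : S.Opens} (hU : IsAffineOpen U) (W : P.Opens) (s : Γ(L, W)) :
    Γ(GrTwist.twist (𝒮.deg U hU) n, emb p chart U hU ⁻¹ᵁ W) :=
  (lam U hU).app W s

theorem preimage_le_basicOpen {U : S.Opens} (hU : IsAffineOpen U) {f : 𝒮.presheaf.obj (op U)} {W : P.Opens}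
    (hW : W ≤ cb chart U hU f) : emb p chart U hU ⁻¹ᵁ W ≤ Proj.basicOpen (𝒮.deg U hU) f :=
  fun y hy => (emb_mem_cb_iff U hU f y).1 (hW hy)

variable (hL : IsRelTwist 𝒮 p chart n L lam)
include hL

theorem exists_fs {U : S.Opens} (hU : IsAffineOpen U) {i j : ℕ} {a b : 𝒮.presheaf.obj (op U)}
    (ha : a ∈ 𝒮.deg U hU i) (hb : b ∈ 𝒮.deg U hU j) (hij : (i : ℤ) = j + n) :
    ∃ s : Γ(L, cb chart U hU (a * b)), lamN lam hU _ s =
      fsec (𝒮.deg U hU) ha hb hij _ (preimage_le_basicOpen hU le_rfl) :=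
  (hL.bijective U hU _ (cb_le U hU _)).2 _

/-- The section `a / b` of `L` on `D₊(a b)`. -/
def fs {U : S.Opens} (hU : IsAffineOpen U) {i j : ℕ} {a b : 𝒮.presheaf.obj (op U)} (ha : a ∈ 𝒮.deg U hU i)
    (hb : b ∈ 𝒮.deg U hU j) (hij : (i : ℤ) = j + n) : Γ(L, cb chart U hU (a * b)) :=
  (exists_fs hL hU ha hb hij).choose

theorem lamN_fs_res {U : S.Opens} (hU : IsAffineOpen U) {i j : ℕ} {a b : 𝒮.presheaf.obj (op U)}
    (ha : a ∈ 𝒮.deg U hU i) (hb : b ∈ 𝒮.deg U hU j) (hij : (i : ℤ) = j + n) {W : P.Opens}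
    (h : W ≤ cb chart U hU (a * b)) :
    lamN lam hU W (resS L h (fs hL hU ha hb hij)) =
      fsec (𝒮.deg U hU) ha hb hij _ (preimage_le_basicOpen hU h) := by
  have h1 : lamN lam hU W (resS L h (fs hL hU ha hb hij)) = (GrTwist.twist (𝒮.deg U hU) n).presheaf.map
      (homOfLE ((emb p chart U hU).preimage_mono h)).op (lamN lam hU _ (fs hL hU ha hb hij)) :=
    app_map_apply (lam U hU) h (fs hL hU ha hb hij)
  rw [h1, show lamN lam hU _ (fs hL hU ha hb hij) = _ from (exists_fs hL hU ha hb hij).choose_spec, fsec_res]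

theorem isGen_fs {U : S.Opens} (hU : IsAffineOpen U) {i j : ℕ} {a b : 𝒮.presheaf.obj (op U)}
    (ha : a ∈ 𝒮.deg U hU i) (hb : b ∈ 𝒮.deg U hU j) (hij : (i : ℤ) = j + n) : IsGen L (fs hL hU ha hb hij) := by
  refine isGen_of_bijective fun W hW => ?_
  let e := emb p chart U hU
  have hWU : W ≤ p ⁻¹ᵁ U := hW.trans (cb_le U hU _)
  haveI := e.isIso_app W (hWU.trans (opensRange_emb U hU).ge)
  have he : (lamN lam hU W) ∘ (fun r : Γ(P, W) => r • resS L hW (fs hL hU ha hb hij)) =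
      (fun r : Γ(Proj (𝒮.deg U hU), e ⁻¹ᵁ W) =>
        r • fsec (𝒮.deg U hU) ha hb hij _ (preimage_le_basicOpen hU hW)) ∘ (e.app W) := funext fun r => by
    change (lam U hU).app W (r • resS L hW (fs hL hU ha hb hij)) = _
    rw [Scheme.Modules.Hom.app_smul,
      show (lam U hU).app W (resS L hW (fs hL hU ha hb hij)) = _ from lamN_fs_res hL hU ha hb hij hW]
    rfl
  refine (Function.Bijective.of_comp_iff' (hL.bijective U hU W hWU) _).1 ?_
  change Function.Bijective ((lamN lam hU W) ∘ (fun r : Γ(P, W) => r • resS L hW (fs hL hU ha hb hij)))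
  rw [he]
  exact (bijective_smul_fsec _ ha hb hij _ _).comp (ConcreteCategory.bijective_of_isIso (e.app W))

theorem fs_congr {U : S.Opens} (hU : IsAffineOpen U) {i j : ℕ} {a a' b b' : 𝒮.presheaf.obj (op U)} (ea : a = a')
    (eb : b = b') (ha : a ∈ 𝒮.deg U hU i) (hb : b ∈ 𝒮.deg U hU j) (ha' : a' ∈ 𝒮.deg U hU i)
    (hb' : b' ∈ 𝒮.deg U hU j) (hij hij' : (i : ℤ) = j + n) {W : P.Opens} (h : W ≤ cb chart U hU (a * b))
    (h' : W ≤ cb chart U hU (a' * b')) :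
    resS L h (fs hL hU ha hb hij) = resS L h' (fs hL hU ha' hb' hij') := by
  subst ea eb; rfl

/-- The generators are compatible with restriction to basic opens of the base. -/
theorem fs_res (hP : IsRelProj 𝒮 p chart) {U V : S.Opens} (hU : IsAffineOpen U) (hV : IsAffineOpen V) (r : Γ(S, U))
    (e : V = S.basicOpen r) (l : V ≤ U) {i j : ℕ} {a b : 𝒮.presheaf.obj (op U)} (ha : a ∈ 𝒮.deg U hU i)
    (hb : b ∈ 𝒮.deg U hU j) (hij : (i : ℤ) = j + n) {W : P.Opens} (h : W ≤ cb chart U hU (a * b))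
    (h' : W ≤ cb chart V hV (𝒮.res hU hV l a * 𝒮.res hU hV l b)) :
    resS L h (fs hL hU ha hb hij) =
      resS L h' (fs hL hV ((𝒮.res hU hV l).map_mem ha) ((𝒮.res hU hV l).map_mem hb) hij) := by
  subst e
  refine (hL.bijective _ hV W (h'.trans (cb_le _ hV _))).1 ?_
  refine Eq.trans ?_ (lamN_fs_res hL hV _ _ hij h').symm
  refine H11Proj.twist_ext (𝒮.deg _ hV) fun y => ?_
  have hy' : (emb p chart U hU).base (ProjectiveSpectrum.comap
      (𝒮.res hU (hU.basicOpen r) (S.basicOpen_le r)) (𝒮.irrelevant_le_map U hU r) y.1) ∈ W := by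
    have h1 := y.2
    rw [Scheme.Hom.mem_preimage] at h1
    rw [← congrArg (fun φ => φ.base y.1) (map_res_emb (chart := chart) hP U hU r)] at h1
    exact h1
  refine (hL.compat U hU r W (resS L h (fs hL hU ha hb hij)) y.1 y.2 hy').trans ?_
  rw [show (lam U hU).app W (resS L h (fs hL hU ha hb hij)) = _ from lamN_fs_res hL hU ha hb hij h, val_fsec]
  refine (GrTwist.locMap_mk _ _ _ _ _).trans ?_
  rw [val_fsec]

/-- The generators are compatible with restriction to affine opens of the base. -/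
theorem fs_res' (hP : IsRelProj 𝒮 p chart) {U V : S.Opens} (hU : IsAffineOpen U) (hV : IsAffineOpen V) (l : V ≤ U)
    {i j : ℕ} {a b : 𝒮.presheaf.obj (op U)} (ha : a ∈ 𝒮.deg U hU i) (hb : b ∈ 𝒮.deg U hU j)
    (hij : (i : ℤ) = j + n) {W : P.Opens} (h : W ≤ cb chart U hU (a * b))
    (h' : W ≤ cb chart V hV (𝒮.res hU hV l a * 𝒮.res hU hV l b)) :
    resS L h (fs hL hU ha hb hij) =
      resS L h' (fs hL hV ((𝒮.res hU hV l).map_mem ha) ((𝒮.res hU hV l).map_mem hb) hij) := by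
  refine eq_of_locally _ _ fun x hx => ?_
  have hxV : p x ∈ V := cb_le V hV _ (h' hx)
  obtain ⟨r, s, hrs, hxr⟩ := exists_basicOpen_le_affine_inter hV hU (p x) ⟨hxV, l hxV⟩
  let W' := W ⊓ p ⁻¹ᵁ S.basicOpen r
  refine ⟨W', inf_le_left, ⟨hx, hxr⟩, ?_⟩
  have hB := hV.basicOpen r
  have hBU : S.basicOpen r ≤ U := (S.basicOpen_le r).trans l
  have h₁ : W' ≤ cb chart U hU (a * b) := inf_le_left.trans h
  have h₂ : W' ≤ cb chart _ hB (𝒮.res hU hB hBU a * 𝒮.res hU hB hBU b) := fun y hy => by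
    rw [← map_mul]
    exact (mem_cb_res hP hU hB hBU _ hy.2).2 (h₁ hy)
  have h₃ : W' ≤ cb chart V hV (𝒮.res hU hV l a * 𝒮.res hU hV l b) := inf_le_left.trans h'
  have h₄ : W' ≤ cb chart _ hB (𝒮.res hV hB (S.basicOpen_le r) (𝒮.res hU hV l a) *
      𝒮.res hV hB (S.basicOpen_le r) (𝒮.res hU hV l b)) := fun y hy => by
    rw [← map_mul]
    exact (mem_cb_res hP hV hB (S.basicOpen_le r) _ hy.2).2 (h₃ hy)
  change resS L inf_le_left (resS L h _) = resS L inf_le_left (resS L h' _)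
  rw [resS_resS, resS_resS, fs_res hL hP hU hB s hrs hBU ha hb hij h₁ h₂,
    fs_res hL hP hV hB r rfl (S.basicOpen_le r) ((𝒮.res hU hV l).map_mem ha) ((𝒮.res hU hV l).map_mem hb) hij h₃ h₄]
  exact fs_congr hL hB (res_trans l (S.basicOpen_le r) a).symm (res_trans l (S.basicOpen_le r) b).symm
    _ _ _ _ _ _ _ _

omit hL

variable (chart) in
/-- A fraction as a function on a standard open of the relative Proj. -/
def kap {U : S.Opens} (hU : IsAffineOpen U) (h : 𝒮.presheaf.obj (op U)) (z : Away (𝒮.deg U hU) h) :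
    Γ(P, cb chart U hU h) :=
  ((emb p chart U hU).appIso _).inv (Proj.awayToSection (𝒮.deg U hU) h z)

theorem ratio_mem {U : S.Opens} (hU : IsAffineOpen U) {i j i' j' : ℕ} (hij : (i : ℤ) = j + n)
    (hij' : (i' : ℤ) = j' + n) {a b a' b' : 𝒮.presheaf.obj (op U)} (_ha : a ∈ 𝒮.deg U hU i)
    (hb : b ∈ 𝒮.deg U hU j) (ha' : a' ∈ 𝒮.deg U hU i') (_hb' : b' ∈ 𝒮.deg U hU j') :
    a' ^ 2 * b ^ 2 ∈ 𝒮.deg U hU (1 • (i + j + (i' + j'))) := by
  have h := SetLike.mul_mem_graded (A := 𝒮.deg U hU) (SetLike.pow_mem_graded 2 ha') (SetLike.pow_mem_graded 2 hb)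
  have e : 2 • i' + 2 • j = 1 • (i + j + (i' + j')) := by simp only [smul_eq_mul]; omega
  rwa [e] at h

/-- `(a' / b') / (a / b)` on `D₊(a b a' b')`. -/
abbrev rat {U : S.Opens} (hU : IsAffineOpen U) {i j i' j' : ℕ} (hij : (i : ℤ) = j + n) (hij' : (i' : ℤ) = j' + n)
    {a b a' b' : 𝒮.presheaf.obj (op U)} (ha : a ∈ 𝒮.deg U hU i) (hb : b ∈ 𝒮.deg U hU j)
    (ha' : a' ∈ 𝒮.deg U hU i') (hb' : b' ∈ 𝒮.deg U hU j') : Away (𝒮.deg U hU) (a * b * (a' * b')) :=
  Away.mk (𝒮.deg U hU)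
    (SetLike.mul_mem_graded (SetLike.mul_mem_graded ha hb) (SetLike.mul_mem_graded ha' hb')) 1 _
    (ratio_mem hU hij hij' ha hb ha' hb')

theorem app_kap {U : S.Opens} (hU : IsAffineOpen U) (h : 𝒮.presheaf.obj (op U)) (z : Away (𝒮.deg U hU) h) :
    (emb p chart U hU).app (cb chart U hU h) (kap chart hU h z) =
      (Proj (𝒮.deg U hU)).presheaf.map (homOfLE (preimage_le_basicOpen hU le_rfl)).op
        (Proj.awayToSection (𝒮.deg U hU) h z) := by
  exact (congr($(Scheme.Hom.appIso_inv_app (emb p chart U hU) (Proj.basicOpen (𝒮.deg U hU) h))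
    (Proj.awayToSection (𝒮.deg U hU) h z))).trans rfl

theorem fval_app_kap {U : S.Opens} (hU : IsAffineOpen U) {i j i' j' : ℕ} (hij : (i : ℤ) = j + n)
    (hij' : (i' : ℤ) = j' + n) {a b a' b' : 𝒮.presheaf.obj (op U)} (ha : a ∈ 𝒮.deg U hU i)
    (hb : b ∈ 𝒮.deg U hU j) (ha' : a' ∈ 𝒮.deg U hU i') (hb' : b' ∈ 𝒮.deg U hU j')
    (y : (emb p chart U hU ⁻¹ᵁ cb chart U hU (a * b * (a' * b')) : (Proj (𝒮.deg U hU)).Opens)) :
    fval (𝒮.deg U hU) ((emb p chart U hU).app (cb chart U hU (a * b * (a' * b')))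
        (kap chart hU (a * b * (a' * b')) (rat hU hij hij' ha hb ha' hb'))) y =
      Localization.mk (a' ^ 2 * b ^ 2)
        ⟨(a * b * (a' * b')) ^ 1,
          H11Tilde.pow_notMem (𝒮.deg U hU) (preimage_le_basicOpen hU le_rfl y.2) _⟩ := by
  rw [app_kap, fval_map]
  exact fval_awayToSection (𝒮.deg U hU) _ _ _ _ _

include hL

/-- Change of generator. -/
theorem fs_ratio {U : S.Opens} (hU : IsAffineOpen U) {i j i' j' : ℕ} (hij : (i : ℤ) = j + n)
    (hij' : (i' : ℤ) = j' + n) {a b a' b' : 𝒮.presheaf.obj (op U)} (ha : a ∈ 𝒮.deg U hU i)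
    (hb : b ∈ 𝒮.deg U hU j) (ha' : a' ∈ 𝒮.deg U hU i') (hb' : b' ∈ 𝒮.deg U hU j')
    (hle₁ : cb chart U hU (a * b * (a' * b')) ≤ cb chart U hU (a * b))
    (hle₂ : cb chart U hU (a * b * (a' * b')) ≤ cb chart U hU (a' * b')) :
    resS L hle₂ (fs hL hU ha' hb' hij') =
      kap chart hU (a * b * (a' * b')) (rat hU hij hij' ha hb ha' hb') • resS L hle₁ (fs hL hU ha hb hij) := by
  refine (hL.bijective U hU _ (cb_le U hU _)).1 ?_
  refine (lamN_fs_res hL hU ha' hb' hij' hle₂).trans (Eq.trans ?_ (Scheme.Modules.Hom.app_smul (lam U hU) _ _).symm)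
  refine Eq.trans ?_ (congrArg (fun t : Γ(GrTwist.twist (𝒮.deg U hU) n,
      emb p chart U hU ⁻¹ᵁ cb chart U hU (a * b * (a' * b'))) =>
    (emb p chart U hU).app _ (kap chart hU (a * b * (a' * b')) (rat hU hij hij' ha hb ha' hb')) • t)
      (lamN_fs_res hL hU ha hb hij hle₁)).symm
  refine H11Proj.twist_ext (𝒮.deg U hU) fun y => ?_
  refine Eq.trans ?_ (H11Proj.val_smul (𝒮.deg U hU) _ _ y).symm
  rw [fval_app_kap hU hij hij' ha hb ha' hb' y, val_fsec, val_fsec, Localization.mk_mul]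
  refine Localization.mk_eq_mk_iff.2 (Localization.r_iff_exists.2 ⟨1, ?_⟩)
  simp only [OneMemClass.coe_one, one_mul, Submonoid.coe_mul]
  ring

omit hL

theorem appLE_awayι {U : S.Opens} (hU : IsAffineOpen U) {d : ℕ} (hd : 0 < d) {h : 𝒮.presheaf.obj (op U)}
    (hh : h ∈ 𝒮.deg U hU d) (hle : (⊤ : (Spec (CommRingCat.of (Away (𝒮.deg U hU) h))).Opens) ≤
      (Proj.awayι (𝒮.deg U hU) h hh hd) ⁻¹ᵁ Proj.basicOpen (𝒮.deg U hU) h)
    (z : Away (𝒮.deg U hU) h) :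
    (Proj.awayι (𝒮.deg U hU) h hh hd).appLE _ ⊤ hle (Proj.awayToSection (𝒮.deg U hU) h z) =
      (Scheme.ΓSpecIso _).inv z := by
  let D := Proj.basicOpen (𝒮.deg U hU) h
  let τ := Proj.basicOpenIsoSpec (𝒮.deg U hU) h hh hd
  have e1 : τ.hom.appTop ((Scheme.ΓSpecIso _).inv z) = D.topIso.inv (Proj.awayToSection (𝒮.deg U hU) h z) := by
    rw [show τ.hom = Proj.basicOpenToSpec (𝒮.deg U hU) h from Proj.basicOpenIsoSpec_hom _ _ _ _]
    have h1 := congr($(Proj.basicOpenToSpec_app_top (𝒮.deg U hU) h) ((Scheme.ΓSpecIso _).inv z))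
    simp only [CommRingCat.comp_apply, Iso.inv_hom_id_apply] at h1
    exact h1
  have e2 : τ.inv.appTop (τ.hom.appTop ((Scheme.ΓSpecIso _).inv z)) = (Scheme.ΓSpecIso _).inv z := by
    rw [← CommRingCat.comp_apply, ← Scheme.Hom.comp_appTop, Iso.inv_hom_id, Scheme.Hom.id_appTop]
    rfl
  rw [e1] at e2
  refine Eq.trans ?_ e2
  have hι : (⊤ : D.toScheme.Opens) ≤ D.ι ⁻¹ᵁ D := fun x _ => x.2
  have e3 : D.ι.appLE D ⊤ hι = D.topIso.inv := by
    rw [Scheme.Opens.ι_appLE, Scheme.Opens.topIso_inv]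
    rfl
  have e4 : τ.inv.appTop = τ.inv.appLE ⊤ ⊤ (fun _ _ => trivial) := (Scheme.Hom.appLE_eq_app _).symm
  rw [← e3, e4]
  exact (congr($(Scheme.Hom.appLE_comp_appLE τ.inv D.ι D ⊤ ⊤ hι (fun _ _ => trivial))
    (Proj.awayToSection (𝒮.deg U hU) h z))).symm

/-- Reading a fraction through the standard chart. -/
theorem appLE_kap {U : S.Opens} (hU : IsAffineOpen U) {d : ℕ} (hd : 0 < d) {h : 𝒮.presheaf.obj (op U)}
    (hh : h ∈ 𝒮.deg U hU d) (hle : (⊤ : (Spec (CommRingCat.of (Away (𝒮.deg U hU) h))).Opens) ≤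
      (Proj.awayι (𝒮.deg U hU) h hh hd ≫ emb p chart U hU) ⁻¹ᵁ cb chart U hU h)
    (z : Away (𝒮.deg U hU) h) :
    (Proj.awayι (𝒮.deg U hU) h hh hd ≫ emb p chart U hU).appLE (cb chart U hU h) ⊤ hle (kap chart hU h z) =
      (Scheme.ΓSpecIso _).inv z := by
  have h1 : (⊤ : (Spec (CommRingCat.of (Away (𝒮.deg U hU) h))).Opens) ≤
      Proj.awayι (𝒮.deg U hU) h hh hd ⁻¹ᵁ Proj.basicOpen (𝒮.deg U hU) h := by
    rw [Scheme.Hom.comp_preimage] at hle
    exact hle.trans ((Proj.awayι (𝒮.deg U hU) h hh hd).preimage_mono (preimage_le_basicOpen hU le_rfl))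
  have h2 : Proj.basicOpen (𝒮.deg U hU) h ≤ emb p chart U hU ⁻¹ᵁ cb chart U hU h :=
    ((emb p chart U hU).preimage_image_eq _).ge
  have h3 := Scheme.Hom.appLE_comp_appLE (Proj.awayι (𝒮.deg U hU) h hh hd) (emb p chart U hU)
    (cb chart U hU h) (Proj.basicOpen (𝒮.deg U hU) h) ⊤ h2 h1
  have h4 : (emb p chart U hU).appLE (cb chart U hU h) (Proj.basicOpen (𝒮.deg U hU) h) h2 (kap chart hU h z) =
      Proj.awayToSection (𝒮.deg U hU) h z := by
    have h5 := Scheme.Hom.appIso_inv_appLE (emb p chart U hU) (U := Proj.basicOpen (𝒮.deg U hU) h)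
      (V := Proj.basicOpen (𝒮.deg U hU) h) h2
    have h6 := congrArg (fun φ => φ.hom (Proj.awayToSection (𝒮.deg U hU) h z)) h5
    dsimp only [CommRingCat.hom_comp, RingHom.comp_apply] at h6
    refine h6.trans ?_
    exact congrArg (fun φ => φ.hom (Proj.awayToSection (𝒮.deg U hU) h z)) ((Proj (𝒮.deg U hU)).presheaf.map_id _)
  rw [← h3, CommRingCat.comp_apply, h4]
  exact appLE_awayι hU hd hh h1 z

end Groth.Agent.H11QMap
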