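import Groth.Agent.H11QMap.TwistSec
import Groth.Agent.H11Tilde.Gen

/-!
# `O(n d)` is trivial where a global section of degree `d` does not vanish
-/

set_option autoImplicit false
set_option linter.style.haveILetI false

noncomputable section

universe u

open CategoryTheory CategoryTheory.Limits AlgebraicGeometry TopologicalSpace Opposite RelProj
open scoped HomogeneousIdeal

namespace Groth.Agent.H11QMap

open Groth.Agent.H11Tilde Groth.Agent.H11Proj Groth.Agent.H11Ample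

variable {S P : Scheme.{u}} {𝒮 : QCGrAlg S} {p : P ⟶ S}
  {chart : ∀ (U : S.Opens) (hU : IsAffineOpen U), (((p ⁻¹ᵁ U : P.Opens) : Scheme.{u}) ≅ Proj (𝒮.deg U hU))}

theorem cb_eq_image (U : S.Opens) (hU : IsAffineOpen U) (a : 𝒮.presheaf.obj (op U)) :
    cb chart U hU a = (p ⁻¹ᵁ U).ι ''ᵁ ((chart U hU).hom ⁻¹ᵁ Proj.basicOpen (𝒮.deg U hU) a) := by
  refine Opens.ext (Set.ext fun z => ⟨?_, ?_⟩)
  · rintro ⟨w, hw, rfl⟩
    refine ⟨(chart U hU).inv w, ?_, rfl⟩
    show (chart U hU).hom ((chart U hU).inv w) ∈ Proj.basicOpen (𝒮.deg U hU) a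
    rw [← Scheme.Hom.comp_apply, Iso.inv_hom_id]
    exact hw
  · rintro ⟨t, ht, rfl⟩
    refine ⟨(chart U hU).hom t, ht, ?_⟩
    show (emb p chart U hU) ((chart U hU).hom t) = _
    rw [← Scheme.Hom.comp_apply]
    simp [emb]

theorem nonempty_twist_restrict_section_iso (hP : IsRelProj 𝒮 p chart) {d : ℕ} (hd : 0 < d)
    (f : 𝒮.presheaf.obj (op ⊤))
    (hf : ∀ (U : S.Opens) (hU : IsAffineOpen U), (𝒮.presheaf.map (homOfLE le_top).op).hom f ∈ 𝒮.deg U hU d)
    (Xf : P.Opens)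
    (hXf : ∀ (U : S.Opens) (hU : IsAffineOpen U),
      Xf ⊓ p ⁻¹ᵁ U = cb chart U hU ((𝒮.presheaf.map (homOfLE le_top).op).hom f))
    (n : ℤ) {L : P.Modules}
    {lam : ∀ (U : S.Opens) (hU : IsAffineOpen U),
      L ⟶ (Scheme.Modules.pushforward (emb p chart U hU)).obj (GrTwist.twist (𝒮.deg U hU) (n * (d : ℤ)))}
    (hL : IsRelTwist 𝒮 p chart (n * (d : ℤ)) L lam) :
    Nonempty (L.restrict Xf.ι ≅ Coh.structureModule (Xf : Scheme.{u})) := by
  classical
  let k₁ := n.toNat + 1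
  let k₂ := (-n).toNat + 1
  let F : ∀ (U : S.Opens), 𝒮.presheaf.obj (op U) := fun U => (𝒮.presheaf.map (homOfLE le_top).op).hom f
  have hij : ((k₁ * d : ℕ) : ℤ) = ((k₂ * d : ℕ) : ℤ) + n * (d : ℤ) := by
    have : (n.toNat : ℤ) - (-n).toNat = n := Int.toNat_sub_toNat_neg n
    simp only [k₁, k₂]
    push_cast
    rw [← add_mul]
    congr 1
    omega
  have hm : ∀ (U : S.Opens) (hU : IsAffineOpen U) (k : ℕ), F U ^ k ∈ 𝒮.deg U hU (k * d) := fun U hU k => by
    simpa using SetLike.pow_mem_graded k (hf U hU)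
  have hcb : ∀ (U : S.Opens) (hU : IsAffineOpen U),
      Xf ⊓ p ⁻¹ᵁ U ≤ cb chart U hU (F U ^ k₁ * F U ^ k₂) := fun U hU => by
    rw [hXf U hU, ← pow_add, cb, cb, Proj.basicOpen_pow _ _ _ (Nat.add_pos_left (Nat.succ_pos _) _)]
  let I := {U : S.Opens // IsAffineOpen U}
  let W : I → P.Opens := fun U => Xf ⊓ p ⁻¹ᵁ U.1
  let sec : ∀ U : I, Γ(L, W U) := fun U =>
    resS L (hcb U.1 U.2) (fs hL U.2 (hm U.1 U.2 k₁) (hm U.1 U.2 k₂) hij)
  have hcompat : TopCat.Presheaf.IsCompatible L.presheaf W sec := by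
    intro U U'
    refine eq_of_locally _ _ fun x hx => ?_
    obtain ⟨V, hV, hxV, hVle⟩ := exists_isAffineOpen_mem_and_subset (U := U.1 ⊓ U'.1) (x := p x) ⟨hx.1.2, hx.2.2⟩
    let W' := W U ⊓ W U' ⊓ p ⁻¹ᵁ V
    refine ⟨W', inf_le_left, ⟨hx, hxV⟩, ?_⟩
    have l : V ≤ U.1 := fun y hy => (hVle hy).1
    have l' : V ≤ U'.1 := fun y hy => (hVle hy).2
    have hpow : ∀ (T : S.Opens) (hT : IsAffineOpen T) (i : V ≤ T) (k : ℕ), 𝒮.res hT hV i (F T ^ k) = F V ^ k :=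
      fun T hT i k => by
        rw [map_pow]
        refine congrArg (· ^ k) ?_
        exact (congr($(𝒮.presheaf.map_comp (homOfLE (le_top : T ≤ ⊤)).op (homOfLE i).op) f)).symm
    have hV' : W' ≤ Xf ⊓ p ⁻¹ᵁ V := fun y hy => ⟨hy.1.1.1, hy.2⟩
    have hb : W' ≤ cb chart V hV (F V ^ k₁ * F V ^ k₂) := hV'.trans (hcb V hV)
    have key : ∀ (T : S.Opens) (hT : IsAffineOpen T) (i : V ≤ T) (h : W' ≤ cb chart T hT (F T ^ k₁ * F T ^ k₂)),
        resS L h (fs hL hT (hm T hT k₁) (hm T hT k₂) hij) =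
          resS L hb (fs hL hV (hm V hV k₁) (hm V hV k₂) hij) := fun T hT i h => by
      rw [fs_res' hL hP hT hV i (hm T hT k₁) (hm T hT k₂) hij h (by rw [hpow, hpow]; exact hb)]
      exact fs_congr hL hV (hpow T hT i k₁) (hpow T hT i k₂) _ _ _ _ _ _ _ _
    change resS L inf_le_left (resS L inf_le_left (sec U)) = resS L inf_le_left (resS L inf_le_right (sec U'))
    simp only [sec, resS_resS]
    exact (key U.1 U.2 l _).trans (key U'.1 U'.2 l' _).symm
  have hcov : Xf ≤ iSup W := fun x hx => by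
    obtain ⟨U, hU, hxU, -⟩ := exists_isAffineOpen_mem_and_subset (U := ⊤) (x := p x) trivial
    exact Opens.mem_iSup.2 ⟨⟨U, hU⟩, hx, hxU⟩
  obtain ⟨g, hg, -⟩ := TopCat.Sheaf.existsUnique_gluing' (F := ⟨L.presheaf, L.isSheaf⟩) W Xf
    (fun U => homOfLE inf_le_left) hcov sec hcompat
  let g' : Γ(L, Xf) := g
  have hgen : IsGen L g' := fun y hy => by
    obtain ⟨U, hyU⟩ := Opens.mem_iSup.1 (hcov hy)
    have h1 := congrArg (L.presheaf.germ (W U) y hyU) (hg U)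
    have h2 : Function.Bijective fun r : P.presheaf.stalk y => r • L.presheaf.germ (W U) y hyU (sec U) :=
      ((isGen_fs hL U.2 (hm U.1 U.2 k₁) (hm U.1 U.2 k₂) hij).res (hcb U.1 U.2)) y hyU
    rw [← h1] at h2
    erw [TopCat.Presheaf.germ_res_apply] at h2
    exact h2
  exact H11Tilde.nonempty_iso_structureModule L Xf g' fun V hV => hgen.bijective hV

end Groth.Agent.H11QMap
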